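import Cfsg.Agent.H27.ProjLine
import Mathlib.FieldTheory.Finite.GaloisField

/-!
Small permutation representations read off from invariant families of predicates, and transport of
SL/PSL along field isomorphisms.
-/

set_option autoImplicit false

namespace Cfsg.Agent.H27.PermFamily

open Matrix

/-- SL along a field isomorphism. -/
def slCongr {ι F K : Type*} [Fintype ι] [DecidableEq ι] [CommRing F] [CommRing K] (e : F ≃+* K) :
    SpecialLinearGroup ι F ≃* SpecialLinearGroup ι K where
  toFun := Matrix.SpecialLinearGroup.map e.toRingHom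
  invFun := Matrix.SpecialLinearGroup.map e.symm.toRingHom
  left_inv g := by ext i j; simp
  right_inv g := by ext i j; simp
  map_mul' a b := map_mul _ a b

/-- PSL along a field isomorphism. -/
noncomputable def pslCongr {ι F K : Type*} [Fintype ι] [DecidableEq ι] [CommRing F] [CommRing K]
    (e : F ≃+* K) : ProjectiveSpecialLinearGroup ι F ≃* ProjectiveSpecialLinearGroup ι K :=
  QuotientGroup.congr _ _ (slCongr e) (by
    ext x
    constructor
    · rintro ⟨z, hz, rfl⟩
      refine Subgroup.mem_center_iff.2 fun y => ?_
      obtain ⟨y, rfl⟩ := (slCongr e).surjective y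
      change slCongr e y * slCongr e z = slCongr e z * slCongr e y
      rw [← map_mul, ← map_mul, Subgroup.mem_center_iff.1 hz y]
    · intro hx
      refine ⟨(slCongr e).symm x, Subgroup.mem_center_iff.2 fun y => (slCongr e).injective ?_,
        (slCongr e).apply_symm_apply x⟩
      rw [map_mul, map_mul, MulEquiv.apply_symm_apply]
      exact Subgroup.mem_center_iff.1 hx _)

variable {G Ω : Type*} [Group G] [MulAction G Ω] {n : ℕ}

/-- `g` carries the family `χ` to itself. -/
def Stable (χ : Fin n → Ω → Bool) (g : G) : Prop := ∀ i, ∃ j, ∀ x, χ j (g • x) = χ i x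

theorem stable_mul {χ : Fin n → Ω → Bool} {g h : G} (hg : Stable χ g) (hh : Stable χ h) :
    Stable χ (g * h) := by
  intro i
  obtain ⟨j, hj⟩ := hh i
  obtain ⟨k, hk⟩ := hg j
  exact ⟨k, fun x => by rw [mul_smul, hk, hj]⟩

theorem stable_one (χ : Fin n → Ω → Bool) : Stable χ (1 : G) :=
  fun i => ⟨i, fun x => by rw [one_smul]⟩

variable (χ : Fin n → Ω → Bool) (hinj : Function.Injective χ) (h : ∀ g : G, Stable χ g)

/-- the index map of `g` -/
noncomputable def idx (g : G) (i : Fin n) : Fin n := (h g i).choose

include hinj in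
theorem idx_eq {g : G} {i j : Fin n} (hj : ∀ x, χ j (g • x) = χ i x) : idx χ h g i = j := by
  apply hinj
  funext x
  have h1 := (h g i).choose_spec (g⁻¹ • x)
  have h2 := hj (g⁻¹ • x)
  rw [smul_inv_smul] at h1 h2
  exact h1.trans h2.symm

theorem idx_spec (g : G) (i : Fin n) (x : Ω) : χ (idx χ h g i) (g • x) = χ i x :=
  (h g i).choose_spec x

include hinj in
theorem idx_mul (g k : G) (i : Fin n) : idx χ h (g * k) i = idx χ h g (idx χ h k i) :=
  idx_eq χ hinj h fun x => by rw [mul_smul, idx_spec χ h g, idx_spec χ h k]

include hinj in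
theorem idx_one (i : Fin n) : idx χ h (1 : G) i = i :=
  idx_eq χ hinj h fun x => by rw [one_smul]

/-- the permutation representation -/
noncomputable def permHom : G →* Equiv.Perm (Fin n) where
  toFun g :=
    { toFun := idx χ h g
      invFun := idx χ h g⁻¹
      left_inv := fun i => by rw [← idx_mul χ hinj h, inv_mul_cancel, idx_one χ hinj h]
      right_inv := fun i => by rw [← idx_mul χ hinj h, mul_inv_cancel, idx_one χ hinj h] }
  map_one' := by ext i; exact congrArg Fin.val (idx_one χ hinj h i)
  map_mul' g k := by ext i; exact congrArg Fin.val (idx_mul χ hinj h g k i)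

theorem permHom_eq_one_iff (g : G) :
    permHom χ hinj h g = 1 ↔ ∀ i x, χ i (g • x) = χ i x := by
  constructor
  · intro hg i x
    have h1 : idx χ h g i = i := DFunLike.congr_fun hg i
    have h2 := idx_spec χ h g i x
    rwa [h1] at h2
  · intro hg
    exact Equiv.ext fun i => idx_eq χ hinj h (hg i)

/-- A map from SL with central kernel part to an alternating group. -/
theorem psl_equiv_alternating {ι F : Type*} [Fintype ι] [DecidableEq ι] [Field F] [Finite F]
    [IsSimpleGroup (ProjectiveSpecialLinearGroup ι F)]
    (f : SpecialLinearGroup ι F →* Equiv.Perm (Fin n))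
    (hZ : Subgroup.center (SpecialLinearGroup ι F) ≤ f.ker) (hne : f ≠ 1)
    (hc : 2 * Nat.card (ProjectiveSpecialLinearGroup ι F) = n.factorial) :
    Nonempty (ProjectiveSpecialLinearGroup ι F ≃* alternatingGroup (Fin n)) := by
  let g : ProjectiveSpecialLinearGroup ι F →* Equiv.Perm (Fin n) := QuotientGroup.lift _ f hZ
  have hg : Function.Injective g := by
    rcases Subgroup.Normal.eq_bot_or_eq_top (MonoidHom.normal_ker g) with h0 | h0
    · exact (MonoidHom.ker_eq_bot_iff g).1 h0
    · exfalso
      apply hne
      ext1 x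
      exact MonoidHom.mem_ker.1
        (h0 ▸ Subgroup.mem_top (QuotientGroup.mk x : ProjectiveSpecialLinearGroup ι F) :
          (QuotientGroup.mk x : ProjectiveSpecialLinearGroup ι F) ∈ g.ker)
  exact Cfsg.Agent.H27.ProjLine.equiv_alternating g hg (n := n) (by simp) hc

end Cfsg.Agent.H27.PermFamily
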