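import Cfsg.Prelude.Def_LieExceptional

/-!
Tits systems: Bruhat decomposition, length, exchange condition and parabolic subgroups, for
`Cfsg.BNPair`.

* `exists_mem_cell` : `G = ⋃ B n B`;
* `eqv_of_mem_cell` : `B n B = B m B` iff `n⁻¹ m ∈ B`;
* `cell_mul_of_len_le`, `exists_mem_cell_of_descent`, `len_smul_ne`, `exchange` : length calculus;
* `mem_parabolic_iff`, `mem_of_mem_parabolic`, `eq_parabolic_of_le`, `normalizer_parabolic`,
  `parabolic_eq_of_conj`, `descent_mem_sup_conj`.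
-/

set_option autoImplicit false

namespace Cfsg.Agent.H27.BN

open scoped Pointwise

variable {G : Type*} [Group G] (P : Cfsg.BNPair G)

/-- The cell `B n B`. -/
def cell (n : G) : Set G := DoubleCoset.doubleCoset n (P.B : Set G) P.B

theorem mem_cell {n x : G} : x ∈ cell P n ↔ ∃ b ∈ P.B, ∃ c ∈ P.B, x = b * n * c := by
  simp [cell, DoubleCoset.mem_doubleCoset]

theorem self_mem_cell (n : G) : n ∈ cell P n := by
  rw [mem_cell]; exact ⟨1, one_mem _, 1, one_mem _, by group⟩

theorem mul_mem_cell {n x b c : G} (hb : b ∈ P.B) (hc : c ∈ P.B) (hx : x ∈ cell P n) :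
    b * x * c ∈ cell P n := by
  rw [mem_cell] at hx ⊢
  obtain ⟨b', hb', c', hc', rfl⟩ := hx
  exact ⟨b * b', mul_mem hb hb', c' * c, mul_mem hc' hc, by group⟩

theorem left_mul_mem_cell {n x b : G} (hb : b ∈ P.B) (hx : x ∈ cell P n) :
    b * x ∈ cell P n := by
  simpa using mul_mem_cell P hb (one_mem _) hx

theorem right_mul_mem_cell {n x c : G} (hc : c ∈ P.B) (hx : x ∈ cell P n) :
    x * c ∈ cell P n := by
  simpa using mul_mem_cell P (one_mem _) hc hx

theorem cell_subset_of_mem {n m : G} (h : n ∈ cell P m) : cell P n ⊆ cell P m := by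
  intro x hx
  obtain ⟨b, hb, c, hc, rfl⟩ := (mem_cell P).1 hx
  exact mul_mem_cell P hb hc h

theorem mem_cell_symm {n m : G} (h : n ∈ cell P m) : m ∈ cell P n := by
  obtain ⟨b, hb, c, hc, rfl⟩ := (mem_cell P).1 h
  rw [mem_cell]; exact ⟨b⁻¹, inv_mem hb, c⁻¹, inv_mem hc, by group⟩

theorem cell_eq_of_mem {n m : G} (h : n ∈ cell P m) : cell P n = cell P m :=
  Set.Subset.antisymm (cell_subset_of_mem P h) (cell_subset_of_mem P (mem_cell_symm P h))

theorem cell_one_iff {x : G} : x ∈ cell P 1 ↔ x ∈ P.B := by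
  rw [mem_cell]
  constructor
  · rintro ⟨b, hb, c, hc, rfl⟩; simpa using mul_mem hb hc
  · intro hx; exact ⟨x, hx, 1, one_mem _, by group⟩

theorem conj_mem' {n t : G} (hn : n ∈ P.N) (htB : t ∈ P.B) (htN : t ∈ P.N) :
    n⁻¹ * t * n ∈ P.B := by
  simpa using P.conj_mem n⁻¹ (inv_mem hn) t ⟨htB, htN⟩

theorem inv_eq_mul {s : G} : s⁻¹ = s * (s * s)⁻¹ := by group

theorem mem_N {s : G} (hs : s ∈ P.S) : s ∈ P.N := P.subset hs

/-- congruence modulo `B ∩ N` -/
def Eqv (n m : G) : Prop := n⁻¹ * m ∈ P.B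

variable {P}

theorem Eqv.refl (n : G) : Eqv P n n := by simp [Eqv, one_mem]

theorem Eqv.symm {n m : G} (h : Eqv P n m) : Eqv P m n := by
  simpa [Eqv] using inv_mem h

theorem Eqv.trans {n m k : G} (h : Eqv P n m) (h' : Eqv P m k) : Eqv P n k := by
  have := mul_mem h h'
  simpa [Eqv, mul_assoc] using this

theorem Eqv.mul_left {n m : G} (h : Eqv P n m) (a : G) : Eqv P (a * n) (a * m) := by
  simpa [Eqv, mul_assoc] using h

theorem Eqv.mul_right {n m a : G} (h : Eqv P n m) (hn : n ∈ P.N) (hm : m ∈ P.N) (ha : a ∈ P.N) :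
    Eqv P (n * a) (m * a) := by
  have := conj_mem' P ha h (mul_mem (inv_mem hn) hm)
  simpa [Eqv, mul_assoc] using this

theorem Eqv.inv {n m : G} (h : Eqv P n m) (hn : n ∈ P.N) (hm : m ∈ P.N) : Eqv P n⁻¹ m⁻¹ := by
  have h1 : Eqv P (n * n⁻¹) (m * n⁻¹) := h.mul_right hn hm (inv_mem hn)
  rw [mul_inv_cancel] at h1
  simpa using (h1.mul_left m⁻¹).symm

theorem Eqv.mem_cell {n m : G} (h : Eqv P n m) : m ∈ cell P n :=
  (Cfsg.Agent.H27.BN.mem_cell P).2 ⟨1, one_mem _, n⁻¹ * m, h, by group⟩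

theorem Eqv.cell_eq {n m : G} (h : Eqv P n m) : cell P n = cell P m :=
  (cell_eq_of_mem P h.mem_cell).symm

theorem eqv_sq {s n : G} (hs : s ∈ P.S) (hn : n ∈ P.N) : Eqv P (s * (s * n)) n := by
  have hsN := mem_N P hs
  have h1 : Eqv P (s * s) 1 := by simpa [Eqv] using inv_mem (P.sq_mem s hs)
  simpa [mul_assoc] using h1.mul_right (mul_mem hsN hsN) (one_mem _) hn

variable (P)

theorem not_mem_B {s : G} (hs : s ∈ P.S) : s ∉ P.B := by
  intro h
  apply P.conj_ne s hs
  ext x
  constructor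
  · rintro ⟨b, hb, rfl⟩; exact mul_mem (mul_mem h hb) h
  · intro hx
    exact ⟨s⁻¹ * x * s⁻¹, mul_mem (mul_mem (inv_mem h) hx) (inv_mem h), by group⟩

/-- `n` is congruent to a product of `k` letters from `S`. -/
def IsWord (k : ℕ) (n : G) : Prop :=
  ∃ l : List G, l.length = k ∧ (∀ s ∈ l, s ∈ P.S) ∧ Eqv P n l.prod

theorem prod_mem_N {l : List G} (hl : ∀ s ∈ l, s ∈ P.S) : l.prod ∈ P.N :=
  list_prod_mem fun s hs => mem_N P (hl s hs)

theorem prod_inv_eqv {l : List G} (hl : ∀ s ∈ l, s ∈ P.S) : Eqv P l.prod⁻¹ l.reverse.prod := by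
  induction l with
  | nil => simpa using Eqv.refl (P := P) 1
  | cons s l ih =>
    have hs : s ∈ P.S := hl s (by simp)
    have hl' : ∀ x ∈ l, x ∈ P.S := fun x hx => hl x (by simp [hx])
    have hsN := mem_N P hs
    have h1 : Eqv P s⁻¹ s := by simpa [Eqv] using P.sq_mem s hs
    have hr : l.reverse.prod ∈ P.N := prod_mem_N P (fun x hx => hl' x (List.mem_reverse.1 hx))
    have h2 : Eqv P (l.prod⁻¹ * s⁻¹) (l.reverse.prod * s⁻¹) :=
      (ih hl').mul_right (inv_mem (prod_mem_N P hl')) hr (inv_mem hsN)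
    simpa [List.prod_append] using h2.trans (h1.mul_left l.reverse.prod)

theorem exists_isWord {n : G} (hn : n ∈ P.N) : ∃ k, IsWord P k n := by
  let H : Subgroup G :=
    { carrier := {n | n ∈ P.N ∧ ∃ k, IsWord P k n}
      one_mem' := ⟨one_mem _, 0, [], rfl, by simp, by simpa using Eqv.refl (P := P) 1⟩
      mul_mem' := by
        rintro a b ⟨ha, _, l, -, hl, hla⟩ ⟨hb, _, l', -, hl', hlb⟩
        refine ⟨mul_mem ha hb, _, l ++ l', rfl, ?_, ?_⟩
        · intro s hs
          rcases List.mem_append.1 hs with h | h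
          · exact hl s h
          · exact hl' s h
        · rw [List.prod_append]
          exact (hla.mul_right ha (prod_mem_N P hl) hb).trans (hlb.mul_left _)
      inv_mem' := by
        rintro a ⟨ha, _, l, -, hl, hla⟩
        refine ⟨inv_mem ha, _, l.reverse, rfl, fun s hs => hl s (List.mem_reverse.1 hs), ?_⟩
        exact (hla.inv ha (prod_mem_N P hl)).trans (prod_inv_eqv P hl) }
  have hN : P.N ≤ H := by
    conv_lhs => rw [← P.closure_sup]
    refine sup_le ((Subgroup.closure_le H).2 ?_) ?_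
    · intro s hs
      exact ⟨mem_N P hs, 1, [s], rfl, by simpa using hs, by simpa using Eqv.refl (P := P) s⟩
    · rintro t ⟨htB, htN⟩
      exact ⟨htN, 0, [], rfl, by simp, by simpa [Eqv] using P.B.inv_mem htB⟩
  exact (hN hn).2

/-- The length of `n` modulo `B ∩ N` in the generators `S`. -/
noncomputable def len (n : G) : ℕ := sInf {k | IsWord P k n}

theorem len_spec {n : G} (hn : n ∈ P.N) : IsWord P (len P n) n :=
  Nat.sInf_mem (exists_isWord P hn)

theorem len_le {n : G} {l : List G} (hl : ∀ s ∈ l, s ∈ P.S) (h : Eqv P n l.prod) :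
    len P n ≤ l.length :=
  Nat.sInf_le ⟨l, rfl, hl, h⟩

theorem len_congr {n m : G} (hn : n ∈ P.N) (hm : m ∈ P.N) (h : Eqv P n m) :
    len P n = len P m := by
  obtain ⟨l, hk, hl, he⟩ := len_spec P hn
  obtain ⟨l', hk', hl', he'⟩ := len_spec P hm
  exact le_antisymm (hk' ▸ len_le P hl' (h.trans he')) (hk ▸ len_le P hl (h.symm.trans he))

theorem len_smul_le {s n : G} (hs : s ∈ P.S) (hn : n ∈ P.N) : len P (s * n) ≤ len P n + 1 := by
  obtain ⟨l, hk, hl, he⟩ := len_spec P hn
  have := len_le P (l := s :: l) (by simpa using ⟨hs, hl⟩) (by simpa using he.mul_left s)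
  simpa [hk] using this

theorem len_le_smul {s n : G} (hs : s ∈ P.S) (hn : n ∈ P.N) : len P n ≤ len P (s * n) + 1 := by
  have hsn : s * n ∈ P.N := mul_mem (mem_N P hs) hn
  rw [← len_congr P (mul_mem (mem_N P hs) hsn) hn (eqv_sq hs hn)]
  exact len_smul_le P hs hsn

theorem len_mul_le {s n : G} (hs : s ∈ P.S) (hn : n ∈ P.N) : len P (n * s) ≤ len P n + 1 := by
  obtain ⟨l, hk, hl, he⟩ := len_spec P hn
  have hl' : ∀ x ∈ l ++ [s], x ∈ P.S := by
    intro x hx
    rcases List.mem_append.1 hx with h | h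
    · exact hl x h
    · simp only [List.mem_singleton] at h; exact h ▸ hs
  have := len_le P hl' (n := n * s)
    (by simpa [List.prod_append] using he.mul_right hn (prod_mem_N P hl) (mem_N P hs))
  simpa [hk] using this

theorem mem_B_of_len_eq_zero {n : G} (hn : n ∈ P.N) (h : len P n = 0) : n ∈ P.B := by
  obtain ⟨l, hk, -, he⟩ := len_spec P hn
  rw [h, List.length_eq_zero_iff] at hk
  subst hk
  simpa [Eqv] using he

theorem exists_left_split {n : G} (hn : n ∈ P.N) {k : ℕ} (h : len P n = k + 1) :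
    ∃ s ∈ P.S, ∃ n₁ ∈ P.N, n = s * n₁ ∧ len P n₁ = k := by
  obtain ⟨l, hk, hl, he⟩ := len_spec P hn
  rw [h] at hk
  cases l with
  | nil => simp at hk
  | cons s l =>
    have hs : s ∈ P.S := hl s (by simp)
    have hl' : ∀ x ∈ l, x ∈ P.S := fun x hx => hl x (by simp [hx])
    refine ⟨s, hs, s⁻¹ * n, mul_mem (inv_mem (mem_N P hs)) hn, by group, ?_⟩
    have h1 : len P (s⁻¹ * n) ≤ l.length := len_le P hl' (by simpa using he.mul_left s⁻¹)
    have h2 := len_smul_le P hs (mul_mem (inv_mem (mem_N P hs)) hn)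
    rw [mul_inv_cancel_left, h] at h2
    simp only [List.length_cons] at hk
    omega

theorem exists_right_split {n : G} (hn : n ∈ P.N) {k : ℕ} (h : len P n = k + 1) :
    ∃ s ∈ P.S, ∃ n₁ ∈ P.N, n = n₁ * s ∧ len P n₁ = k := by
  obtain ⟨l, hk, hl, he⟩ := len_spec P hn
  rw [h] at hk
  rcases List.eq_nil_or_concat l with rfl | ⟨u, s, rfl⟩
  · simp at hk
  · simp only [List.concat_eq_append, List.length_append, List.length_singleton] at hk
    simp only [List.concat_eq_append, List.mem_append, List.mem_singleton] at hl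
    have hs : s ∈ P.S := hl s (Or.inr rfl)
    have hu : ∀ x ∈ u, x ∈ P.S := fun x hx => hl x (Or.inl hx)
    have hsN := mem_N P hs
    refine ⟨s, hs, n * s⁻¹, mul_mem hn (inv_mem hsN), by group, ?_⟩
    have he' : Eqv P (n * s⁻¹) u.prod := by
      have := he.mul_right hn (prod_mem_N P (by simpa using hl)) (inv_mem hsN)
      simpa [List.prod_append, mul_assoc] using this
    have h1 : len P (n * s⁻¹) ≤ u.length := len_le P hu he'
    have h2 := len_mul_le P hs (mul_mem hn (inv_mem hsN))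
    rw [inv_mul_cancel_right, h] at h2
    omega

theorem smul_mem_union {s n x : G} (hs : s ∈ P.S) (hn : n ∈ P.N) (hx : x ∈ cell P n) :
    s * x ∈ cell P (s * n) ∪ cell P n := by
  obtain ⟨b, hb, c, hc, rfl⟩ := (mem_cell P).1 hx
  have e : s * (b * n * c) = s * b * n * c := by group
  rw [e]
  rcases P.mul_mem_union s hs n hn b hb with h | h
  · exact Or.inl (right_mul_mem_cell P hc h)
  · exact Or.inr (right_mul_mem_cell P hc h)

theorem mul_mem_union' {s n x : G} (hs : s ∈ P.S) (hn : n ∈ P.N) (hx : x ∈ cell P n) :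
    x * s ∈ cell P (n * s) ∪ cell P n := by
  have hinv : ∀ {a y : G}, y ∈ cell P a → y⁻¹ ∈ cell P a⁻¹ := by
    intro a y hy
    obtain ⟨b, hb, c, hc, rfl⟩ := (mem_cell P).1 hy
    exact (mem_cell P).2 ⟨c⁻¹, inv_mem hc, b⁻¹, inv_mem hb, by group⟩
  have hsN := mem_N P hs
  have h1 : s * ((s * s)⁻¹ * x⁻¹) ∈ cell P (s * n⁻¹) ∪ cell P n⁻¹ :=
    smul_mem_union P hs (inv_mem hn) (left_mul_mem_cell P (inv_mem (P.sq_mem s hs)) (hinv hx))
  have e : (s * ((s * s)⁻¹ * x⁻¹))⁻¹ = x * s := by group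
  rcases h1 with h | h
  · left
    have h' := hinv h
    rw [e, mul_inv_rev, inv_inv] at h'
    have hs' : Eqv P s⁻¹ s := by simpa [Eqv] using P.sq_mem s hs
    rwa [(hs'.mul_left n).cell_eq] at h'
  · right
    have h' := hinv h
    rwa [e, inv_inv] at h'

/-- Bruhat decomposition. -/
theorem exists_mem_cell (g : G) : ∃ n ∈ P.N, g ∈ cell P n := by
  let U : Set G := {x | ∃ n ∈ P.N, x ∈ cell P n}
  let H : Subgroup G :=
    { carrier := {g | ∀ x ∈ U, g * x ∈ U ∧ g⁻¹ * x ∈ U}
      one_mem' := fun x hx => by simpa using hx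
      mul_mem' := by
        intro a b ha hb x hx
        refine ⟨?_, ?_⟩
        · rw [mul_assoc]; exact (ha _ (hb x hx).1).1
        · rw [mul_inv_rev, mul_assoc]; exact (hb _ (ha x hx).2).2
      inv_mem' := by
        intro a ha x hx
        rw [inv_inv]; exact ⟨(ha x hx).2, (ha x hx).1⟩ }
  have hB : P.B ≤ H := by
    rintro b hb x ⟨n, hn, hx⟩
    exact ⟨⟨n, hn, left_mul_mem_cell P hb hx⟩, ⟨n, hn, left_mul_mem_cell P (inv_mem hb) hx⟩⟩
  have hS : ∀ s ∈ P.S, ∀ x ∈ U, s * x ∈ U := by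
    rintro s hs x ⟨n, hn, hx⟩
    rcases smul_mem_union P hs hn hx with h | h
    · exact ⟨_, mul_mem (mem_N P hs) hn, h⟩
    · exact ⟨n, hn, h⟩
  have hN : P.N ≤ H := by
    conv_lhs => rw [← P.closure_sup]
    refine sup_le ((Subgroup.closure_le H).2 ?_) (inf_le_left.trans hB)
    intro s hs x hx
    refine ⟨hS s hs x hx, ?_⟩
    obtain ⟨n, hn, hx'⟩ := hx
    rw [inv_eq_mul (s := s), mul_assoc]
    exact hS s hs _ ⟨n, hn, left_mul_mem_cell P (inv_mem (P.sq_mem s hs)) hx'⟩
  have hg : g ∈ H := by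
    have : (⊤ : Subgroup G) ≤ H := P.sup_eq_top ▸ sup_le hB hN
    exact this trivial
  have := (hg 1 ⟨1, one_mem _, self_mem_cell P 1⟩).1
  rwa [mul_one] at this

theorem eqv_of_mem_cell_aux (k : ℕ) : ∀ n ∈ P.N, ∀ m ∈ P.N, len P n = k → k ≤ len P m →
    n ∈ cell P m → Eqv P n m := by
  induction k with
  | zero =>
    intro n hn m hm hk _ h
    have hnB := mem_B_of_len_eq_zero P hn hk
    have h1 : m ∈ cell P 1 := cell_subset_of_mem P ((cell_one_iff P).2 hnB) (mem_cell_symm P h)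
    exact mul_mem (inv_mem hnB) ((cell_one_iff P).1 h1)
  | succ k ih =>
    intro n hn m hm hk hle h
    obtain ⟨s, hs, n₁, hn₁, rfl, hk₁⟩ := exists_left_split P hn hk
    have hsN := mem_N P hs
    obtain ⟨b, hb, c, hc, he⟩ := (mem_cell P).1 h
    have h1 : n₁ ∈ cell P (s * m) ∪ cell P m := by
      have e : n₁ = s * ((s * s)⁻¹ * (s * n₁)) := by group
      rw [e, he]
      exact smul_mem_union P hs hm
        (left_mul_mem_cell P (inv_mem (P.sq_mem s hs)) ((mem_cell P).2 ⟨b, hb, c, hc, rfl⟩))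
    rcases h1 with h1 | h1
    · have hle' : k ≤ len P (s * m) := by
        have := len_le_smul P hs hm
        omega
      exact ((ih n₁ hn₁ _ (mul_mem hsN hm) hk₁ hle' h1).mul_left s).trans (eqv_sq hs hm)
    · have := len_congr P hn₁ hm (ih n₁ hn₁ m hm hk₁ (by omega) h1)
      omega

theorem eqv_of_mem_cell {n m : G} (hn : n ∈ P.N) (hm : m ∈ P.N) (h : n ∈ cell P m) :
    Eqv P n m := by
  rcases le_total (len P n) (len P m) with hle | hle
  · exact eqv_of_mem_cell_aux P _ n hn m hm rfl hle h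
  · exact (eqv_of_mem_cell_aux P _ m hm n hn rfl hle (mem_cell_symm P h)).symm

theorem eqv_of_mem_cells {n m x : G} (hn : n ∈ P.N) (hm : m ∈ P.N) (hxn : x ∈ cell P n)
    (hxm : x ∈ cell P m) : Eqv P n m := by
  apply eqv_of_mem_cell P hn hm
  rw [← cell_eq_of_mem P hxm, cell_eq_of_mem P hxn]
  exact self_mem_cell P n

/-- If `ℓ(sn) ≥ ℓ(n)` then `s B n ⊆ B s n B`. -/
theorem cell_mul_of_len_le {s : G} (hs : s ∈ P.S) (n : G) (hn : n ∈ P.N)
    (hle : len P n ≤ len P (s * n)) (b : G) (hb : b ∈ P.B) :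
    s * b * n ∈ cell P (s * n) := by
  obtain ⟨k, hk⟩ : ∃ k, len P n = k := ⟨_, rfl⟩
  induction k generalizing n with
  | zero =>
    have hnB := mem_B_of_len_eq_zero P hn hk
    exact (mem_cell P).2 ⟨1, one_mem _, n⁻¹ * b * n, mul_mem (mul_mem (inv_mem hnB) hb) hnB,
      by group⟩
  | succ k ih =>
    obtain ⟨c, hc, n₁, hn₁, rfl, hk₁⟩ := exists_right_split P hn hk
    have hsN := mem_N P hs
    have hcN := mem_N P hc
    have hsn₁ : s * n₁ ∈ P.N := mul_mem hsN hn₁
    have h1 : len P (s * n₁ * c) ≤ len P (s * n₁) + 1 := len_mul_le P hc hsn₁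
    rw [mul_assoc] at h1
    have h2 : s * b * n₁ ∈ cell P (s * n₁) := ih n₁ hn₁ (by omega) hk₁
    have h3 := mul_mem_union' P hc hsn₁ h2
    have h4 := P.mul_mem_union s hs (n₁ * c) (mul_mem hn₁ hcN) b hb
    rw [← mul_assoc (s * b) n₁ c]
    rcases h3 with h3 | h3
    · rwa [mul_assoc s n₁ c] at h3
    · rcases h4 with h4 | h4
      · rwa [← mul_assoc (s * b) n₁ c] at h4
      · rw [← mul_assoc (s * b) n₁ c] at h4
        have h5 : Eqv P (s * n₁) (n₁ * c) := eqv_of_mem_cells P hsn₁ (mul_mem hn₁ hcN) h3 h4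
        have h6 : Eqv P n₁ (s * (n₁ * c)) :=
          (eqv_sq hs hn₁).symm.trans (h5.mul_left s)
        have := len_congr P hn₁ (mul_mem hsN (mul_mem hn₁ hcN)) h6
        omega

theorem exists_conj_mem_cell {s : G} (hs : s ∈ P.S) :
    ∃ b ∈ P.B, s * b * s ∈ cell P s := by
  have h : ∃ b ∈ P.B, s * b * s ∉ P.B := by
    by_contra hcon
    push Not at hcon
    apply P.conj_ne s hs
    ext x
    refine ⟨?_, fun hx => ?_⟩
    · rintro ⟨b, hb, rfl⟩; exact hcon b hb
    · refine ⟨(s * s)⁻¹ * (s * x * s) * (s * s)⁻¹, mul_mem (mul_mem (inv_mem (P.sq_mem s hs))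
        (hcon x hx)) (inv_mem (P.sq_mem s hs)), ?_⟩
      group
  obtain ⟨b, hb, hnot⟩ := h
  refine ⟨b, hb, ?_⟩
  rcases P.mul_mem_union s hs s (mem_N P hs) b hb with h | h
  · exact absurd ((cell_one_iff P).1 (cell_subset_of_mem P
      ((cell_one_iff P).2 (P.sq_mem s hs)) h)) hnot
  · exact h

/-- If `ℓ(sn) ≤ ℓ(n)` then `s B n` meets `B n B`. -/
theorem exists_mem_cell_of_descent {s n : G} (hs : s ∈ P.S) (hn : n ∈ P.N)
    (h : len P (s * n) ≤ len P n) : ∃ b ∈ P.B, s * b * n ∈ cell P n := by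
  have hsN := mem_N P hs
  have hm : s * n ∈ P.N := mul_mem hsN hn
  have hlen : len P (s * (s * n)) = len P n :=
    len_congr P (mul_mem hsN hm) hn (eqv_sq hs hn)
  obtain ⟨b, hb, hbs⟩ := exists_conj_mem_cell P hs
  obtain ⟨b₁, hb₁, b₂, hb₂, he⟩ := (mem_cell P).1 hbs
  refine ⟨b * (s * s), mul_mem hb (P.sq_mem s hs), ?_⟩
  have e : s * (b * (s * s)) * n = b₁ * (s * b₂ * (s * n)) := by
    calc s * (b * (s * s)) * n = s * b * s * (s * n) := by group
      _ = _ := by rw [he]; group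
  rw [e, ← (eqv_sq hs hn).cell_eq]
  exact left_mul_mem_cell P hb₁ (cell_mul_of_len_le P hs _ hm (by omega) b₂ hb₂)

theorem len_smul_ne {s n : G} (hs : s ∈ P.S) (hn : n ∈ P.N) : len P (s * n) ≠ len P n := by
  intro h
  have hsN := mem_N P hs
  obtain ⟨b, hb, hbn⟩ := exists_mem_cell_of_descent P hs hn h.le
  have h1 := cell_mul_of_len_le P hs n hn h.ge b hb
  have h2 := eqv_of_mem_cells P (mul_mem hsN hn) hn h1 hbn
  apply not_mem_B P hs
  have h3 := h2.mul_right (mul_mem hsN hn) hn (inv_mem hn)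
  simpa [Eqv, mul_assoc] using inv_mem h3

theorem descent_mem_sup_conj {s n : G} (hs : s ∈ P.S) (hn : n ∈ P.N)
    (h : len P (s * n) ≤ len P n) :
    s ∈ P.B ⊔ P.B.map (MulAut.conj n).toMonoidHom := by
  obtain ⟨b, hb, hbn⟩ := exists_mem_cell_of_descent P hs hn h
  obtain ⟨b₁, hb₁, b₂, hb₂, he⟩ := (mem_cell P).1 hbn
  have e : s = b₁ * (n * b₂ * n⁻¹) * b⁻¹ := by
    calc s = s * b * n * n⁻¹ * b⁻¹ := by group
      _ = _ := by rw [he]; group
  rw [e]
  refine mul_mem (mul_mem (Subgroup.mem_sup_left hb₁) (Subgroup.mem_sup_right ?_))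
    (inv_mem (Subgroup.mem_sup_left hb))
  exact ⟨b₂, hb₂, by simp⟩

theorem descent_mem_of_le {s n : G} {M : Subgroup G} (hs : s ∈ P.S) (hn : n ∈ P.N)
    (h : len P (s * n) ≤ len P n) (hBM : P.B ≤ M) (hconj : ∀ b ∈ P.B, n * b * n⁻¹ ∈ M) :
    s ∈ M := by
  have hle : P.B ⊔ P.B.map (MulAut.conj n).toMonoidHom ≤ M := by
    refine sup_le hBM ?_
    rintro x ⟨b, hb, rfl⟩
    simpa using hconj b hb
  exact hle (descent_mem_sup_conj P hs hn h)

/-- Exchange condition. -/
theorem exchange {s : G} (hs : s ∈ P.S) (l : List G) (hl : ∀ x ∈ l, x ∈ P.S)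
    (hred : len P l.prod = l.length) (hlt : len P (s * l.prod) ≤ len P l.prod) :
    ∃ l' : List G, l'.length + 1 = l.length ∧ List.Sublist l' l ∧
      Eqv P (s * l.prod) l'.prod := by
  obtain ⟨k, hk⟩ : ∃ k, l.length = k := ⟨_, rfl⟩
  induction k generalizing l with
  | zero =>
    rw [List.length_eq_zero_iff] at hk
    subst hk
    have := len_smul_ne P hs (one_mem P.N)
    simp only [List.prod_nil, List.length_nil] at hred hlt
    omega
  | succ k ih =>
    rcases List.eq_nil_or_concat l with rfl | ⟨u, c, rfl⟩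
    · simp at hk
    · simp only [List.concat_eq_append, List.prod_append, List.length_append,
        List.length_singleton, List.prod_singleton] at hred hlt hk ⊢
      simp only [List.concat_eq_append, List.mem_append, List.mem_singleton] at hl
      have hc : c ∈ P.S := hl c (Or.inr rfl)
      have hu : ∀ x ∈ u, x ∈ P.S := fun x hx => hl x (Or.inl hx)
      have hsN := mem_N P hs
      have hcN := mem_N P hc
      have huN := prod_mem_N P hu
      have hured : len P u.prod = u.length := by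
        have h1 : len P u.prod ≤ u.length := len_le P hu (Eqv.refl _)
        have h2 := len_mul_le P hc huN
        omega
      rcases le_or_gt (len P (s * u.prod)) (len P u.prod) with hsu | hsu
      · obtain ⟨u', hu', hsub, he⟩ := ih u hu hured hsu (by omega)
        refine ⟨u' ++ [c], by simp; omega, hsub.append (List.Sublist.refl _), ?_⟩
        have hu'N : u'.prod ∈ P.N := prod_mem_N P fun x hx => hu x (hsub.subset hx)
        simpa [List.prod_append, mul_assoc] using he.mul_right (mul_mem hsN huN) hu'N hcN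
      · obtain ⟨b, hb, hbn⟩ := exists_mem_cell_of_descent P hs (mul_mem huN hcN) hlt
        have h1 := cell_mul_of_len_le P hs u.prod huN hsu.le b hb
        have h2 := mul_mem_union' P hc (mul_mem hsN huN) h1
        rw [← mul_assoc (s * b)] at hbn
        refine ⟨u, rfl, List.sublist_append_left _ _, ?_⟩
        rcases h2 with h2 | h2
        · rw [mul_assoc s u.prod c] at h2
          have := len_congr P (mul_mem hsN (mul_mem huN hcN)) (mul_mem huN hcN)
            (eqv_of_mem_cells P (mul_mem hsN (mul_mem huN hcN)) (mul_mem huN hcN) h2 hbn)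
          exact absurd this (len_smul_ne P hs (mul_mem huN hcN))
        · have h3 := eqv_of_mem_cells P (mul_mem huN hcN) (mul_mem hsN huN) hbn h2
          exact (h3.mul_left s).trans (eqv_sq hs huN)

/-- Deletion: a word in `J` can be shortened to a reduced word in `J`. -/
theorem exists_reduced (l : List G) (hl : ∀ x ∈ l, x ∈ P.S) :
    ∃ l' : List G, List.Sublist l' l ∧ len P l.prod = l'.length ∧ Eqv P l.prod l'.prod := by
  induction l with
  | nil =>
    refine ⟨[], List.Sublist.refl _, ?_, Eqv.refl _⟩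
    simpa using len_le P (l := []) (by simp) (Eqv.refl (P := P) (List.prod []))
  | cons s l ih =>
    have hs : s ∈ P.S := hl s (by simp)
    have hl' : ∀ x ∈ l, x ∈ P.S := fun x hx => hl x (by simp [hx])
    obtain ⟨u, hsub, hlen, he⟩ := ih hl'
    have hu : ∀ x ∈ u, x ∈ P.S := fun x hx => hl' x (hsub.subset hx)
    have hlN := prod_mem_N P hl'
    have huN := prod_mem_N P hu
    have hsN := mem_N P hs
    have hlen_u : len P u.prod = u.length := by rw [← len_congr P hlN huN he, hlen]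
    have hes : Eqv P (s * l.prod) (s * u.prod) := he.mul_left s
    have hcongr := len_congr P (mul_mem hsN hlN) (mul_mem hsN huN) hes
    rw [List.prod_cons]
    rcases le_or_gt (len P (s * u.prod)) (len P u.prod) with h | h
    · obtain ⟨v, hv, hsubv, hev⟩ := exchange P hs u hu hlen_u h
      refine ⟨v, (hsubv.trans hsub).cons s, ?_, hes.trans hev⟩
      have h1 := len_le P (l := v) (fun x hx => hu x (hsubv.subset hx)) hev
      have h2 := len_le_smul P hs huN
      omega
    · refine ⟨s :: u, hsub.cons_cons s, ?_, by simpa using hes⟩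
      have := len_smul_le P hs huN
      simp only [List.length_cons]
      omega

/-- Membership in a standard parabolic subgroup. -/
theorem mem_parabolic_iff {J : Set G} (hJ : J ⊆ P.S) {g : G} :
    g ∈ P.parabolic J ↔
      ∃ l : List G, (∀ x ∈ l, x ∈ J) ∧ g ∈ cell P l.prod := by
  constructor
  · intro hg
    let U : Set G := {x | ∃ l : List G, (∀ y ∈ l, y ∈ J) ∧ x ∈ cell P l.prod}
    let H : Subgroup G :=
      { carrier := {g | ∀ x ∈ U, g * x ∈ U ∧ g⁻¹ * x ∈ U}
        one_mem' := fun x hx => by simpa using hx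
        mul_mem' := by
          intro a b ha hb x hx
          refine ⟨?_, ?_⟩
          · rw [mul_assoc]; exact (ha _ (hb x hx).1).1
          · rw [mul_inv_rev, mul_assoc]; exact (hb _ (ha x hx).2).2
        inv_mem' := by
          intro a ha x hx
          rw [inv_inv]; exact ⟨(ha x hx).2, (ha x hx).1⟩ }
    have hB : P.B ≤ H := by
      rintro b hb x ⟨l, hl, hx⟩
      exact ⟨⟨l, hl, left_mul_mem_cell P hb hx⟩, ⟨l, hl, left_mul_mem_cell P (inv_mem hb) hx⟩⟩
    have hS : ∀ s ∈ J, ∀ x ∈ U, s * x ∈ U := by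
      rintro s hs x ⟨l, hl, hx⟩
      rcases smul_mem_union P (hJ hs) (prod_mem_N P fun y hy => hJ (hl y hy)) hx with h | h
      · exact ⟨s :: l, by simpa using ⟨hs, hl⟩, by simpa using h⟩
      · exact ⟨l, hl, h⟩
    have hle : P.parabolic J ≤ H := by
      refine sup_le hB ((Subgroup.closure_le H).2 ?_)
      intro s hs x hx
      refine ⟨hS s hs x hx, ?_⟩
      obtain ⟨l, hl, hx'⟩ := hx
      rw [inv_eq_mul (s := s), mul_assoc]
      exact hS s hs _ ⟨l, hl, left_mul_mem_cell P (inv_mem (P.sq_mem s (hJ hs))) hx'⟩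
    simpa [U] using (hle hg 1 ⟨[], by simp, self_mem_cell P 1⟩).1
  · rintro ⟨l, hl, hg⟩
    obtain ⟨b, hb, c, hc, rfl⟩ := (mem_cell P).1 hg
    refine mul_mem (mul_mem (Subgroup.mem_sup_left hb) (Subgroup.mem_sup_right ?_))
      (Subgroup.mem_sup_left hc)
    exact list_prod_mem fun x hx => Subgroup.subset_closure (hl x hx)

theorem B_le_parabolic (J : Set G) : P.B ≤ P.parabolic J := le_sup_left

theorem subset_parabolic {J : Set G} {s : G} (hs : s ∈ J) : s ∈ P.parabolic J :=
  Subgroup.mem_sup_right (Subgroup.subset_closure hs)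

theorem parabolic_le {J : Set G} {M : Subgroup G} (hB : P.B ≤ M) (hJ : J ⊆ M) :
    P.parabolic J ≤ M :=
  sup_le hB ((Subgroup.closure_le M).2 hJ)

theorem mem_of_mem_parabolic {J : Set G} (hJ : J ⊆ P.S) {s : G} (hs : s ∈ P.S)
    (h : s ∈ P.parabolic J) : s ∈ J := by
  obtain ⟨l, hl, hsl⟩ := (mem_parabolic_iff P hJ).1 h
  have hlS : ∀ x ∈ l, x ∈ P.S := fun x hx => hJ (hl x hx)
  have hsN := mem_N P hs
  have he : Eqv P s l.prod := eqv_of_mem_cell P hsN (prod_mem_N P hlS) hsl
  obtain ⟨l', hsub, hlen, he'⟩ := exists_reduced P l hlS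
  have h1 : len P s ≤ 1 := len_le P (l := [s]) (by simpa using hs) (by simpa using Eqv.refl (P := P) s)
  have h2 := len_congr P hsN (prod_mem_N P hlS) he
  match l', hsub, hlen, he' with
  | [], _, _, he' =>
    exfalso
    apply not_mem_B P hs
    simpa [Eqv] using he.trans he'
  | [j], hsub, _, he' =>
    have hj : j ∈ l := hsub.subset (by simp)
    have : s = j := P.inj s hs j (hlS j hj) (by simpa [Eqv] using he.trans he')
    exact this ▸ hl j hj
  | _ :: _ :: _, _, hlen, _ =>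
    simp only [List.length_cons] at hlen
    omega

theorem eq_parabolic_of_le (M : Subgroup G) (hM : P.B ≤ M) :
    M = P.parabolic (P.S ∩ M) := by
  refine le_antisymm ?_ (parabolic_le P hM Set.inter_subset_right)
  intro g hg
  obtain ⟨n, hn, hgn⟩ := exists_mem_cell P g
  obtain ⟨b, hb, c, hc, rfl⟩ := (mem_cell P).1 hgn
  refine mul_mem (mul_mem (B_le_parabolic P _ hb) ?_) (B_le_parabolic P _ hc)
  have hnM : n ∈ M := by
    have := mul_mem (mul_mem (inv_mem (hM hb)) hg) (inv_mem (hM hc))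
    simpa [mul_assoc] using this
  clear hg hgn hb hc b c
  obtain ⟨k, hk⟩ : ∃ k, len P n = k := ⟨_, rfl⟩
  induction k generalizing n with
  | zero => exact B_le_parabolic P _ (mem_B_of_len_eq_zero P hn hk)
  | succ k ih =>
    obtain ⟨s, hs, n₁, hn₁, rfl, hk₁⟩ := exists_left_split P hn hk
    have hsN := mem_N P hs
    have hdes : len P (s * (s * n₁)) ≤ len P (s * n₁) := by
      rw [len_congr P (mul_mem hsN hn) hn₁ (eqv_sq hs hn₁)]; omega
    have hsM : s ∈ M := descent_mem_of_le P hs hn hdes hM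
      fun b hb => mul_mem (mul_mem hnM (hM hb)) (inv_mem hnM)
    have hn₁M : n₁ ∈ M := by
      have := mul_mem (inv_mem hsM) hnM
      rwa [inv_mul_cancel_left] at this
    exact mul_mem (subset_parabolic P ⟨hs, hsM⟩) (ih n₁ hn₁ hn₁M hk₁)

/-- If `n` conjugates a parabolic subgroup onto one, it lies in it and the two are equal. -/
theorem conj_parabolic {J K : Set G} {n : G} (hn : n ∈ P.N)
    (h : ∀ x : G, x ∈ P.parabolic J ↔ n * x * n⁻¹ ∈ P.parabolic K) :
    n ∈ P.parabolic K ∧ P.parabolic J = P.parabolic K := by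
  obtain ⟨k, hk⟩ : ∃ k, len P n = k := ⟨_, rfl⟩
  induction k generalizing n with
  | zero =>
    have hnK : n ∈ P.parabolic K := B_le_parabolic P _ (mem_B_of_len_eq_zero P hn hk)
    refine ⟨hnK, ?_⟩
    ext x
    rw [h x, Subgroup.mul_mem_cancel_right _ (inv_mem hnK), Subgroup.mul_mem_cancel_left _ hnK]
  | succ k ih =>
    obtain ⟨s, hs, n₁, hn₁, rfl, hk₁⟩ := exists_left_split P hn hk
    have hsN := mem_N P hs
    have hdes : len P (s * (s * n₁)) ≤ len P (s * n₁) := by
      rw [len_congr P (mul_mem hsN hn) hn₁ (eqv_sq hs hn₁)]; omega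
    have hsK : s ∈ P.parabolic K := descent_mem_of_le P hs hn hdes (B_le_parabolic P K)
      fun b hb => (h b).1 (B_le_parabolic P J hb)
    have h' : ∀ x : G, x ∈ P.parabolic J ↔ n₁ * x * n₁⁻¹ ∈ P.parabolic K := by
      intro x
      rw [h x]
      have e : s * n₁ * x * (s * n₁)⁻¹ = s * (n₁ * x * n₁⁻¹) * s⁻¹ := by group
      rw [e, Subgroup.mul_mem_cancel_right _ (inv_mem hsK), Subgroup.mul_mem_cancel_left _ hsK]
    obtain ⟨h1, h2⟩ := ih hn₁ h' hk₁
    exact ⟨mul_mem hsK h1, h2⟩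

theorem conj_parabolic' {J K : Set G} (g : G)
    (h : ∀ x : G, x ∈ P.parabolic J ↔ g * x * g⁻¹ ∈ P.parabolic K) :
    g ∈ P.parabolic K ∧ P.parabolic J = P.parabolic K := by
  obtain ⟨n, hn, hgn⟩ := exists_mem_cell P g
  obtain ⟨b, hb, c, hc, rfl⟩ := (mem_cell P).1 hgn
  have hbK := B_le_parabolic P K hb
  have hcJ := B_le_parabolic P J hc
  have h' : ∀ x : G, x ∈ P.parabolic J ↔ n * x * n⁻¹ ∈ P.parabolic K := by
    intro x
    have h1 := h (c⁻¹ * x * c)
    rw [Subgroup.mul_mem_cancel_right _ hcJ, Subgroup.mul_mem_cancel_left _ (inv_mem hcJ)] at h1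
    rw [h1]
    have e : b * n * c * (c⁻¹ * x * c) * (b * n * c)⁻¹ = b * (n * x * n⁻¹) * b⁻¹ := by group
    rw [e, Subgroup.mul_mem_cancel_right _ (inv_mem hbK), Subgroup.mul_mem_cancel_left _ hbK]
  obtain ⟨h1, h2⟩ := conj_parabolic P hn h'
  exact ⟨mul_mem (mul_mem hbK h1) (B_le_parabolic P K hc), h2⟩

theorem normalizer_parabolic (J : Set G) :
    Subgroup.normalizer (P.parabolic J : Set G) = P.parabolic J := by
  refine le_antisymm (fun g hg => ?_) Subgroup.le_normalizer
  rw [Subgroup.mem_normalizer_iff] at hg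
  exact (conj_parabolic' P g (fun x => hg x)).1

theorem parabolic_eq_of_conj {J K : Set G} (g : G)
    (h : (P.parabolic J).map (MulAut.conj g).toMonoidHom = P.parabolic K) :
    P.parabolic J = P.parabolic K := by
  refine (conj_parabolic' P g fun x => ?_).2
  rw [← h]
  simp [Subgroup.mem_map]

theorem parabolic_injective {J K : Set G} (hJ : J ⊆ P.S) (hK : K ⊆ P.S)
    (h : P.parabolic J = P.parabolic K) : J = K :=
  Set.Subset.antisymm
    (fun _ hs => mem_of_mem_parabolic P hK (hJ hs) (h ▸ subset_parabolic P hs))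
    (fun _ hs => mem_of_mem_parabolic P hJ (hK hs) (h ▸ subset_parabolic P hs))

theorem parabolic_inf {J K : Set G} (hJ : J ⊆ P.S) (hK : K ⊆ P.S) :
    P.parabolic J ⊓ P.parabolic K = P.parabolic (J ∩ K) := by
  rw [eq_parabolic_of_le P (P.parabolic J ⊓ P.parabolic K)
    (le_inf (B_le_parabolic P J) (B_le_parabolic P K))]
  congr 1
  ext s
  constructor
  · rintro ⟨hs, hsJ, hsK⟩
    exact ⟨mem_of_mem_parabolic P hJ hs hsJ, mem_of_mem_parabolic P hK hs hsK⟩
  · rintro ⟨hsJ, hsK⟩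
    exact ⟨hJ hsJ, subset_parabolic P hsJ, subset_parabolic P hsK⟩

end Cfsg.Agent.H27.BN
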