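import Cfsg.Agent.H27.GLTwo
import Cfsg.Agent.Linear.Simple

/-!
The projective line: three points, `PSL₂(q)` for `q ≤ 5`, permutation groups of index two,
cyclic Sylow subgroups of SL₂.
-/

set_option autoImplicit false

namespace Cfsg.Agent.H27.ProjLine

open Matrix Cfsg.Agent.H27.GLTwo
open scoped LinearAlgebra.Projectivization

variable {F : Type*} [Field F]

theorem exists_third_coords {u0 u1 u2 : Fin 2 → F} (h01 : wedge u0 u1 ≠ 0) (h20 : wedge u2 u0 ≠ 0)
    (h21 : wedge u2 u1 ≠ 0) :
    ∃ x y : F, x ≠ 0 ∧ y ≠ 0 ∧ u2 = x • u0 + y • u1 := by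
  refine ⟨wedge u2 u1 / wedge u0 u1, -(wedge u2 u0) / wedge u0 u1,
    div_ne_zero h21 h01, div_ne_zero (neg_ne_zero.2 h20) h01, ?_⟩
  funext i
  simp only [Pi.add_apply, Pi.smul_apply, smul_eq_mul]
  field_simp
  fin_cases i <;> simp [wedge] <;> ring

theorem wedge_ne_of_mk_ne {v w : Fin 2 → F} (hv : v ≠ 0) (hw : w ≠ 0)
    (h : Projectivization.mk F v hv ≠ Projectivization.mk F w hw) : wedge v w ≠ 0 :=
  fun h0 => h (mk_eq_mk_of_wedge hv hw h0).symm

theorem wedge_ne_of_ne {a b : ℙ F (Fin 2 → F)} (h : a ≠ b) : wedge a.rep b.rep ≠ 0 :=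
  wedge_ne_of_mk_ne a.rep_nonzero b.rep_nonzero (by rwa [a.mk_rep, b.mk_rep])

theorem std_ne : (e0 + e1 : Fin 2 → F) ≠ 0 := by
  intro h
  have := congrFun h 0
  simp [e0, e1] at this

/-- the points `0`, `∞`, `1` -/
def stdTriple (i : Fin 3) : ℙ F (Fin 2 → F) :=
  ![Projectivization.mk F e0 e0_ne, Projectivization.mk F e1 e1_ne,
    Projectivization.mk F (e0 + e1) std_ne] i

theorem exists_pgl_triple {a b c : ℙ F (Fin 2 → F)} (hab : a ≠ b) (hac : a ≠ c) (hbc : b ≠ c) :
    ∃ g : Matrix.ProjGenLinGroup (Fin 2) F,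
      g • stdTriple 0 = a ∧ g • stdTriple 1 = b ∧ g • stdTriple 2 = c := by
  obtain ⟨x, y, hx, hy, hxy⟩ := exists_third_coords (wedge_ne_of_ne hab)
    (wedge_ne_of_ne hac.symm) (wedge_ne_of_ne hbc.symm)
  have hw : wedge (x • a.rep) (y • b.rep) ≠ 0 := by
    have : wedge (x • a.rep) (y • b.rep) = x * y * wedge a.rep b.rep := by
      simp [wedge]; ring
    rw [this]
    exact mul_ne_zero (mul_ne_zero hx hy) (wedge_ne_of_ne hab)
  obtain ⟨k, h0, h1⟩ := exists_gl hw
  refine ⟨Matrix.ProjGenLinGroup.mk k, ?_, ?_, ?_⟩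
  · change Projectivization.mk F (k • e0) _ = a
    conv_rhs => rw [← a.mk_rep]
    exact (Projectivization.mk_eq_mk_iff' F _ _ _ _).2 ⟨x, h0.symm⟩
  · change Projectivization.mk F (k • e1) _ = b
    conv_rhs => rw [← b.mk_rep]
    exact (Projectivization.mk_eq_mk_iff' F _ _ _ _).2 ⟨y, h1.symm⟩
  · change Projectivization.mk F (k • (e0 + e1)) _ = c
    conv_rhs => rw [← c.mk_rep]
    refine (Projectivization.mk_eq_mk_iff' F _ _ _ _).2 ⟨1, ?_⟩
    rw [smul_add, h0, h1, one_smul]
    exact hxy

theorem isThreePretransitive :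
    MulAction.IsMultiplyPretransitive (Matrix.ProjGenLinGroup (Fin 2) F) (ℙ F (Fin 2 → F)) 3 := by
  rw [MulAction.isMultiplyPretransitive_iff]
  intro x y
  have hx := fun i j => x.injective.ne (a₁ := i) (a₂ := j)
  have hy := fun i j => y.injective.ne (a₁ := i) (a₂ := j)
  obtain ⟨g, g0, g1, g2⟩ := exists_pgl_triple (hx 0 1 (by decide)) (hx 0 2 (by decide))
    (hx 1 2 (by decide))
  obtain ⟨h, h0, h1, h2⟩ := exists_pgl_triple (hy 0 1 (by decide)) (hy 0 2 (by decide))
    (hy 1 2 (by decide))
  refine ⟨h * g⁻¹, ?_⟩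
  ext i
  fin_cases i <;> simp only [Function.Embedding.smul_apply, mul_smul]
  · change h • g⁻¹ • x 0 = y 0
    rw [← g0, inv_smul_smul, h0]
  · change h • g⁻¹ • x 1 = y 1
    rw [← g1, inv_smul_smul, h1]
  · change h • g⁻¹ • x 2 = y 2
    rw [← g2, inv_smul_smul, h2]

theorem exists_scalar_of_fix {k : GL (Fin 2) F} {a : ℙ F (Fin 2 → F)}
    (h : (Matrix.ProjGenLinGroup.mk k) • a = a) : ∃ c : F, k • a.rep = c • a.rep := by
  have h' : Projectivization.mk F (k • a.rep) ((smul_ne_zero_iff_ne k).2 a.rep_nonzero)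
      = Projectivization.mk F a.rep a.rep_nonzero := by
    rw [a.mk_rep]
    conv_rhs => rw [← h]
    conv_rhs => arg 2; rw [← a.mk_rep]
    rfl
  obtain ⟨c, hc⟩ := (Projectivization.mk_eq_mk_iff' F _ _ _ _).1 h'
  exact ⟨c, hc.symm⟩

theorem eq_one_of_fix_three (g : Matrix.ProjGenLinGroup (Fin 2) F) {a b c : ℙ F (Fin 2 → F)}
    (hab : a ≠ b) (hac : a ≠ c) (hbc : b ≠ c) (ha : g • a = a) (hb : g • b = b) (hc : g • c = c) :
    g = 1 := by
  induction g using Matrix.ProjGenLinGroup.induction_on with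
  | mk k =>
    obtain ⟨α, hα⟩ := exists_scalar_of_fix ha
    obtain ⟨β, hβ⟩ := exists_scalar_of_fix hb
    obtain ⟨γ, hγ⟩ := exists_scalar_of_fix hc
    obtain ⟨x, y, hx, hy, hxy⟩ := exists_third_coords (wedge_ne_of_ne hab)
      (wedge_ne_of_ne hac.symm) (wedge_ne_of_ne hbc.symm)
    rw [hxy, gl_smul_lin, hα, hβ] at hγ
    have e0' := congrFun hγ 0
    have e1' := congrFun hγ 1
    simp only [Pi.add_apply, Pi.smul_apply, smul_eq_mul] at e0' e1'
    have hne := wedge_ne_of_ne hab
    have hαγ : α = γ := by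
      refine mul_left_cancel₀ (mul_ne_zero hx hne) ?_
      unfold wedge
      linear_combination (b.rep 1) * e0' - (b.rep 0) * e1'
    have hβγ : β = γ := by
      refine mul_left_cancel₀ (mul_ne_zero hy hne) ?_
      unfold wedge
      linear_combination (a.rep 0) * e1' - (a.rep 1) * e0'
    have hlin : ∀ v : Fin 2 → F, k • v = γ • v := by
      intro v
      obtain ⟨k', h0, h1⟩ := exists_gl hne
      have hv : v = (k'⁻¹ • v) 0 • a.rep + (k'⁻¹ • v) 1 • b.rep := by
        rw [← h0, ← h1, ← gl_smul_lin, ← pair_ext, smul_inv_smul]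
      rw [hv, gl_smul_lin, hα, hβ, hαγ, hβγ, smul_add, smul_smul, smul_smul, smul_smul, smul_smul,
        mul_comm γ, mul_comm γ]
    have hγ0 : γ ≠ 0 := by
      intro h0
      have := hlin a.rep
      rw [h0, zero_smul] at this
      exact (smul_ne_zero_iff_ne k).2 a.rep_nonzero this
    rw [← Matrix.ProjGenLinGroup.mk_scalar (n := Fin 2) (Units.mk0 γ hγ0)]
    congr 1
    apply smul_ext <;>
      rw [hlin, gl_smul_eq] <;> funext i <;>
      simp [Matrix.mulVec_diagonal, Matrix.GeneralLinearGroup.coe_scalar, Matrix.scalar_apply]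

theorem toPGL_smul (s : SpecialLinearGroup (Fin 2) F) (a : ℙ F (Fin 2 → F)) :
    SpecialLinearGroup.toPGL s • a = s • a := by
  induction a using Projectivization.ind with
  | h v hv => rfl

theorem sl_isThreePretransitive_iff [Fintype F] :
    MulAction.IsMultiplyPretransitive (SpecialLinearGroup (Fin 2) F) (ℙ F (Fin 2 → F)) 3 ↔
      ringChar F = 2 := by
  constructor
  · intro h
    by_contra hc
    obtain ⟨δ, hδ⟩ := FiniteField.exists_nonsquare hc
    have hδ0 : δ ≠ 0 := by rintro rfl; exact hδ ⟨0, by simp⟩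
    let k : GL (Fin 2) F := Cfsg.Agent.Linear.diagGL ![Units.mk0 δ hδ0, 1]
    rw [MulAction.isMultiplyPretransitive_iff] at h
    have hinj : Function.Injective (stdTriple (F := F)) := by
      have hmk : ∀ {v w : Fin 2 → F} (hv : v ≠ 0) (hw : w ≠ 0), wedge v w ≠ 0 →
          Projectivization.mk F v hv ≠ Projectivization.mk F w hw := by
        intro v w hv hw hvw he
        obtain ⟨c, hc⟩ := (Projectivization.mk_eq_mk_iff' F _ _ _ _).1 he
        apply hvw
        rw [← hc]; simp [wedge]; ring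
      intro i j hij
      fin_cases i <;> fin_cases j <;> first
        | rfl
        | (exfalso; refine hmk _ _ ?_ hij; simp [wedge, e0, e1])
    let x : Fin 3 ↪ ℙ F (Fin 2 → F) := ⟨stdTriple, hinj⟩
    obtain ⟨s, hs⟩ := h x ((Matrix.ProjGenLinGroup.mk k) • x)
    have key : (SpecialLinearGroup.toPGL s)⁻¹ * Matrix.ProjGenLinGroup.mk k = 1 := by
      have hfix : ∀ i, ((SpecialLinearGroup.toPGL s)⁻¹ * Matrix.ProjGenLinGroup.mk k) • x i
          = x i := by
        intro i
        rw [mul_smul, inv_smul_eq_iff, toPGL_smul]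
        have := DFunLike.congr_fun hs i
        simp only [Function.Embedding.smul_apply] at this
        exact this.symm
      exact eq_one_of_fix_three _ (x.injective.ne (show (0 : Fin 3) ≠ 1 by decide))
        (x.injective.ne (show (0 : Fin 3) ≠ 2 by decide))
        (x.injective.ne (show (1 : Fin 3) ≠ 2 by decide)) (hfix 0) (hfix 1) (hfix 2)
    rw [inv_mul_eq_one] at key
    obtain ⟨u, hu⟩ := Matrix.ProjGenLinGroup.mk_eq_mk_iff.1 key
    apply hδ
    refine ⟨(u : F), ?_⟩
    have hd := congrArg (fun g : GL (Fin 2) F => (g : Matrix (Fin 2) (Fin 2) F).det) hu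
    simp [k, Matrix.det_fin_two] at hd
    have hs : (s : Matrix (Fin 2) (Fin 2) F).det = 1 := s.2
    rw [Matrix.det_fin_two] at hs
    linear_combination -hd
  · intro hc
    rw [MulAction.isMultiplyPretransitive_iff]
    intro x y
    have h3 := isThreePretransitive (F := F)
    rw [MulAction.isMultiplyPretransitive_iff] at h3
    obtain ⟨g, hg⟩ := h3 x y
    induction g using Matrix.ProjGenLinGroup.induction_on with
    | mk k =>
      have hd0 : (k : Matrix (Fin 2) (Fin 2) F).det ≠ 0 :=
        (k.isUnit.map Matrix.detMonoidHom).ne_zero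
      obtain ⟨r, hr⟩ := FiniteField.isSquare_of_char_two hc ((k : Matrix (Fin 2) (Fin 2) F).det⁻¹)
      have hdet : (r • (k : Matrix (Fin 2) (Fin 2) F)).det = 1 := by
        rw [Matrix.det_smul, Fintype.card_fin, pow_two, ← hr, inv_mul_cancel₀ hd0]
      have hr0 : r ≠ 0 := by
        rintro rfl; simp [hd0] at hr
      let s' : SpecialLinearGroup (Fin 2) F := ⟨_, hdet⟩
      refine ⟨s', ?_⟩
      ext i
      change s' • x i = y i
      rw [← hg, Function.Embedding.smul_apply, ← toPGL_smul]
      congr 1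
      refine Matrix.ProjGenLinGroup.mk_eq_mk_iff.2 ⟨Units.mk0 r⁻¹ (inv_ne_zero hr0), ?_⟩
      refine Units.ext (Matrix.ext fun a b => ?_)
      simp [s', Matrix.GeneralLinearGroup.coe_scalar, Matrix.scalar_apply, Matrix.mul_diagonal]
      first
        | rfl
        | (field_simp; rfl)
        | field_simp

/-- A group acting faithfully on `n` points with image of index 2 is alternating. -/
theorem equiv_alternating {G α : Type*} [Group G] [Finite α] (f : G →* Equiv.Perm α)
    (hf : Function.Injective f) {n : ℕ} (hn : Nat.card α = n)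
    (hc : 2 * Nat.card G = n.factorial) : Nonempty (G ≃* alternatingGroup (Fin n)) := by
  classical
  let e : α ≃ Fin n := Finite.equivFinOfCardEq hn
  let g : G →* Equiv.Perm (Fin n) := e.permCongrHom.toMonoidHom.comp f
  have hg : Function.Injective g := e.permCongrHom.injective.comp hf
  have hcard : Nat.card g.range = Nat.card G :=
    (Nat.card_congr (MonoidHom.ofInjective hg).toEquiv).symm
  have hi : g.range.index = 2 := by
    have h := g.range.card_mul_index
    rw [hcard, Nat.card_perm, Nat.card_eq_fintype_card (α := Fin n), Fintype.card_fin, ← hc,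
      mul_comm 2] at h
    refine Nat.eq_of_mul_eq_mul_left ?_ h
    rcases Nat.eq_zero_or_pos (Nat.card G) with h0 | h0
    · rw [h0, mul_zero] at hc
      exact absurd hc.symm n.factorial_ne_zero
    · exact h0
  have := Equiv.Perm.eq_alternatingGroup_of_index_eq_two hi
  exact ⟨(MonoidHom.ofInjective hg).trans (MulEquiv.subgroupCongr this)⟩

theorem card_projLine [Fintype F] : Nat.card (ℙ F (Fin 2 → F)) = Fintype.card F + 1 := by
  rw [Projectivization.card_of_finrank_two F (Fin 2 → F) (by simp), Nat.card_eq_fintype_card]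

theorem psl_two_equiv_alternating [Fintype F] {n : ℕ} (hn : Fintype.card F + 1 = n)
    (hc : 2 * Nat.card (ProjectiveSpecialLinearGroup (Fin 2) F) = n.factorial) :
    Nonempty (ProjectiveSpecialLinearGroup (Fin 2) F ≃* alternatingGroup (Fin n)) :=
  equiv_alternating (MulAction.toPermHom (ProjectiveSpecialLinearGroup (Fin 2) F) (ℙ F (Fin 2 → F)))
    MulAction.toPerm_injective (by rw [card_projLine, hn]) hc

theorem sl_two_two_equiv [Fintype F] (hF : Fintype.card F = 2) :
    Nonempty (SpecialLinearGroup (Fin 2) F ≃* Equiv.Perm (Fin 3)) := by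
  have hcard : Nat.card (ℙ F (Fin 2 → F)) = 3 := by rw [card_projLine, hF]
  let e : ℙ F (Fin 2 → F) ≃ Fin 3 := Finite.equivFinOfCardEq hcard
  let f := MulAction.toPermHom (SpecialLinearGroup (Fin 2) F) (ℙ F (Fin 2 → F))
  have hf : Function.Injective f := by
    rw [← MonoidHom.ker_eq_bot_iff, Projectivization.SL_mulAction_ker, ← Subgroup.card_eq_one,
      Cfsg.Agent.Linear.card_center_SL, hF]
    simp
  have hb : Function.Bijective f := (Nat.bijective_iff_injective_and_card f).2
    ⟨hf, by rw [Nat.card_perm, hcard, Cfsg.Agent.Linear.card_SL_two, hF]; rfl⟩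
  exact ⟨(MulEquiv.ofBijective f hb).trans e.permCongrHom⟩

/-- The stabiliser of a point in a faithful action embeds in permutations of the other points. -/
theorem stabilizer_perm_injective {A X : Type*} [Group A] [MulAction A X] [FaithfulSMul A X]
    (x0 : X) :
    Function.Injective (MulAction.toPermHom (MulAction.stabilizer A x0)
      (SubMulAction.ofStabilizer A x0)) := by
  rw [injective_iff_map_eq_one]
  intro k hk
  refine Subtype.ext (FaithfulSMul.eq_of_smul_eq_smul (α := X) fun x => ?_)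
  rw [Subgroup.coe_one, one_smul]
  by_cases hx : x = x0
  · subst hx; exact k.2
  · exact congrArg Subtype.val (DFunLike.congr_fun hk ⟨x, hx⟩)

theorem exists_equiv_alternating_stabilizer {A X : Type*} [Group A] [MulAction A X]
    [FaithfulSMul A X] [Finite X] (x0 : X) {n : ℕ} (hn : Nat.card X = n + 1)
    (hc : 2 * Nat.card (MulAction.stabilizer A x0) = n.factorial) :
    Nonempty (MulAction.stabilizer A x0 ≃* alternatingGroup (Fin n)) := by
  refine equiv_alternating _ (stabilizer_perm_injective x0) ?_ hc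
  have := SubMulAction.nat_card_ofStabilizer_add_one_eq A x0
  omega

/-- A simple group of order 60 acting faithfully on six points is `A₅`. -/
theorem equiv_alternating_five {G α : Type*} [Group G] [IsSimpleGroup G] [Finite α]
    (f : G →* Equiv.Perm α) (hf : Function.Injective f) (hn : Nat.card α = 6)
    (hG : Nat.card G = 60) : Nonempty (G ≃* alternatingGroup (Fin 5)) := by
  classical
  let e : α ≃ Fin 6 := Finite.equivFinOfCardEq hn
  let g : G →* Equiv.Perm (Fin 6) := e.permCongrHom.toMonoidHom.comp f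
  have hg : Function.Injective g := e.permCongrHom.injective.comp hf
  have hmem : ∀ x : G, g x ∈ alternatingGroup (Fin 6) := by
    intro x
    rcases Subgroup.Normal.eq_bot_or_eq_top
      (MonoidHom.normal_ker (Equiv.Perm.sign.comp g)) with h | h
    · have hinj : Function.Injective (Equiv.Perm.sign.comp g) := (MonoidHom.ker_eq_bot_iff _).1 h
      have := Nat.card_le_card_of_injective _ hinj
      rw [hG, Nat.card_eq_fintype_card, Fintype.card_units_int] at this
      omega
    · exact Equiv.Perm.mem_alternatingGroup.2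
        (MonoidHom.mem_ker.1 (h ▸ Subgroup.mem_top x : x ∈ (Equiv.Perm.sign.comp g).ker))
  let g' : G →* alternatingGroup (Fin 6) := g.codRestrict _ hmem
  have hg' : Function.Injective g' := fun a b hab => hg (congrArg Subtype.val hab)
  set H := g'.range with hH
  have hHcard : Nat.card H = 60 := by
    rw [← Nat.card_congr (MonoidHom.ofInjective hg').toEquiv, hG]
  have hA : Nat.card (alternatingGroup (Fin 6)) = 360 := by
    rw [nat_card_alternatingGroup, Nat.card_eq_fintype_card, Fintype.card_fin]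
    rfl
  have hidx : H.index = 6 := by
    have := H.card_mul_index
    rw [hHcard, hA] at this
    omega
  have : IsSimpleGroup (alternatingGroup (Fin 6)) :=
    alternatingGroup.isSimpleGroup (by simp)
  have hcore : H.normalCore = ⊥ := by
    rcases Subgroup.Normal.eq_bot_or_eq_top H.normalCore_normal with h | h
    · exact h
    · exfalso
      have h' : H = ⊤ := top_le_iff.1 (h ▸ H.normalCore_le)
      rw [h', Subgroup.index_top] at hidx
      omega
  let x0 : alternatingGroup (Fin 6) ⧸ H := (1 : alternatingGroup (Fin 6))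
  have hstab : MulAction.stabilizer (alternatingGroup (Fin 6)) x0 = H :=
    MulAction.stabilizer_quotient H
  have : FaithfulSMul (alternatingGroup (Fin 6)) (alternatingGroup (Fin 6) ⧸ H) := by
    refine faithfulSMul_iff.2 fun a ha => ?_
    have h1 : a ∈ H.normalCore := by
      rw [Subgroup.normalCore_eq_ker, MonoidHom.mem_ker]
      exact Equiv.ext ha
    rw [hcore, Subgroup.mem_bot] at h1
    exact h1
  have hKcard : Nat.card (MulAction.stabilizer (alternatingGroup (Fin 6)) x0) = 60 := by
    rw [hstab, hHcard]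
  obtain ⟨e5⟩ := exists_equiv_alternating_stabilizer (A := alternatingGroup (Fin 6)) x0 (n := 5)
    (by rw [← Subgroup.index_eq_card, hidx]) (by rw [hKcard]; rfl)
  exact ⟨((MonoidHom.ofInjective hg').trans (MulEquiv.subgroupCongr hstab.symm)).trans e5⟩

/-- r-subgroups of SL₂ for odd r different from the characteristic are cyclic. -/
theorem isCyclic_sl_two_subgroup [Fintype F] (p r : ℕ) [Fact p.Prime] [CharP F p] [Fact r.Prime]
    (hr : r ≠ 2) (hrp : r ≠ p) (R : Subgroup (SpecialLinearGroup (Fin 2) F))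
    (hR : IsPGroup r R) : IsCyclic R := by
  rcases subsingleton_or_nontrivial R with h | h
  · exact isCyclic_of_subsingleton
  have : Nontrivial (Subgroup.center R) := hR.center_nontrivial
  obtain ⟨⟨z, hzc⟩, hzne⟩ := exists_ne (1 : Subgroup.center R)
  have hz1 : z ≠ 1 := fun h => hzne (Subtype.ext h)
  have hr2 : ∀ g : R, ∀ q : ℕ, q.Prime → q ≠ r → g ^ q = 1 → g = 1 := by
    intro g q hq hqr hgq
    obtain ⟨k, hk⟩ := hR g
    have hco : Nat.Coprime q (r ^ k) := ((Nat.coprime_primes hq Fact.out).2 hqr).pow_right k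
    rw [← orderOf_eq_one_iff]
    exact Nat.eq_one_of_dvd_coprimes hco (orderOf_dvd_of_pow_eq_one hgq)
      (orderOf_dvd_of_pow_eq_one hk)
  set Z : Matrix (Fin 2) (Fin 2) F := (z.1 : Matrix (Fin 2) (Fin 2) F) with hZ
  have hns : ¬ (Z 0 1 = 0 ∧ Z 1 0 = 0 ∧ Z 0 0 = Z 1 1) := by
    rintro ⟨h01, h10, h00⟩
    apply hz1
    refine hr2 z 2 Nat.prime_two (Ne.symm hr) (Subtype.ext (Subtype.ext (Matrix.ext fun a b => ?_)))
    have hd : Z.det = 1 := z.1.2
    rw [Matrix.det_fin_two, h01, h00] at hd
    rw [pow_two]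
    change (Z * Z) a b = (1 : Matrix (Fin 2) (Fin 2) F) a b
    fin_cases a <;> fin_cases b <;> simp [Matrix.mul_apply, Fin.sum_univ_two, h01, h10, h00] <;>
      linear_combination hd
  have hcomb : ∀ g : R, ∃ x y : F,
      (g.1 : Matrix (Fin 2) (Fin 2) F) = x • (1 : Matrix (Fin 2) (Fin 2) F) + y • Z := by
    intro g
    refine exists_lin_comb_of_commute ?_ hns
    exact congrArg (fun a : R => (a.1 : Matrix (Fin 2) (Fin 2) F))
      (Subgroup.mem_center_iff.1 hzc g)
  let K := AlgebraicClosure F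
  let φ : Matrix (Fin 2) (Fin 2) F →+* Matrix (Fin 2) (Fin 2) K := (algebraMap F K).mapMatrix
  obtain ⟨lam, hlam⟩ := Module.End.exists_eigenvalue (Matrix.toLin' (φ Z))
  obtain ⟨v, hv⟩ := hlam.exists_hasEigenvector
  have hZv : (φ Z) *ᵥ v = lam • v := by
    have := hv.apply_eq_smul
    rwa [Matrix.toLin'_apply] at this
  have hscal : ∀ g : R, ∃ c : K, (φ (g.1 : Matrix (Fin 2) (Fin 2) F)) *ᵥ v = c • v := by
    intro g
    obtain ⟨x, y, hxy⟩ := hcomb g
    refine ⟨algebraMap F K x + algebraMap F K y * lam, ?_⟩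
    have hφ : φ (g.1 : Matrix (Fin 2) (Fin 2) F)
        = algebraMap F K x • (1 : Matrix (Fin 2) (Fin 2) K) + algebraMap F K y • φ Z := by
      rw [hxy]
      ext a b
      fin_cases a <;> fin_cases b <;> simp [φ] <;> simp [Algebra.smul_def]
    rw [hφ, Matrix.add_mulVec, Matrix.smul_mulVec, Matrix.smul_mulVec, Matrix.one_mulVec, hZv,
      add_smul, mul_smul]
  choose c hc using hscal
  have hc_ext : ∀ a b : K, a • v = b • v → a = b := fun a b h => smul_left_injective K hv.2 h
  let μ : R →* K :=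
    { toFun := c
      map_one' := hc_ext _ _ (by rw [← hc 1]; simp)
      map_mul' := fun a b => hc_ext _ _ (by
        rw [← hc (a * b)]
        change φ ((a.1 : Matrix (Fin 2) (Fin 2) F) * (b.1 : Matrix (Fin 2) (Fin 2) F)) *ᵥ v = _
        rw [map_mul,
          ← Matrix.mulVec_mulVec, hc b, Matrix.mulVec_smul, hc a, smul_smul, mul_comm]) }
  refine isCyclic_of_subgroup_isDomain μ ?_
  intro a b hab
  rw [← inv_mul_eq_one]
  have hg : μ (a⁻¹ * b) = 1 := by rw [map_mul, ← hab, ← map_mul, inv_mul_cancel, map_one]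
  generalize a⁻¹ * b = g at hg ⊢
  set M : Matrix (Fin 2) (Fin 2) F := (g.1 : Matrix (Fin 2) (Fin 2) F) with hM
  have hfix : φ M *ᵥ v = v := by
    rw [hM, hc g, show c g = 1 from hg, one_smul]
  have hdet0 : (φ (M - 1)).det = 0 :=
    Matrix.exists_mulVec_eq_zero_iff.1
      ⟨v, hv.2, by rw [map_sub, map_one, Matrix.sub_mulVec, hfix, Matrix.one_mulVec, sub_self]⟩
  rw [← RingHom.map_det, map_eq_zero_iff _ (algebraMap F K).injective] at hdet0
  have hdM : M.det = 1 := g.1.2
  rw [Matrix.det_fin_two] at hdet0 hdM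
  simp at hdet0
  have hsq : (M - 1) * (M - 1) = 0 := by
    ext i j
    fin_cases i <;> fin_cases j <;> simp [Matrix.mul_apply, Fin.sum_univ_two]
    · linear_combination -(M 0 0) * hdet0 + (M 0 0 - 1) * hdM
    · linear_combination -(M 0 1) * hdet0 + (M 0 1) * hdM
    · linear_combination -(M 1 0) * hdet0 + (M 1 0) * hdM
    · linear_combination -(M 1 1) * hdet0 + (M 1 1 - 1) * hdM
  have hp : M ^ p = 1 := by
    have h1 : (M - 1) ^ p = M ^ p - 1 := by
      rw [sub_pow_char_of_commute p (Commute.one_right M), one_pow]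
    have h2 : (M - 1) ^ p = 0 := by
      obtain ⟨k, hk⟩ : ∃ k, p = 2 + k := ⟨p - 2, by have := (Fact.out : p.Prime).two_le; omega⟩
      rw [hk, pow_add, pow_two, hsq, zero_mul]
    rw [← sub_eq_zero, ← h1, h2]
  refine hr2 g p Fact.out (Ne.symm hrp) (Subtype.ext ?_)
  apply Subtype.ext
  rw [Subgroup.coe_pow]
  exact (Matrix.SpecialLinearGroup.coe_pow g.1 p).trans hp

end Cfsg.Agent.H27.ProjLine
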