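import Cfsg.Agent.H27.ProjLine
import Cfsg.Agent.Linear.TwoSL
import Cfsg.Agent.S0016

/-! Sylow 2-subgroups of SL₂ and PSL₂ in odd characteristic. -/

set_option autoImplicit false

namespace Cfsg.Agent.H27.QuaternionSylow

open Matrix Cfsg.Agent.H27.GLTwo

variable {F : Type*} [Field F] [Fintype F]

theorem exists_sq_add_sq (hF : Odd (Fintype.card F)) : ∃ a b : F, a ^ 2 + b ^ 2 = -1 := by
  obtain ⟨a, b, hab⟩ := FiniteField.exists_root_sum_quadratic (R := F) (f := Polynomial.X ^ 2)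
    (g := Polynomial.X ^ 2 - Polynomial.C (-1)) (Polynomial.degree_X_pow 2)
    (Polynomial.degree_X_pow_sub_C (by norm_num) _) (Nat.odd_iff.1 hF)
  refine ⟨a, b, ?_⟩
  simp at hab
  linear_combination hab

theorem exists_noncomm (hF : Odd (Fintype.card F)) :
    ∃ (Q : Subgroup (SpecialLinearGroup (Fin 2) F)) (x y : SpecialLinearGroup (Fin 2) F),
      IsPGroup 2 Q ∧ x ∈ Q ∧ y ∈ Q ∧ x * y ≠ y * x := by
  have h2 : (2 : F) ≠ 0 := Cfsg.Agent.Linear.two_ne_zero_of_odd_card hF
  obtain ⟨a, b, hab⟩ := exists_sq_add_sq hF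
  let J : SpecialLinearGroup (Fin 2) F := ⟨!![0, 1; -1, 0], by simp [Matrix.det_fin_two_of]⟩
  let X : SpecialLinearGroup (Fin 2) F := ⟨!![a, b; b, -a], by
    rw [Matrix.det_fin_two_of]; linear_combination -hab⟩
  have hJ : J ^ 2 ^ 2 = 1 := by
    refine Subtype.ext ?_
    change (J.1) ^ 4 = 1
    simp [J, pow_succ, Matrix.one_fin_two]
  have hXX : X.1 * X.1 = -1 := by
    ext i j
    fin_cases i <;> fin_cases j <;> simp [X, Matrix.mul_apply, Fin.sum_univ_two] <;>
      first | linear_combination hab | ring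
  have hX : X ^ 2 ^ 2 = 1 := by
    refine Subtype.ext ?_
    change X.1 ^ (2 * 2) = 1
    rw [pow_mul, pow_two X.1, hXX, neg_one_sq]
  have hconj : J * X * J⁻¹ = X⁻¹ := by
    rw [mul_inv_eq_iff_eq_mul]
    refine Subtype.ext ?_
    change J.1 * X.1 = Matrix.adjugate X.1 * J.1
    rw [Matrix.adjugate_fin_two]
    ext i j
    fin_cases i <;> fin_cases j <;> simp [J, X, Matrix.mul_apply, Fin.sum_univ_two]
  refine ⟨Subgroup.zpowers J ⊔ Subgroup.zpowers X, J, X, ?_,
    Subgroup.mem_sup_left (Subgroup.mem_zpowers J), Subgroup.mem_sup_right (Subgroup.mem_zpowers X), ?_⟩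
  · have hp : ∀ g : SpecialLinearGroup (Fin 2) F, g ^ 2 ^ 2 = 1 → IsPGroup 2 (Subgroup.zpowers g) := by
      intro g hg y
      refine ⟨2, Subtype.ext ?_⟩
      obtain ⟨k, hk⟩ := Subgroup.mem_zpowers_iff.1 y.2
      rw [Subgroup.coe_pow, ← hk, ← zpow_natCast (g ^ k), ← _root_.zpow_mul, mul_comm, _root_.zpow_mul,
        zpow_natCast, hg, _root_.one_zpow]
      rfl
    refine (hp J hJ).to_sup_of_normal_right' (hp X hX) ?_
    rw [Subgroup.zpowers_le, Subgroup.mem_normalizer_iff]
    intro h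
    have hconj' : J⁻¹ * X * J = X⁻¹ := by
      have h1 : X = J * X⁻¹ * J⁻¹ := by
        conv_lhs => rw [← inv_inv X, ← hconj]
        group
      conv_lhs => rw [h1]
      group
    constructor
    · intro hh
      obtain ⟨k, rfl⟩ := Subgroup.mem_zpowers_iff.1 hh
      rw [← conj_zpow, hconj]
      exact zpow_mem (inv_mem (Subgroup.mem_zpowers X)) k
    · intro hh
      obtain ⟨k, hk⟩ := Subgroup.mem_zpowers_iff.1 hh
      have e : h = (J⁻¹ * X * J⁻¹⁻¹) ^ k := by
        rw [conj_zpow, hk]; group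
      rw [e, inv_inv, hconj']
      exact zpow_mem (inv_mem (Subgroup.mem_zpowers X)) k
  · intro hc
    have hi : X⁻¹ = X := by rw [← hconj, hc, mul_inv_cancel_right]
    have hXX' : X * X = 1 := by
      have := inv_mul_cancel X
      rwa [hi] at this
    have h1 : X.1 * X.1 = 1 := congrArg Subtype.val hXX'
    rw [hXX] at h1
    have := congrFun (congrFun h1 0) 0
    simp at this
    exact h2 (by linear_combination -this)

theorem not_isCyclic (hF : Odd (Fintype.card F)) (P : Sylow 2 (SpecialLinearGroup (Fin 2) F)) :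
    ¬ IsCyclic (P : Subgroup (SpecialLinearGroup (Fin 2) F)) := by
  intro hP
  obtain ⟨Q, x, y, hQ, hx, hy, hne⟩ := exists_noncomm hF
  obtain ⟨P', hP'⟩ := hQ.exists_le_sylow
  have : IsCyclic (P' : Subgroup (SpecialLinearGroup (Fin 2) F)) :=
    isCyclic_of_surjective (P.equiv P').toMonoidHom (P.equiv P').surjective
  let := IsCyclic.commGroup (α := (P' : Subgroup (SpecialLinearGroup (Fin 2) F)))
  exact hne (congrArg Subtype.val (mul_comm (⟨x, hP' hx⟩ : (P' : Subgroup _)) ⟨y, hP' hy⟩))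

theorem sylow_equiv_quaternion (hF : Odd (Fintype.card F))
    (P : Sylow 2 (SpecialLinearGroup (Fin 2) F)) :
    ∃ k : ℕ, 1 ≤ k ∧
      Nonempty ((P : Subgroup (SpecialLinearGroup (Fin 2) F)) ≃* QuaternionGroup (2 ^ k)) := by
  have h2 : (2 : F) ≠ 0 := Cfsg.Agent.Linear.two_ne_zero_of_odd_card hF
  have huniq : ∀ H K : Subgroup (P : Subgroup (SpecialLinearGroup (Fin 2) F)),
      Nat.card H = 2 → Nat.card K = 2 → H = K := by
    have key : ∀ H K : Subgroup (P : Subgroup (SpecialLinearGroup (Fin 2) F)),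
        Nat.card H = 2 → Nat.card K = 2 → H ≤ K := by
      intro H K hH hK g hg
      by_cases hg1 : g = 1
      · exact hg1 ▸ one_mem _
      have inv2 : ∀ (L : Subgroup (P : Subgroup (SpecialLinearGroup (Fin 2) F))), Nat.card L = 2 →
          ∀ l ∈ L, l ≠ 1 → l.1 = -1 := by
        intro L hL l hl hl1
        have h := pow_card_eq_one' (x := (⟨l, hl⟩ : L))
        rw [hL, pow_two] at h
        refine (Cfsg.Agent.Linear.eq_one_or_neg_one_of_sq h2
          (congrArg (fun a : L => a.1.1) h)).resolve_left fun h => hl1 (Subtype.ext h)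
      obtain ⟨x, hx⟩ : ∃ x : K, x ≠ 1 := by
        have : Nontrivial K := by rw [← Finite.one_lt_card_iff_nontrivial, hK]; norm_num
        exact exists_ne 1
      have : g = x.1 := Subtype.ext ((inv2 H hH g hg hg1).trans
        (inv2 K hK x.1 x.2 fun h => hx (Subtype.ext h)).symm)
      exact this ▸ x.2
    exact fun H K hH hK => le_antisymm (key H K hH hK) (key K H hK hH)
  rcases Cfsg.Agent.S0016.result 2 P.isPGroup' huniq with h | ⟨-, n, ⟨e⟩⟩
  · exact absurd h (not_isCyclic hF P)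
  · refine ⟨n, Nat.one_le_iff_ne_zero.2 fun h0 => not_isCyclic hF P ?_, ⟨e⟩⟩
    subst h0
    have : IsCyclic (QuaternionGroup 1) := QuaternionGroup.quaternionGroup_one_isCyclic
    let e' : QuaternionGroup 1 ≃* (P : Subgroup (SpecialLinearGroup (Fin 2) F)) := e.symm
    exact isCyclic_of_surjective e'.toMonoidHom e'.surjective

theorem card_SL_two_eight {q : ℕ} (hF : Fintype.card F = q) (hq : q % 8 = 3 ∨ q % 8 = 5) :
    ∃ m : ℕ, Odd m ∧ Nat.card (SpecialLinearGroup (Fin 2) F) = 8 * m := by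
  rw [Cfsg.Agent.Linear.card_SL_two, hF]
  obtain ⟨k, r, rfl, hr⟩ : ∃ k r, q = 8 * k + r ∧ (r = 3 ∨ r = 5) :=
    ⟨q / 8, q % 8, (Nat.div_add_mod q 8).symm, hq⟩
  rcases hr with rfl | rfl
  · refine ⟨(8 * k + 3) * (8 * k ^ 2 + 6 * k + 1), Odd.mul ⟨4 * k + 1, by ring⟩
      ⟨4 * k ^ 2 + 3 * k, by ring⟩, ?_⟩
    rw [Nat.sub_eq_of_eq_add (b := 1) (show (8 * k + 3) ^ 2 = 8 * (8 * k ^ 2 + 6 * k + 1) + 1 by ring)]
    ring
  · refine ⟨(8 * k + 5) * (8 * k ^ 2 + 10 * k + 3), Odd.mul ⟨4 * k + 2, by ring⟩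
      ⟨4 * k ^ 2 + 5 * k + 1, by ring⟩, ?_⟩
    rw [Nat.sub_eq_of_eq_add (b := 1) (show (8 * k + 5) ^ 2 = 8 * (8 * k ^ 2 + 10 * k + 3) + 1 by ring)]
    ring

theorem sylow_psl_klein {q : ℕ} (hF : Fintype.card F = q) (hq : q % 8 = 3 ∨ q % 8 = 5)
    (P : Sylow 2 (ProjectiveSpecialLinearGroup (Fin 2) F)) :
    IsKleinFour (P : Subgroup (ProjectiveSpecialLinearGroup (Fin 2) F)) := by
  have hodd : Odd (Fintype.card F) := by rw [hF, Nat.odd_iff]; omega
  have h2 : (2 : F) ≠ 0 := Cfsg.Agent.Linear.two_ne_zero_of_odd_card hodd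
  obtain ⟨m, hm, hSL⟩ := card_SL_two_eight hF hq
  have hm0 : m ≠ 0 := by rintro rfl; simp at hm
  have hfac : ∀ c j : ℕ, c = 2 ^ j * m → c.factorization 2 = j := by
    intro c j hc
    rw [hc, Nat.factorization_mul (by positivity) hm0, Finsupp.add_apply,
      Nat.Prime.factorization_pow Nat.prime_two, Finsupp.single_eq_same,
      Nat.factorization_eq_zero_of_not_dvd
        (fun h => Nat.not_even_iff_odd.2 hm (even_iff_two_dvd.2 h)), add_zero]
  have hZ : Nat.card (Subgroup.center (SpecialLinearGroup (Fin 2) F)) = 2 := by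
    rw [Cfsg.Agent.Linear.card_center_SL, Fintype.card_fin, hF]
    exact Nat.gcd_eq_left (by omega)
  have hPSL : Nat.card (ProjectiveSpecialLinearGroup (Fin 2) F) = 2 ^ 2 * m := by
    have := Cfsg.Agent.Linear.card_center_mul_card_PSL (ι := Fin 2) (F := F)
    rw [hZ, hSL] at this
    omega
  have hP : Nat.card (P : Subgroup (ProjectiveSpecialLinearGroup (Fin 2) F)) = 4 := by
    have := P.card_eq_multiplicity
    rw [hfac _ 2 hPSL] at this
    exact this
  let π := QuotientGroup.mk' (Subgroup.center (SpecialLinearGroup (Fin 2) F))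
  let T := (P : Subgroup (ProjectiveSpecialLinearGroup (Fin 2) F)).comap π
  have hT : Nat.card T = 8 := by
    have h1 := T.card_mul_index
    rw [Subgroup.index_comap_of_surjective _ (QuotientGroup.mk'_surjective _)] at h1
    have h2 := (P : Subgroup (ProjectiveSpecialLinearGroup (Fin 2) F)).card_mul_index
    rw [hP, hPSL] at h2
    have h3 : (P : Subgroup (ProjectiveSpecialLinearGroup (Fin 2) F)).index = m := by omega
    rw [h3, hSL] at h1
    exact Nat.eq_of_mul_eq_mul_right (Nat.pos_of_ne_zero hm0) h1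
  let S : Sylow 2 (SpecialLinearGroup (Fin 2) F) := Sylow.ofCard T (by
    rw [hT, hfac _ 3 (by rw [hSL]; norm_num)]
    norm_num)
  have hncyc : ¬ IsCyclic T := not_isCyclic hodd S
  refine ⟨hP, ?_⟩
  have : Nontrivial (P : Subgroup (ProjectiveSpecialLinearGroup (Fin 2) F)) := by
    rw [← Finite.one_lt_card_iff_nontrivial, hP]; norm_num
  have hsq : ∀ g : (P : Subgroup (ProjectiveSpecialLinearGroup (Fin 2) F)), g ^ 2 = 1 := by
    rintro ⟨g, hg⟩
    obtain ⟨y, rfl⟩ := QuotientGroup.mk'_surjective _ g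
    have hy : y ∈ T := hg
    have hdvd : orderOf (⟨y, hy⟩ : T) ∣ 2 ^ 3 := by
      have := orderOf_dvd_natCard (⟨y, hy⟩ : T)
      rwa [hT] at this
    obtain ⟨j, hj, hj'⟩ := (Nat.dvd_prime_pow Nat.prime_two).1 hdvd
    have hj2 : j ≤ 2 := by
      by_contra hlt
      obtain rfl : j = 3 := by omega
      exact hncyc (isCyclic_of_orderOf_eq_card (⟨y, hy⟩ : T) (by rw [hj', hT]; norm_num))
    have h4 : (y * y) * (y * y) = 1 := by
      have h : (⟨y, hy⟩ : T) ^ 2 ^ 2 = 1 :=
        orderOf_dvd_iff_pow_eq_one.1 (hj' ▸ pow_dvd_pow 2 hj2)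
      have h' := congrArg Subtype.val h
      simp only [Subgroup.coe_pow, Subgroup.coe_one] at h'
      rw [← h']
      simp [pow_succ, mul_assoc]
    have hc : y * y ∈ Subgroup.center (SpecialLinearGroup (Fin 2) F) :=
      Cfsg.Agent.Linear.mem_center_SL_two.2 (Cfsg.Agent.Linear.eq_one_or_neg_one_of_sq h2 h4)
    refine Subtype.ext ?_
    rw [pow_two]
    exact (map_mul π y y).symm.trans ((QuotientGroup.eq_one_iff _).2 hc)
  exact Monoid.exponent_eq_prime_iff Nat.prime_two |>.2 fun g hg => orderOf_eq_prime (hsq g) hg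

theorem sl_two_three (hF : Fintype.card F = 3) :
    (∃ Q : Subgroup (SpecialLinearGroup (Fin 2) F), Q.Normal ∧ Q.index = 3 ∧
      Nonempty (Q ≃* QuaternionGroup 2)) ∧
      Nat.card (Subgroup.center (SpecialLinearGroup (Fin 2) F)) = 2 := by
  have hZ : Nat.card (Subgroup.center (SpecialLinearGroup (Fin 2) F)) = 2 := by
    rw [Cfsg.Agent.Linear.card_center_SL, Fintype.card_fin, hF]
    rfl
  refine ⟨?_, hZ⟩
  have hPSL : Nat.card (ProjectiveSpecialLinearGroup (Fin 2) F) = 12 := by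
    have := Cfsg.Agent.Linear.card_PSL_two_mul (F := F)
    rw [hF] at this
    norm_num at this
    omega
  obtain ⟨e⟩ := Cfsg.Agent.H27.ProjLine.psl_two_equiv_alternating (F := F) (n := 4) (by omega)
    (by rw [hPSL]; rfl)
  have h4 : Nat.card (Fin 4) = 4 := by simp
  have hV := alternatingGroup.kleinFour_card_of_card_eq_four (α := Fin 4) h4
  have := alternatingGroup.characteristic_kleinFour (α := Fin 4) h4
  let π : SpecialLinearGroup (Fin 2) F →* alternatingGroup (Fin 4) :=
    e.toMonoidHom.comp (QuotientGroup.mk' (Subgroup.center (SpecialLinearGroup (Fin 2) F)))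
  have hπ : Function.Surjective π := e.surjective.comp (QuotientGroup.mk'_surjective _)
  let Q := (alternatingGroup.kleinFour (Fin 4)).comap π
  have hidx : Q.index = 3 := by
    rw [Subgroup.index_comap_of_surjective _ hπ]
    have := (alternatingGroup.kleinFour (Fin 4)).card_mul_index
    rw [hV, nat_card_alternatingGroup, h4] at this
    simp only [Nat.factorial] at this
    omega
  have hSL : Nat.card (SpecialLinearGroup (Fin 2) F) = 24 := by
    rw [Cfsg.Agent.Linear.card_SL_two, hF]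
    norm_num
  have hQ : Nat.card Q = 8 := by
    have := Q.card_mul_index
    rw [hidx, hSL] at this
    omega
  have hodd : Odd (Fintype.card F) := by rw [hF]; decide
  have h24 : (24 : ℕ).factorization 2 = 3 := by
    rw [show (24 : ℕ) = 2 ^ 3 * 3 by norm_num, Nat.factorization_mul (by norm_num) (by norm_num),
      Finsupp.add_apply, Nat.Prime.factorization_pow Nat.prime_two, Finsupp.single_eq_same,
      Nat.factorization_eq_zero_of_not_dvd (by norm_num), add_zero]
  let S : Sylow 2 (SpecialLinearGroup (Fin 2) F) := Sylow.ofCard Q (by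
    rw [hQ, hSL, h24]
    norm_num)
  obtain ⟨k, hk, ⟨f⟩⟩ := sylow_equiv_quaternion hodd S
  have hk1 : k = 1 := by
    have h := Nat.card_congr f.toEquiv
    have h' : Nat.card (QuaternionGroup (2 ^ k)) = 8 := h.symm.trans hQ
    rw [Nat.card_eq_fintype_card, QuaternionGroup.card] at h'
    by_contra hne
    have : 2 ^ 2 ≤ 2 ^ k := Nat.pow_le_pow_right (by norm_num) (by omega)
    omega
  subst hk1
  exact ⟨Q, inferInstance, hidx, ⟨f⟩⟩

end Cfsg.Agent.H27.QuaternionSylow
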