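import Cfsg.Agent.H27.PermFamily
import Cfsg.Agent.Linear.Simple
import Cfsg.Agent.Linear.TwoSL

/-! `PSL₂(9) ≅ A₆` via six invariant sets of 40 vectors. -/

set_option autoImplicit false

namespace Cfsg.Agent.H27.SixPoints

open Matrix Cfsg.Agent.H27.PermFamily

/-- the field with nine elements -/
abbrev K9 := QuadraticAlgebra (ZMod 3) (-1) 0

instance : Fact (∀ r : ZMod 3, r ^ 2 ≠ -1 + 0 * r) := ⟨by decide⟩

instance instDecEqK9 : DecidableEq K9 := fun x y =>
  decidable_of_iff (x.re = y.re ∧ x.im = y.im) (by rw [QuadraticAlgebra.ext_iff])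

instance instFintypeK9 : Fintype K9 := Fintype.ofEquiv _ (QuadraticAlgebra.equivProd _ _).symm

theorem card_K9 : Fintype.card K9 = 9 := by decide

/-- code of a vector -/
def code (v : Fin 2 → K9) : ℕ :=
  27 * (v 0).re.val + 9 * (v 0).im.val + 3 * (v 1).re.val + (v 1).im.val

/-- the six sets, as bit masks -/
def masks : Fin 6 → ℕ :=
  ![33734161534595406413232, 267152436185068891232176, 1034780861430256597255246,
    1727865194585869255252046, 2073048017084683781546574, 2116974246867301116537776]

/-- membership in the `i`-th set -/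
def chi (i : Fin 6) (v : Fin 2 → K9) : Bool := (masks i).testBit (code v)

theorem chi_inj : Function.Injective chi := by
  intro i j h
  revert h
  revert i j
  decide +kernel

theorem stable_transvection : ∀ (c : K9) (i : Fin 6), (∃ j : Fin 6, ∀ a b : K9, chi j ![a + c * b, b] = chi i ![a, b]) ∧
    (∃ j : Fin 6, ∀ a b : K9, chi j ![a, c * a + b] = chi i ![a, b]) := by
  decide +kernel

theorem neg_invariant : ∀ (i : Fin 6) (a b : K9), chi i ![-a, -b] = chi i ![a, b] := by
  decide +kernel

theorem moved : ∃ (a b : K9), chi 0 ![a + b, b] ≠ chi 0 ![a, b] := by decide +kernel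

theorem smul_transvection01 (c : K9) (v : Fin 2 → K9) :
    (SpecialLinearGroup.transvection (F := K9) (zero_ne_one (α := Fin 2)) c) • v
      = ![v 0 + c * v 1, v 1] := by
  funext k
  rw [Cfsg.Agent.Linear.transvection_smul_apply]
  fin_cases k <;> simp

theorem smul_transvection10 (c : K9) (v : Fin 2 → K9) :
    (SpecialLinearGroup.transvection (F := K9) (one_ne_zero (α := Fin 2)) c) • v
      = ![v 0, c * v 0 + v 1] := by
  funext k
  rw [Cfsg.Agent.Linear.transvection_smul_apply]
  fin_cases k <;> simp [add_comm]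

theorem vec_eta (v : Fin 2 → K9) : v = ![v 0, v 1] := by
  funext k; fin_cases k <;> rfl

theorem stable : ∀ g : SpecialLinearGroup (Fin 2) K9, Stable chi g := by
  intro g
  induction g using Cfsg.Agent.Linear.transvection_induction with
  | one => exact stable_one chi
  | htr i j hij c =>
    intro k
    fin_cases i <;> fin_cases j <;> try exact absurd rfl hij
    · obtain ⟨l, hl⟩ := (stable_transvection c k).1
      refine ⟨l, fun v => ?_⟩
      conv_rhs => rw [vec_eta v, ← hl]
      exact congrArg (chi l) (smul_transvection01 c v)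
    · obtain ⟨l, hl⟩ := (stable_transvection c k).2
      refine ⟨l, fun v => ?_⟩
      conv_rhs => rw [vec_eta v, ← hl]
      exact congrArg (chi l) (smul_transvection10 c v)
  | hmul a b ha hb => exact stable_mul ha hb

theorem psl_two_nine : Nonempty (ProjectiveSpecialLinearGroup (Fin 2) K9 ≃* alternatingGroup (Fin 6)) := by
  have : IsSimpleGroup (ProjectiveSpecialLinearGroup (Fin 2) K9) :=
    Matrix.ProjectiveSpecialLinearGroup.rank_two_simple
      (by rw [Nat.card_eq_fintype_card, card_K9]; norm_num)
  refine psl_equiv_alternating (permHom chi chi_inj stable) ?_ ?_ ?_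
  · intro z hz
    rw [MonoidHom.mem_ker, permHom_eq_one_iff]
    intro i v
    rcases Cfsg.Agent.Linear.mem_center_SL_two.1 hz with rfl | rfl
    · rw [one_smul]
    · have : (-1 : SpecialLinearGroup (Fin 2) K9) • v = ![-v 0, -v 1] := by
        change ((-1 : SpecialLinearGroup (Fin 2) K9) : Matrix (Fin 2) (Fin 2) K9) *ᵥ v = _
        rw [SpecialLinearGroup.coe_neg]
        change (-(1 : Matrix (Fin 2) (Fin 2) K9)) *ᵥ v = _
        rw [Matrix.neg_mulVec, Matrix.one_mulVec]
        exact vec_eta (-v)
      rw [this, neg_invariant, ← vec_eta]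
  · intro h1
    obtain ⟨a, b, hab⟩ := moved
    apply hab
    have h2 := (permHom_eq_one_iff chi chi_inj stable _).1
      (DFunLike.congr_fun h1 (SpecialLinearGroup.transvection (zero_ne_one (α := Fin 2)) (1 : K9))) 0 ![a, b]
    rw [smul_transvection01] at h2
    simpa using h2
  · have := Cfsg.Agent.Linear.card_PSL_two_mul (F := K9)
    rw [card_K9, show Nat.gcd 2 (9 - 1) = 2 from rfl] at this
    rw [this]
    rfl

theorem psl_two_nine' {F : Type*} [Field F] [Fintype F] (hF : Fintype.card F = 9) :
    Nonempty (ProjectiveSpecialLinearGroup (Fin 2) F ≃* alternatingGroup (Fin 6)) := by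
  obtain ⟨e⟩ := psl_two_nine
  exact ⟨(pslCongr (FiniteField.ringEquivOfCardEq (K := F) (K' := K9) (by rw [hF, card_K9]))).trans e⟩

end Cfsg.Agent.H27.SixPoints
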