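import Cfsg.Agent.H27.LowRank
import Cfsg.Agent.S0288
import Cfsg.Agent.Unitary.Field
import Cfsg.Agent.Linear.Generation

/-! `PΩ⁻₄(q) ≅ PSL₂(q²)`, by the action on hermitian 2 × 2 matrices over `GF(q²)`. -/

set_option autoImplicit false

namespace Cfsg.Agent.H27.RankFourMinus

open Matrix Cfsg.Agent.H27.LowRank

variable {F K : Type*} [Field F] [Fintype F] [Field K] [Fintype K] {q : ℕ}

/-- `GF(q²)` as `F(θ)` with `θ² - aθ + b = 0` and its non-trivial automorphism. -/
structure Ext (F K : Type*) [Field F] [Field K] (a b : F) where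
  emb : F →+* K
  σ : K →+* K
  θ : K
  root : θ * θ = emb a * θ - emb b
  fix : ∀ x, σ (emb x) = emb x
  conj : σ θ = emb a - θ
  invol : ∀ x, σ (σ x) = x
  ne : σ θ ≠ θ
  span : ∀ z : K, ∃ u w : F, emb u + θ * emb w = z

theorem exists_ext (hF : Fintype.card F = q) (hK : Fintype.card K = q ^ 2) (a b : F)
    (hab : ∀ z₁ z₂ : F, z₁ ^ 2 + a * z₁ * z₂ + b * z₂ ^ 2 = 0 → z₁ = 0 ∧ z₂ = 0) :
    ∃ D : Ext F K a b, ∀ x, D.σ x = x ^ q := by
  classical
  open Polynomial in
  let p : F[X] := X ^ 2 - C a * X + C b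
  have hm : p.Monic := by simp only [p]; monicity!
  have hd : p.natDegree = 2 := by simp only [p]; compute_degree!
  have hirr : Irreducible p := by
    rw [Polynomial.irreducible_iff_roots_eq_zero_of_degree_le_three (by omega) (by omega)]
    refine Multiset.eq_zero_of_forall_notMem fun r hr => ?_
    have hr' := (Polynomial.mem_roots hm.ne_zero).1 hr
    simp [p] at hr'
    exact one_ne_zero (neg_eq_zero.1 (hab r (-1) (by linear_combination hr')).2)
  have : Fact (Irreducible p) := ⟨hirr⟩
  let pb := AdjoinRoot.powerBasis hm.ne_zero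
  have : Module.Finite F (AdjoinRoot p) := Module.Finite.of_basis pb.basis
  have : Finite (AdjoinRoot p) := Module.finite_of_finite F
  have : Fintype (AdjoinRoot p) := Fintype.ofFinite _
  have hc : Fintype.card (AdjoinRoot p) = q ^ 2 := by
    rw [Module.card_fintype pb.basis, hF, Fintype.card_fin]
    congr 1
  let e : AdjoinRoot p ≃+* K := FiniteField.ringEquivOfCardEq (by rw [hc, hK])
  let emb : F →+* K := e.toRingHom.comp (AdjoinRoot.of p)
  let θ : K := e (AdjoinRoot.root p)
  have hroot : θ * θ = emb a * θ - emb b := by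
    have h := congrArg e (AdjoinRoot.eval₂_root p)
    simp [p] at h
    simp only [emb, θ, RingHom.comp_apply, RingEquiv.toRingHom_eq_coe, RingEquiv.coe_toRingHom]
    linear_combination h
  have hfix : ∀ x : F, emb x ^ q = emb x := fun x => by
    rw [← map_pow, ← hF, FiniteField.pow_card]
  have hn : ∀ x : F, emb x ≠ θ := by
    intro x hx
    have : emb (x ^ 2 + a * x * (-1) + b * (-1) ^ 2) = emb 0 := by
      simp only [map_add, map_mul, map_pow, map_neg, map_one, map_zero, hx]
      linear_combination hroot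
    exact one_ne_zero (neg_eq_zero.1 (hab x (-1) (emb.injective this)).2)
  let g : F × F → K := fun p => emb p.1 + θ * emb p.2
  have hg : Function.Injective g := by
    rintro ⟨u, w⟩ ⟨u', w'⟩ h
    simp only [g] at h
    by_cases hw : w = w'
    · subst hw
      exact Prod.ext (emb.injective (add_right_cancel h)) rfl
    · refine absurd ?_ (hn ((u' - u) / (w - w')))
      rw [map_div₀, map_sub, map_sub, div_eq_iff (sub_ne_zero.2 fun e => hw (emb.injective e))]
      linear_combination -h
  have hspan : ∀ z : K, ∃ u w : F, emb u + θ * emb w = z := by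
    intro z
    obtain ⟨⟨u, w⟩, h⟩ := ((Fintype.bijective_iff_injective_and_card g).2
      ⟨hg, by rw [Fintype.card_prod, hF, hK, sq]⟩).2 z
    exact ⟨u, w, h⟩
  let σ : K →+* K := (Cfsg.Agent.Unitary.frob hK).toRingHom
  have hσ : ∀ x, σ x = x ^ q := fun x => rfl
  have hne : σ θ ≠ θ := by
    intro h
    -- otherwise every element of `K` would be fixed
    have hall : ∀ z : K, z ^ q = z := fun z => by
      obtain ⟨u, w, rfl⟩ := hspan z
      rw [Cfsg.Agent.Unitary.add_pow_q hK, mul_pow, hfix, hfix, ← hσ, h]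
    have h2 : 2 ≤ q := Cfsg.Agent.Unitary.two_le_q hK
    have hle := Polynomial.card_le_degree_of_subset_roots (R := K)
      (p := Polynomial.X ^ q - Polynomial.X) (Z := Finset.univ) (fun z _ => by
        rw [Polynomial.mem_roots (FiniteField.X_pow_card_sub_X_ne_zero K (by omega))]
        simp [hall z])
    rw [Finset.card_univ, hK, FiniteField.X_pow_card_sub_X_natDegree_eq K (by omega)] at hle
    nlinarith
  refine ⟨⟨emb, σ, θ, hroot, fun x => (hσ _).trans (hfix x), ?_, fun x => ?_, hne, hspan⟩, hσ⟩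
  · have h := congrArg σ hroot
    rw [map_mul, map_sub, map_mul, hσ (emb a), hσ (emb b), hfix, hfix] at h
    have : (σ θ - θ) * (σ θ - (emb a - θ)) = 0 := by linear_combination h - hroot
    exact sub_eq_zero.1 ((mul_eq_zero.1 this).resolve_left (sub_ne_zero.2 hne))
  · exact Cfsg.Agent.Unitary.pow_q_q hK x

local notation "V4" => ((Fin 1 ⊕ Fin 1) ⊕ Fin 2 → F)
local notation "M2" => Matrix (Fin 2) (Fin 2) K
local notation "MV" => Matrix ((Fin 1 ⊕ Fin 1) ⊕ Fin 2) ((Fin 1 ⊕ Fin 1) ⊕ Fin 2) F

variable {a b : F} (D : Ext F K a b)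

omit [Fintype F] [Fintype K] in
theorem Ext.eq_zero {u w : F} (h : D.emb u + D.θ * D.emb w = 0) : u = 0 ∧ w = 0 := by
  have h' := congrArg D.σ h
  rw [map_add, map_mul, D.fix, D.fix, map_zero, D.conj] at h'
  have h2 : (D.σ D.θ - D.θ) * D.emb w = 0 := by rw [D.conj]; linear_combination h' - h
  have hw : w = 0 := by
    have := (mul_eq_zero.1 h2).resolve_left (sub_ne_zero.2 D.ne)
    exact (map_eq_zero D.emb).1 this
  subst hw
  rw [map_zero, mul_zero, add_zero] at h
  exact ⟨(map_eq_zero D.emb).1 h, rfl⟩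

/-- the components of an element of `K` over `F` -/
noncomputable def Ext.re (z : K) : F := (D.span z).choose
/-- the components of an element of `K` over `F` -/
noncomputable def Ext.im (z : K) : F := (D.span z).choose_spec.choose

omit [Fintype F] [Fintype K] in
theorem Ext.re_im (z : K) : D.emb (D.re z) + D.θ * D.emb (D.im z) = z :=
  (D.span z).choose_spec.choose_spec

omit [Fintype F] [Fintype K] in
theorem Ext.emb_re_of_fixed {z : K} (h : D.σ z = z) : D.emb (D.re z) = z := by
  have h1 := D.re_im z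
  have h2 := congrArg D.σ h1
  rw [map_add, map_mul, D.fix, D.fix, h] at h2
  have : (D.σ D.θ - D.θ) * D.emb (D.im z) = 0 := by linear_combination h2 - h1
  rw [(mul_eq_zero.1 this).resolve_left (sub_ne_zero.2 D.ne), mul_zero, add_zero] at h1
  exact h1

/-- vectors as hermitian matrices -/
def toMat (v : V4) : M2 :=
  !![D.emb (v (.inl (.inl 0))), D.emb (v (.inr 0)) + D.θ * D.emb (v (.inr 1));
    D.σ (D.emb (v (.inr 0)) + D.θ * D.emb (v (.inr 1))), -D.emb (v (.inl (.inr 0)))]

/-- hermitian matrices as vectors -/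
noncomputable def ofMat (M : M2) : V4 :=
  Sum.elim (Sum.elim ![D.re (M 0 0)] ![-D.re (M 1 1)]) ![D.re (M 0 1), D.im (M 0 1)]

omit [Fintype F] [Fintype K] in
theorem toMat_add (u v : V4) : toMat D (u + v) = toMat D u + toMat D v := by
  ext i j
  fin_cases i <;> fin_cases j <;> simp [toMat] <;> ring

omit [Fintype F] [Fintype K] in
theorem toMat_smul (c : F) (v : V4) : toMat D (c • v) = D.emb c • toMat D v := by
  ext i j
  fin_cases i <;> fin_cases j <;> simp [toMat, D.fix] <;> ring

omit [Fintype F] [Fintype K] in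
theorem toMat_injective : Function.Injective (toMat D) := by
  intro u v h
  have h00 := congrFun (congrFun h 0) 0
  have h01 := congrFun (congrFun h 0) 1
  have h11 := congrFun (congrFun h 1) 1
  simp [toMat] at h00 h01 h11
  have h' := D.eq_zero (u := u (.inr 0) - v (.inr 0)) (w := u (.inr 1) - v (.inr 1))
    (by simp only [map_sub]; linear_combination h01)
  funext k
  rcases k with (k | k) | k <;> fin_cases k
  · exact D.emb.injective h00
  · exact D.emb.injective h11
  · exact sub_eq_zero.1 h'.1
  · exact sub_eq_zero.1 h'.2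

omit [Fintype F] [Fintype K] in
theorem toMat_herm (v : V4) : (toMat D v)ᵀ = (toMat D v).map D.σ := by
  ext i j
  fin_cases i <;> fin_cases j <;>
    simp [toMat, D.fix, D.invol, -map_add, -map_mul]

omit [Fintype F] [Fintype K] in
theorem toMat_ofMat {M : M2} (h : Mᵀ = M.map D.σ) : toMat D (ofMat D M) = M := by
  have h00 : D.σ (M 0 0) = M 0 0 := (congrFun (congrFun h 0) 0).symm
  have h11 : D.σ (M 1 1) = M 1 1 := (congrFun (congrFun h 1) 1).symm
  have h01 : M 1 0 = D.σ (M 0 1) := congrFun (congrFun h 0) 1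
  ext i j
  fin_cases i <;> fin_cases j
  · simpa [toMat, ofMat] using D.emb_re_of_fixed h00
  · simpa [toMat, ofMat] using D.re_im (M 0 1)
  · simp only [toMat, ofMat, Sum.elim_inr, Sum.elim_inl]
    simp [-map_add, -map_mul, D.re_im, h01]
  · simpa [toMat, ofMat] using D.emb_re_of_fixed h11

omit [Fintype F] [Fintype K] in
theorem det_toMat (v : V4) : (toMat D v).det = -D.emb (Cfsg.quadFormMinus 1 F a b v) := by
  simp [toMat, Matrix.det_fin_two, Cfsg.quadFormMinus, D.fix, D.conj]
  linear_combination (D.emb (v (.inr 1))) ^ 2 * D.root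

/-- the matrix of the action of `A` -/
def act (A : SpecialLinearGroup (Fin 2) K) (M : M2) : M2 :=
  (A : M2) * M * ((A : M2).map D.σ)ᵀ

omit [Fintype F] [Fintype K] in
theorem act_herm (A : SpecialLinearGroup (Fin 2) K) {M : M2} (h : Mᵀ = M.map D.σ) :
    (act D A M)ᵀ = (act D A M).map D.σ := by
  have hh : ∀ N : M2, (N.map D.σ).map D.σ = N := fun N => by ext i j; simp [D.invol]
  rw [act, Matrix.map_mul, Matrix.map_mul, Matrix.transpose_mul, Matrix.transpose_mul,
    Matrix.transpose_transpose, ← Matrix.transpose_map, hh, h, Matrix.mul_assoc]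

/-- the action on vectors -/
noncomputable def slEnd : SpecialLinearGroup (Fin 2) K →* Module.End F V4 where
  toFun A :=
    { toFun := fun v => ofMat D (act D A (toMat D v))
      map_add' := fun u v => toMat_injective D (by
        simp only [toMat_add, toMat_ofMat D (act_herm D A (toMat_herm D _))]
        rw [← toMat_add, toMat_ofMat D (act_herm D A (toMat_herm D _)), toMat_add]
        simp [act, Matrix.mul_add, Matrix.add_mul])
      map_smul' := fun c v => toMat_injective D (by
        rw [RingHom.id_apply, toMat_smul D c (ofMat D _),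
          toMat_ofMat D (act_herm D A (toMat_herm D _)),
          toMat_ofMat D (act_herm D A (toMat_herm D _)), toMat_smul]
        simp [act]) }
  map_one' := LinearMap.ext fun v => toMat_injective D (by
    change toMat D (ofMat D (act D 1 (toMat D v))) = toMat D v
    rw [toMat_ofMat D (act_herm D 1 (toMat_herm D _))]
    simp [act, Matrix.map_one])
  map_mul' A B := LinearMap.ext fun v => toMat_injective D (by
    change toMat D (ofMat D (act D (A * B) (toMat D v))) =
      toMat D (ofMat D (act D A (toMat D (ofMat D (act D B (toMat D v))))))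
    rw [toMat_ofMat D (act_herm D _ (toMat_herm D _)), toMat_ofMat D (act_herm D B (toMat_herm D _)),
      toMat_ofMat D (act_herm D A (act_herm D B (toMat_herm D _)))]
    have hAB : ((A * B : SpecialLinearGroup (Fin 2) K) : M2) = (A : M2) * (B : M2) := rfl
    simp only [act, hAB, Matrix.map_mul, Matrix.transpose_mul, Matrix.mul_assoc])

omit [Fintype F] [Fintype K] in
theorem toMat_slEnd (A : SpecialLinearGroup (Fin 2) K) (v : V4) :
    toMat D (slEnd D A v) = act D A (toMat D v) :=
  toMat_ofMat D (act_herm D A (toMat_herm D _))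

omit [Fintype F] [Fintype K] in
theorem slEnd_quad (A : SpecialLinearGroup (Fin 2) K) (v : V4) :
    Cfsg.quadFormMinus 1 F a b (slEnd D A v) = Cfsg.quadFormMinus 1 F a b v := by
  apply D.emb.injective
  have h := det_toMat D (slEnd D A v)
  rw [toMat_slEnd, act, Matrix.det_mul, Matrix.det_mul, Matrix.det_transpose] at h
  have hA : ((A : M2).map D.σ).det = 1 := by
    have := RingHom.map_det D.σ (A : M2)
    rw [A.2, map_one] at this
    exact this.symm
  rw [A.2, hA, one_mul, mul_one, det_toMat] at h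
  exact neg_injective h.symm

/-- the action as a map into the orthogonal group -/
noncomputable def slHom :
    SpecialLinearGroup (Fin 2) K →* Cfsg.isometryGroup F (Cfsg.quadFormMinus 1 F a b) :=
  isoHom (slEnd D) (slEnd_quad D)

omit [Fintype F] [Fintype K] in
theorem toMat_slHom (A : SpecialLinearGroup (Fin 2) K) (v : V4) :
    toMat D (((slHom D A).1 : MV) *ᵥ v) = act D A (toMat D v) := by
  rw [slHom, isoHom_mulVec, toMat_slEnd]

omit [Fintype F] [Fintype K] in
/-- `A` acting as `e` times the identity or as `e` times the transposition -/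
theorem diag_of_act {A : SpecialLinearGroup (Fin 2) K} {e : K}
    (h : ∀ v, act D A (toMat D v) = e • toMat D v ∨ act D A (toMat D v) = e • (toMat D v)ᵀ) :
    (A : M2) 0 1 = 0 ∧ (A : M2) 1 0 = 0 ∧ (A : M2) 0 0 * (A : M2) 1 1 = 1 ∧
      (A : M2) 0 0 * D.σ ((A : M2) 0 0) = e ∧ (A : M2) 0 0 * D.σ ((A : M2) 1 1) = e := by
  have hx := h (Sum.elim (Sum.elim ![1] ![0]) ![0, 0])
  have hy := h (Sum.elim (Sum.elim ![0] ![1]) ![0, 0])
  have hz := h (Sum.elim (Sum.elim ![0] ![0]) ![1, 0])
  have hx' : (toMat D (Sum.elim (Sum.elim ![1] ![0]) ![0, 0]))ᵀ = toMat D (Sum.elim (Sum.elim ![1] ![0]) ![0, 0]) := by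
    ext i j; fin_cases i <;> fin_cases j <;> simp [toMat]
  have hy' : (toMat D (Sum.elim (Sum.elim ![0] ![1]) ![0, 0]))ᵀ = toMat D (Sum.elim (Sum.elim ![0] ![1]) ![0, 0]) := by
    ext i j; fin_cases i <;> fin_cases j <;> simp [toMat]
  have hz' : (toMat D (Sum.elim (Sum.elim ![0] ![0]) ![1, 0]))ᵀ = toMat D (Sum.elim (Sum.elim ![0] ![0]) ![1, 0]) := by
    ext i j; fin_cases i <;> fin_cases j <;> simp [toMat]
  rw [hx', or_self] at hx
  rw [hy', or_self] at hy
  rw [hz', or_self] at hz
  have x00 := congrFun (congrFun hx 0) 0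
  have x11 := congrFun (congrFun hx 1) 1
  have y00 := congrFun (congrFun hy 0) 0
  have z01 := congrFun (congrFun hz 0) 1
  simp [act, toMat, Matrix.mul_apply, Fin.sum_univ_two] at x00 x11 y00 z01
  have hd : (A : M2).det = 1 := A.2
  rw [Matrix.det_fin_two] at hd
  simp [x11, y00] at x00 z01 hd
  exact ⟨y00, x11, hd, x00, z01⟩

omit [Fintype F] [Fintype K] in
theorem scalar_of_act {A : SpecialLinearGroup (Fin 2) K} {e : K}
    (h : ∀ v, act D A (toMat D v) = e • toMat D v) :
    A ∈ Subgroup.center (SpecialLinearGroup (Fin 2) K) ∧ e = 1 := by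
  obtain ⟨h01, h10, hd, h1, h2⟩ := diag_of_act D fun v => Or.inl (h v)
  have hne : (A : M2) 0 0 ≠ 0 := left_ne_zero_of_mul_eq_one hd
  have h00 : (A : M2) 0 0 = (A : M2) 1 1 :=
    D.σ.injective (mul_left_cancel₀ hne (h1.trans h2.symm))
  rw [← h00] at hd
  rcases mul_self_eq_one_iff.1 hd with hc | hc
  · refine ⟨Cfsg.Agent.Linear.mem_center_SL_two.2 (Or.inl (Subtype.ext (Matrix.ext fun i j => by
      fin_cases i <;> fin_cases j <;> simp [h01, h10, ← h00, hc]))), ?_⟩
    rw [← h1, hc, map_one, one_mul]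
  · refine ⟨Cfsg.Agent.Linear.mem_center_SL_two.2 (Or.inr (Subtype.ext (Matrix.ext fun i j => by
      fin_cases i <;> fin_cases j <;> simp [h01, h10, ← h00, hc]))), ?_⟩
    rw [← h1, hc, map_neg, map_one, neg_mul_neg, one_mul]

omit [Fintype F] [Fintype K] in
theorem act_ne_transpose {A : SpecialLinearGroup (Fin 2) K} {e : K} (he : e ≠ 0)
    (h : ∀ v, act D A (toMat D v) = e • (toMat D v)ᵀ) : False := by
  obtain ⟨h01, h10, -, -, h2⟩ := diag_of_act D fun v => Or.inr (h v)
  have hz := congrFun (congrFun (h (Sum.elim (Sum.elim ![0] ![0]) ![0, 1])) 0) 1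
  simp [act, toMat, Matrix.mul_apply, Fin.sum_univ_two, h01, h10] at hz
  exact D.ne (mul_left_cancel₀ he (show e * D.σ D.θ = e * D.θ by linear_combination D.θ * h2 - hz))

theorem pomega_four_minus (hF : Fintype.card F = q) (hK : Fintype.card K = q ^ 2) (a b : F)
    (hab : ∀ z₁ z₂ : F, z₁ ^ 2 + a * z₁ * z₂ + b * z₂ ^ 2 = 0 → z₁ = 0 ∧ z₂ = 0) :
    Nonempty (Cfsg.POmega F (Cfsg.quadFormMinus 1 F a b) ≃* ProjectiveSpecialLinearGroup (Fin 2) K) := by
  classical
  obtain ⟨D, -⟩ := exists_ext hF hK a b hab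
  let S := SpecialLinearGroup (Fin 2) K
  let O := Cfsg.isometryGroup F (Cfsg.quadFormMinus 1 F a b)
  let φ : S →* O := slHom D
  have h2q : 2 ≤ q := Cfsg.Agent.Unitary.two_le_q hK
  have hK4 : 4 ≤ Fintype.card K := by rw [hK]; nlinarith
  have hker : φ.ker ≤ Subgroup.center S := by
    intro A hA
    refine (scalar_of_act D (e := 1) fun v => ?_).1
    rw [← toMat_slHom, show slHom D A = 1 from MonoidHom.mem_ker.1 hA, Subgroup.coe_one,
      Units.val_one, Matrix.one_mulVec, one_smul]
  have hkπ : φ.ker ≤ (QuotientGroup.mk' (Subgroup.center S)).ker := by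
    rwa [QuotientGroup.ker_mk']
  have hkc : Nat.card φ.ker ≤ Nat.gcd 2 (q ^ 2 - 1) := by
    refine le_trans (Subgroup.card_le_of_le hker) (le_of_eq ?_)
    rw [Cfsg.Agent.Linear.card_center_SL, Fintype.card_fin, hK]
  have hcard : Nat.card O = 2 * Nat.card S := by
    rw [Cfsg.Agent.S0288.result hF 2 (by norm_num) a b hab, Cfsg.Agent.Linear.card_SL_two, hK]
    rw [Finset.prod_range_one, mul_assoc (2 * q ^ _)]
    norm_num
    have : (q ^ 2 + 1) * (q ^ 2 - 1) = (q ^ 2) ^ 2 - 1 := by rw [← Nat.sq_sub_sq, one_pow]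
    rw [this]
    ring
  have hi : φ.range.index ≤ Nat.gcd 2 (q ^ 2 - 1) * 2 :=
    index_range_le φ rfl Nat.card_pos (Nat.mul_le_mul_right 2 hkc) hcard
  have hg2 : Nat.gcd 2 (q ^ 2 - 1) ≤ 2 := Nat.le_of_dvd two_pos (Nat.gcd_dvd_left _ _)
  have hsub : φ.range ≤ commutator O := by
    rw [MonoidHom.range_eq_map, ← Cfsg.Agent.Linear.commutator_SL_eq_top_of_card (ι := Fin 2) (F := K)
      (Or.inr (by rw [Nat.card_eq_fintype_card]; exact hK4)), commutator_def, Subgroup.map_commutator]
    exact Subgroup.commutator_mono le_top le_top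
  have hnorm : φ.range.Normal := by
    by_cases h2 : (2 : F) = 0
    · have : CharP F 2 := CharTwo.of_one_ne_zero_of_two_eq_zero one_ne_zero h2
      have hev := (FiniteField.even_card_iff_char_two (F := F)).1 (ringChar.eq F 2)
      have hgcd : Nat.gcd 2 (q ^ 2 - 1) = 1 := by
        refine Nat.coprime_iff_gcd_eq_one.1 (Nat.prime_two.coprime_iff_not_dvd.2 ?_)
        have : 2 ∣ q ^ 2 := dvd_pow (Nat.dvd_of_mod_eq_zero (hF ▸ hev)) two_ne_zero
        have : 1 ≤ q ^ 2 := Nat.one_le_pow _ _ (by omega)
        omega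
      rw [hgcd] at hi
      rcases Nat.lt_or_ge φ.range.index 2 with h | h
      · have h1 : φ.range.index = 1 := by
          have := Subgroup.index_ne_zero_of_finite (H := φ.range)
          omega
        rw [Subgroup.index_eq_one.1 h1]; infer_instance
      · exact Subgroup.normal_of_index_eq_two (by omega)
    · have h2K : (-1 : K) ≠ 1 := fun h => h2 ((map_eq_zero D.emb).1 (by
        rw [map_ofNat]; linear_combination -h))
      have hQ : ∀ v : V4, Cfsg.quadFormMinus 1 F a b (-v) = Cfsg.quadFormMinus 1 F a b v := fun v => by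
        simp [Cfsg.quadFormMinus]
      let neg : O := isoInv (-LinearMap.id) (fun v => by simp) hQ
      have hneg : ∀ v : V4, (neg.1 : MV) *ᵥ v = -v := fun v => by simp [neg, isoInv_mulVec]
      let tr : V4 →ₗ[F] V4 :=
        { toFun := fun v => Sum.elim (Sum.elim ![v (.inl (.inl 0))] ![v (.inl (.inr 0))])
            ![v (.inr 0) + a * v (.inr 1), -v (.inr 1)]
          map_add' := fun u v => by
            funext k; rcases k with (k | k) | k <;> fin_cases k <;> simp <;> ring
          map_smul' := fun c v => by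
            funext k; rcases k with (k | k) | k <;> fin_cases k <;> simp <;> ring }
      have htrM : ∀ v, toMat D (tr v) = (toMat D v)ᵀ := fun v => by
        ext i j
        fin_cases i <;> fin_cases j <;> simp [toMat, tr, D.fix, D.conj] <;> ring
      let τ : O := isoInv tr
        (fun v => toMat_injective D (by rw [htrM, htrM, Matrix.transpose_transpose]))
        (fun v => D.emb.injective (neg_injective (by
          rw [← det_toMat, ← det_toMat, htrM, Matrix.det_transpose])))
      have hτ : ∀ v : V4, toMat D ((τ.1 : MV) *ᵥ v) = (toMat D v)ᵀ := fun v => by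
        rw [isoInv_mulVec, htrM]
      have hτ2 : τ⁻¹ = τ := Subtype.ext (Units.ext rfl)
      have hneg2 : neg⁻¹ = neg := Subtype.ext (Units.ext rfl)
      refine normal_of_two_outside (a := neg) (b := τ) (by omega) ?_ ?_ ?_ ?_ ?_
      · rintro x ⟨A, rfl⟩
        refine ⟨A, ?_⟩
        rw [hneg2]
        refine iso_ext fun v => ?_
        rw [iso_mul_mulVec, iso_mul_mulVec, hneg, hneg, Matrix.mulVec_neg, neg_neg]
      · rintro x ⟨A, rfl⟩
        refine ⟨SpecialLinearGroup.map D.σ A, ?_⟩
        rw [hτ2]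
        refine iso_ext fun v => toMat_injective D ?_
        rw [iso_mul_mulVec, iso_mul_mulVec, hτ, toMat_slHom, toMat_slHom, hτ]
        have hh : ∀ N : M2, (N.map D.σ).map D.σ = N := fun N => by ext i j; simp [D.invol]
        simp only [act, Matrix.transpose_mul, Matrix.transpose_transpose, Matrix.mul_assoc]
        change (A : M2).map D.σ * (_ * (((A : M2).map D.σ).map D.σ)ᵀ) = _
        rw [hh]
      · rintro ⟨A, hA⟩
        refine h2K (scalar_of_act D (e := -1) (A := A) fun v => ?_).2
        rw [← toMat_slHom, show slHom D A = neg from hA, hneg, neg_one_smul]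
        apply eq_neg_of_add_eq_zero_left
        rw [← toMat_add, neg_add_cancel]
        ext i j; fin_cases i <;> fin_cases j <;> simp [toMat]
      · rintro ⟨A, hA⟩
        refine act_ne_transpose D one_ne_zero (A := A) fun v => ?_
        rw [← toMat_slHom, show slHom D A = τ from hA, hτ, one_smul]
      · rintro ⟨A, hA⟩
        refine act_ne_transpose D (neg_ne_zero.2 one_ne_zero) (A := A) fun v => ?_
        rw [← toMat_slHom, show slHom D A = neg⁻¹ * τ from hA, hneg2, iso_mul_mulVec, hneg,
          ← neg_one_smul F, toMat_smul, hτ, map_neg, map_one]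
  refine pomega_equiv φ (QuotientGroup.mk' (Subgroup.center S)) (by omega) hsub
    (QuotientGroup.mk'_surjective _) hkπ (le_of_eq (QuotientGroup.ker_mk' _)) ?_
  exact center_psl_two (by omega)

end Cfsg.Agent.H27.RankFourMinus
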