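import Cfsg.Agent.H27.KleinCorr
import Cfsg.Agent.H27.RankFourMinus
import Cfsg.Agent.Unitary.Simple
import Cfsg.Agent.Unitary.Order
import Cfsg.Agent.S0288

/-! `PΩ⁻₆(q) ≅ PSU₄(q)`: the Plücker vectors fixed by the semilinear duality. -/

set_option autoImplicit false

namespace Cfsg.Agent.H27.RankSixMinus

open Matrix Cfsg.Agent.H27.LowRank Cfsg.Agent.H27.KleinCorr Cfsg.Agent.H27.RankFourMinus

/-- The constants of the model. -/
structure Model (F K : Type*) [Field F] [Field K] (a b : F) (q : ℕ) extends Ext F K a b where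
  c : K
  ε : K
  trace_c : c + σ c = 1
  norm_ε : ε * σ ε = -1
  σ_eq : ∀ x, σ x = x ^ q

theorem exists_model {F K : Type*} [Field F] [Fintype F] [Field K] [Fintype K] {q : ℕ}
    (hF : Fintype.card F = q) (hK : Fintype.card K = q ^ 2) (a b : F)
    (hab : ∀ z₁ z₂ : F, z₁ ^ 2 + a * z₁ * z₂ + b * z₂ ^ 2 = 0 → z₁ = 0 ∧ z₂ = 0) :
    Nonempty (Model F K a b q) := by
  obtain ⟨D, hσ⟩ := exists_ext hF hK a b hab
  obtain ⟨c, hc⟩ := Cfsg.Agent.Unitary.exists_trace_eq hK (a := (1 : K)) (one_pow q)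
  obtain ⟨ε, hε⟩ := Cfsg.Agent.Unitary.exists_norm_eq_neg_one hK
  exact ⟨⟨D, c, ε, by rw [hσ]; exact hc, by rw [hσ]; exact hε, hσ⟩⟩

variable {F K : Type*} [Field F] [Field K] {a b : F} {q : ℕ} (D : Model F K a b q)

local notation "V" => ((Fin 2 ⊕ Fin 2) ⊕ Fin 2 → F)
local notation "W6" => (Fin 3 ⊕ Fin 3 → K)
local notation "M4" => Matrix (Fin 4) (Fin 4) K

/-- first hyperbolic coordinate -/
def Model.r (v : V) : K := D.emb (v (.inl (.inl 0))) + D.θ * D.emb (v (.inl (.inl 1)))
/-- second hyperbolic coordinate -/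
def Model.w (v : V) : K :=
  (D.emb (v (.inl (.inr 1))) - D.θ * D.emb (v (.inl (.inr 0)))) / (D.σ D.θ - D.θ) - D.c * D.r v
/-- anisotropic coordinate -/
def Model.z (v : V) : K := D.emb (v (.inr 0)) + D.θ * D.emb (v (.inr 1))

/-- three coordinates whose norms add up to the form -/
def Model.X (v : V) : Fin 3 → K := ![D.r v + D.w v, D.ε * D.w v, D.z v]

/-- the fixed vector of the duality -/
def Model.E (v : V) : W6 := Sum.elim (D.X v) (fun i => D.σ (D.X v i))

theorem dual_E (v : V) : dual (D.E v) = D.σ ∘ D.E v := by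
  funext k
  rcases k with k | k
  · rfl
  · exact (D.invol _).symm

theorem X_add (u v : V) : D.X (u + v) = D.X u + D.X v := by
  funext i
  fin_cases i <;> simp [Model.X, Model.r, Model.w, Model.z] <;> ring

theorem X_smul (t : F) (v : V) : D.X (t • v) = D.emb t • D.X v := by
  funext i
  fin_cases i <;> simp [Model.X, Model.r, Model.w, Model.z] <;> ring

theorem E_add (u v : V) : D.E (u + v) = D.E u + D.E v := by
  funext k; rcases k with k | k <;> simp [Model.E, X_add]

theorem E_smul (t : F) (v : V) : D.E (t • v) = D.emb t • D.E v := by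
  funext k; rcases k with k | k <;> simp [Model.E, X_smul, D.fix]

theorem X_injective : Function.Injective D.X := by
  intro u v huv
  have hd : D.X (u - v) = 0 := by
    have := X_add D (u - v) v
    rw [sub_add_cancel, huv] at this
    exact left_eq_add.1 (by rw [add_comm]; exact this)
  refine sub_eq_zero.1 ?_
  generalize u - v = x at hd
  have h0 := congrFun hd 0
  have h1 := congrFun hd 1
  have h2 := congrFun hd 2
  simp [Model.X] at h0 h1 h2
  have hε : D.ε ≠ 0 := fun h => by simpa [h] using D.norm_ε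
  have hw : D.w x = 0 := h1.resolve_left hε
  rw [hw, add_zero] at h0
  simp only [Model.w, h0, mul_zero, sub_zero, div_eq_zero_iff, sub_ne_zero.2 D.ne, or_false] at hw
  have e1 := Ext.eq_zero D.toExt (u := x (.inl (.inr 1))) (w := -x (.inl (.inr 0)))
    (by rw [map_neg]; linear_combination hw)
  have e2 := Ext.eq_zero D.toExt h0
  have e3 := Ext.eq_zero D.toExt h2
  funext k
  rcases k with (k | k) | k <;> fin_cases k
  · exact e2.1
  · exact e2.2
  · exact neg_eq_zero.1 e1.2
  · exact e1.1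
  · exact e3.1
  · exact e3.2

theorem pf_E (v : V) : pf (D.E v) = D.emb (Cfsg.quadFormMinus 2 F a b v) := by
  have h : ∀ x y : K, D.σ (x * y) = D.σ x * D.σ y := map_mul D.σ
  have e : D.σ D.θ - D.θ ≠ 0 := sub_ne_zero.2 D.ne
  -- norm of the first two coordinates is the pairing of the hyperbolic ones
  have hpair : (D.r v + D.w v) * D.σ (D.r v + D.w v) + D.ε * D.w v * D.σ (D.ε * D.w v) =
      D.r v * D.σ (D.w v + D.c * D.r v) + D.σ (D.r v) * (D.w v + D.c * D.r v) := by
    simp only [map_add, map_mul]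
    linear_combination (D.w v * D.σ (D.w v)) * D.norm_ε - (D.r v * D.σ (D.r v)) * D.trace_c
  have hr : D.r v * D.σ (D.w v + D.c * D.r v) + D.σ (D.r v) * (D.w v + D.c * D.r v) =
      D.emb (v (.inl (.inl 0)) * v (.inl (.inr 0)) + v (.inl (.inl 1)) * v (.inl (.inr 1))) := by
    rw [Model.w, sub_add_cancel, map_div₀, map_sub D.σ, map_sub D.σ, map_mul D.σ, D.invol, D.fix, D.fix]
    simp only [Model.r, map_add, map_mul, D.fix]
    field_simp
    rw [show D.θ - D.σ D.θ = -(D.σ D.θ - D.θ) by ring]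
    field_simp
    ring
  have hz : D.z v * D.σ (D.z v) =
      D.emb (v (.inr 0) ^ 2 + a * v (.inr 0) * v (.inr 1) + b * v (.inr 1) ^ 2) := by
    simp only [Model.z, map_add, map_mul, map_pow, D.fix, D.conj]
    linear_combination -(D.emb (v (.inr 1))) ^ 2 * D.root
  simp only [Cfsg.quadFormMinus, Fin.sum_univ_two]
  rw [map_add D.emb (_ + _) (_ + _ + _), ← hr, ← hpair, ← hz]
  simp [pf, Model.E, Model.X]

variable [Fintype F] [Fintype K]

theorem X_bijective (hF : Fintype.card F = q) (hK : Fintype.card K = q ^ 2) :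
    Function.Bijective D.X := by
  classical
  refine (Fintype.bijective_iff_injective_and_card _).2 ⟨X_injective D, ?_⟩
  simp [hF, hK, ← pow_mul]

/-- the inverse of `X` -/
noncomputable def Model.back (hF : Fintype.card F = q) (hK : Fintype.card K = q ^ 2) :
    (Fin 3 → K) → V :=
  (Equiv.ofBijective _ (X_bijective D hF hK)).symm

theorem E_back (hF : Fintype.card F = q) (hK : Fintype.card K = q ^ 2) (w : W6)
    (hw : dual w = D.σ ∘ w) : D.E (D.back hF hK (fun i => w (.inl i))) = w := by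
  have h : D.X (D.back hF hK (fun i => w (.inl i))) = fun i => w (.inl i) :=
    (Equiv.ofBijective _ (X_bijective D hF hK)).apply_symm_apply _
  funext k
  rcases k with k | k
  · simp [Model.E, h]
  · simp only [Model.E, Sum.elim_inr, h]
    exact (congrFun hw (.inl k)).symm

omit [Fintype F] [Fintype K] in
theorem E_injective : Function.Injective D.E := fun u v h => by
  refine X_injective D (funext fun i => ?_)
  exact congrFun h (.inl i)

omit [Fintype F] [Fintype K] in
theorem su_adjoint (A : Cfsg.SU 4 K q) :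
    ((A.1⁻¹ : SpecialLinearGroup (Fin 4) K) : M4)ᵀ = (A.1 : M4).map D.σ := by
  have h : (A.1 : M4)ᵀ * (A.1 : M4).map D.σ = 1 := by
    ext i j
    have h : Cfsg.hermForm 4 K q ((A.1 : M4) *ᵥ Pi.single i 1) ((A.1 : M4) *ᵥ Pi.single j 1) =
        Cfsg.hermForm 4 K q (Pi.single i 1) (Pi.single j 1) := A.2 _ _
    simp only [Cfsg.hermForm, Matrix.mulVec_single_one, Matrix.col_apply, ← D.σ_eq] at h
    simp only [Matrix.mul_apply, Matrix.transpose_apply, Matrix.map_apply, Matrix.one_apply]
    rw [h, Finset.sum_eq_single i (fun k _ hk => by simp [hk]) (by simp)]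
    by_cases hij : i = j <;> simp [hij]
  have hi : (A.1 : M4) * ((A.1⁻¹ : SpecialLinearGroup (Fin 4) K) : M4) = 1 :=
    congrArg Subtype.val (mul_inv_cancel A.1)
  calc ((A.1⁻¹ : SpecialLinearGroup (Fin 4) K) : M4)ᵀ
      = ((A.1⁻¹ : SpecialLinearGroup (Fin 4) K) : M4)ᵀ * ((A.1 : M4)ᵀ * (A.1 : M4).map D.σ) := by
        rw [h, Matrix.mul_one]
    _ = (A.1 : M4).map D.σ := by
        rw [← Matrix.mul_assoc, ← Matrix.transpose_mul, hi, Matrix.transpose_one, Matrix.one_mul]

omit [Fintype F] [Fintype K] in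
theorem klein_E_fixed (A : Cfsg.SU 4 K q) (v : V) :
    dual (klein (A.1 : M4) (D.E v)) = D.σ ∘ klein (A.1 : M4) (D.E v) := by
  rw [dual_klein, dual_E, su_adjoint D, klein_map]

/-- the action on coordinates -/
noncomputable def Model.act (hF : Fintype.card F = q) (hK : Fintype.card K = q ^ 2)
    (A : Cfsg.SU 4 K q) (v : V) : V :=
  D.back hF hK (fun i => klein (A.1 : M4) (D.E v) (.inl i))

theorem E_act (hF : Fintype.card F = q) (hK : Fintype.card K = q ^ 2) (A : Cfsg.SU 4 K q) (v : V) :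
    D.E (D.act hF hK A v) = klein (A.1 : M4) (D.E v) :=
  E_back D hF hK _ (klein_E_fixed D A v)

/-- the representation -/
noncomputable def suEnd (hF : Fintype.card F = q) (hK : Fintype.card K = q ^ 2) :
    Cfsg.SU 4 K q →* Module.End F V where
  toFun A :=
    { toFun := D.act hF hK A
      map_add' := fun u v => E_injective D (by rw [E_add, E_act, E_act, E_act, E_add, map_add])
      map_smul' := fun t v => E_injective D (by
        rw [RingHom.id_apply, E_act, E_smul, E_smul, map_smul, E_act]) }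
  map_one' := LinearMap.ext fun v => E_injective D (by
    change D.E (D.act hF hK 1 v) = D.E v
    rw [E_act]
    change klein (1 : M4) (D.E v) = D.E v
    rw [map_one, Module.End.one_apply])
  map_mul' A B := LinearMap.ext fun v => E_injective D (by
    change D.E (D.act hF hK (A * B) v) = D.E (D.act hF hK A (D.act hF hK B v))
    rw [E_act, E_act, E_act]
    change klein ((A.1 : M4) * (B.1 : M4)) (D.E v) = _
    rw [map_mul, Module.End.mul_apply])

/-- `SU₄` to `O⁻₆` -/
noncomputable def suSix (hF : Fintype.card F = q) (hK : Fintype.card K = q ^ 2) :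
    Cfsg.SU 4 K q →* Cfsg.isometryGroup F (Cfsg.quadFormMinus 2 F a b) :=
  isoHom (suEnd D hF hK) fun A v => by
    refine D.emb.injective ?_
    rw [← pf_E, ← pf_E]
    change pf (D.E (D.act hF hK A v)) = _
    rw [E_act, pf_klein, A.1.2, one_mul]

theorem E_suSix (hF : Fintype.card F = q) (hK : Fintype.card K = q ^ 2) (A : Cfsg.SU 4 K q) (v : V) :
    D.E (((suSix D hF hK A).1 : Matrix ((Fin 2 ⊕ Fin 2) ⊕ Fin 2) ((Fin 2 ⊕ Fin 2) ⊕ Fin 2) F) *ᵥ v) =
      klein (A.1 : M4) (D.E v) := by
  rw [suSix, isoHom_mulVec]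
  exact E_act D hF hK A v

theorem scalar_of_fix (hF : Fintype.card F = q) (hK : Fintype.card K = q ^ 2) {A : Cfsg.SU 4 K q}
    (h : ∀ v, klein (A.1 : M4) (D.E v) = D.E v) :
    ∃ c : K, c * c = 1 ∧ (A.1 : M4) = c • (1 : M4) := by
  refine scalar_of_klein_eq_one (A := A.1) fun w => ?_
  have e : D.θ - D.σ D.θ ≠ 0 := sub_ne_zero.2 D.ne.symm
  let p : W6 := fun k => (w k - D.σ (dual w k)) / (D.θ - D.σ D.θ)
  have hp : dual p = D.σ ∘ p := by
    have hd : ∀ k, dual p k = (dual w k - D.σ (w k)) / (D.θ - D.σ D.θ) := fun k => by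
      rcases k with k | k <;> simp [p, dual_inl, dual_inr]
    funext k
    rw [hd, Function.comp_apply]
    simp only [p, map_div₀, map_sub, D.invol]
    rw [← neg_div_neg_eq, neg_sub, neg_sub]
  have hp' : dual (w - D.θ • p) = D.σ ∘ (w - D.θ • p) := by
    funext k
    have h1 := congrFun hp k
    have h2 : p k * (D.θ - D.σ D.θ) = w k - D.σ (dual w k) := div_mul_cancel₀ _ e
    have h3 := congrArg D.σ h2
    simp only [map_mul, map_sub, D.invol] at h3
    simp only [Function.comp_apply] at h1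
    simp only [map_sub, map_smul, Pi.sub_apply, Pi.smul_apply, smul_eq_mul, Function.comp_apply,
      map_mul, h1]
    linear_combination h3
  rw [show w = (w - D.θ • p) + D.θ • p by abel, map_add, map_smul, ← E_back D hF hK _ hp',
    ← E_back D hF hK _ hp, h, h]

omit [Fintype F] in
theorem card_su_four (hK : Fintype.card K = q ^ 2) :
    Nat.card (Cfsg.SU 4 K q) = q ^ 6 * (q ^ 3 + 1) * ((q ^ 2 - 1) * (q ^ 4 - 1)) := by
  have h := Cfsg.Agent.Unitary.card_GU_eq_mul_card_SU (n := 4) hK (by norm_num)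
  rw [Cfsg.Agent.Unitary.card_GU hK] at h
  refine Nat.eq_of_mul_eq_mul_left (n := q + 1) (by omega) ?_
  rw [← h]
  simp [Finset.prod_range_succ, Cfsg.Agent.Unitary.guFactor, Nat.even_iff]
  ring

theorem pomega_six_minus (hF : Fintype.card F = q) (hK : Fintype.card K = q ^ 2) (a b : F)
    (hab : ∀ z₁ z₂ : F, z₁ ^ 2 + a * z₁ * z₂ + b * z₂ ^ 2 = 0 → z₁ = 0 ∧ z₂ = 0) :
    Nonempty (Cfsg.POmega F (Cfsg.quadFormMinus 2 F a b) ≃* Cfsg.PSU 4 K q) := by
  classical
  obtain ⟨D⟩ := exists_model hF hK a b hab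
  let φ := suSix D hF hK
  have hker : ∀ A ∈ φ.ker, ∃ c : K, c * c = 1 ∧ (A.1 : M4) = c • (1 : M4) := fun A hA => by
    refine scalar_of_fix D hF hK fun v => ?_
    rw [← E_suSix D hF hK, show suSix D hF hK A = 1 from MonoidHom.mem_ker.1 hA, Subgroup.coe_one,
      Units.val_one, Matrix.one_mulVec]
  obtain ⟨h2, h1⟩ := card_le_of_scalar φ.ker (fun A : Cfsg.SU 4 K q => (A.1 : M4))
    (fun x y h => Subtype.ext (Subtype.ext h)) hker
  have hO : Nat.card (Cfsg.isometryGroup F (Cfsg.quadFormMinus 2 F a b)) =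
      2 * Nat.card (Cfsg.SU 4 K q) := by
    rw [Cfsg.Agent.S0288.result hF 3 (by norm_num) a b hab, card_su_four hK]
    simp [Finset.prod_range_succ, mul_assoc]
  refine pomega_of_perfect (Q := Orthogonal.formMinus F 2 a b)
    (Orthogonal.formMinus_nondeg 2 hab) (by simp) (Or.inr (by simp)) φ
    (Cfsg.Agent.Unitary.commutator_eq_top hK (Or.inl le_rfl))
    (Cfsg.Agent.Unitary.isSimpleGroup_PSU hK (by norm_num) (by norm_num)) ?_ h2
    (fun h => h1 (by have := congrArg D.emb h; rwa [map_ofNat, map_zero] at this)) hO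
  intro A hA
  obtain ⟨c, -, hc⟩ := hker A hA
  refine Subgroup.mem_center_iff.2 fun B => Subtype.ext ?_
  exact Subgroup.mem_center_iff.1 (scalar_mem_center hc) B.1

end Cfsg.Agent.H27.RankSixMinus
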