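import Cfsg.Agent.H27.RankFive
import Cfsg.Agent.Symplectic.Center
import Cfsg.Prelude.Def_ChevB2

/-! The Chevalley group of type `B₂` is `PSp₄(F)`, by the adjoint action on symmetric 4 × 4 matrices. -/

set_option autoImplicit false

namespace Cfsg.Agent.H27.B2

open Matrix Cfsg.Agent.H27.RankFive

section sym

variable {R : Type*} [CommRing R]

local notation "V10" => (Fin 2 ⊕ Fin 8 → R)
local notation "M4" => Matrix (Fin 4) (Fin 4) R

/-- coordinates on a Chevalley basis as a symmetric matrix `XJ` -/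
def sym : V10 →ₗ[R] M4 where
  toFun v := !![v (.inr 7), v (.inr 6), -v (.inl 0), -v (.inr 5);
    v (.inr 6), -v (.inr 4), -v (.inr 2), v (.inl 0) - v (.inl 1);
    -v (.inl 0), -v (.inr 2), -v (.inr 0), -v (.inr 1);
    -v (.inr 5), v (.inl 0) - v (.inl 1), -v (.inr 1), v (.inr 3)]
  map_add' u v := by ext i j; fin_cases i <;> fin_cases j <;> simp <;> ring
  map_smul' c v := by ext i j; fin_cases i <;> fin_cases j <;> simp <;> ring

/-- coordinates of a symmetric matrix -/
def sc : M4 →ₗ[R] V10 where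
  toFun S := Sum.elim ![-S 0 2, -S 0 2 - S 1 3]
    ![-S 2 2, -S 2 3, -S 1 2, S 3 3, -S 1 1, -S 0 3, S 0 1, S 0 0]
  map_add' u v := by funext k; rcases k with k | k <;> fin_cases k <;> simp <;> ring
  map_smul' c v := by funext k; rcases k with k | k <;> fin_cases k <;> simp <;> ring

theorem sc_sym (v : V10) : sc (sym v) = v := by
  funext k; rcases k with k | k <;> fin_cases k <;> simp [sc, sym]

theorem sym_transpose (v : V10) : (sym v)ᵀ = sym v := by
  ext i j; fin_cases i <;> fin_cases j <;> simp [sym]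

theorem sym_sc {S : M4} (h : Sᵀ = S) : sym (sc S) = S := by
  have e : ∀ i j, S j i = S i j := fun i j => congrFun (congrFun h i) j
  ext i j
  fin_cases i <;> fin_cases j <;> simp [sym, sc, e 0 1, e 0 2, e 0 3, e 1 2, e 1 3, e 2 3]

theorem sym_sc_act (A : M4) (v : V10) : sym (sc (A * sym v * Aᵀ)) = A * sym v * Aᵀ :=
  sym_sc (by rw [Matrix.transpose_mul, Matrix.transpose_mul, Matrix.transpose_transpose,
    sym_transpose, Matrix.mul_assoc])

/-- the symmetric square -/
def adj : M4 →* Module.End R V10 where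
  toFun A :=
    { toFun := fun v => sc (A * sym v * Aᵀ)
      map_add' := fun u v => by rw [map_add, Matrix.mul_add, Matrix.add_mul, map_add]
      map_smul' := fun c v => by
        rw [map_smul, Matrix.mul_smul, Matrix.smul_mul, map_smul, RingHom.id_apply] }
  map_one' := LinearMap.ext fun v => by simp [sc_sym]
  map_mul' A B := LinearMap.ext fun v => by
    change sc (A * B * sym v * (A * B)ᵀ) = sc (A * sym (sc (B * sym v * Bᵀ)) * Aᵀ)
    rw [sym_sc_act, Matrix.transpose_mul]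
    simp only [Matrix.mul_assoc]

theorem adj_apply (A : M4) (v : V10) : adj A v = sc (A * sym v * Aᵀ) := rfl

theorem scalar_of_adj [IsDomain R] {A B : M4} (hB : Aᵀ * B = 1) (h : ∀ v, adj A v = v) :
    ∃ c : R, c * c = 1 ∧ A = c • (1 : M4) := by
  have key : ∀ v, A * sym v = sym v * B := by
    intro v
    have hv := congrArg sym (h v)
    rw [adj_apply, sym_sc_act] at hv
    calc A * sym v = A * sym v * (Aᵀ * B) := by rw [hB, Matrix.mul_one]
      _ = A * sym v * Aᵀ * B := by simp only [Matrix.mul_assoc]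
      _ = sym v * B := by rw [hv]
  have e := fun k i j => congrFun (congrFun (key (Pi.single (.inr k) 1)) i) j
  have e7 := e 7
  have e4 := e 4
  have e0 := e 0
  have e3 := e 3
  have e6 := e 6
  have e5 := e 5
  have e1 := e 1
  simp [sym, Matrix.mul_apply, Fin.sum_univ_four, Fin.forall_fin_succ, Pi.single_apply]
    at e7 e4 e0 e3 e6 e5 e1
  obtain ⟨a, ha⟩ : ∃ a, a = A 0 0 := ⟨_, rfl⟩
  have hA : A = a • (1 : M4) := by
    ext i j
    fin_cases i <;> fin_cases j <;> simp [ha] <;> grind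
  refine ⟨a, ?_, hA⟩
  have hB0 : B 0 0 = a := by simp [ha]; grind
  have := congrFun (congrFun hB 0) 0
  rw [hA] at this
  simpa [Matrix.mul_apply, Fin.sum_univ_four, hB0] using this

/-- the root vectors of `sp₄` -/
def rootMat : Fin 8 → M4 :=
  ![!![0, 0, 0, 0; 0, 0, 0, 0; 1, 0, 0, 0; 0, 0, 0, 0],
    !![0, 0, 0, 0; 0, 0, 0, 0; 0, 1, 0, 0; 1, 0, 0, 0],
    !![0, 0, 0, 0; 1, 0, 0, 0; 0, 0, 0, -1; 0, 0, 0, 0],
    !![0, 0, 0, 0; 0, 0, 0, 0; 0, 0, 0, 0; 0, -1, 0, 0],
    !![0, 0, 0, 0; 0, 0, 0, -1; 0, 0, 0, 0; 0, 0, 0, 0],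
    !![0, 1, 0, 0; 0, 0, 0, 0; 0, 0, 0, 0; 0, 0, -1, 0],
    !![0, 0, 0, 1; 0, 0, 1, 0; 0, 0, 0, 0; 0, 0, 0, 0],
    !![0, 0, 1, 0; 0, 0, 0, 0; 0, 0, 0, 0; 0, 0, 0, 0]]

theorem sym_map {S : Type*} [CommRing S] (f : R →+* S) (v : V10) :
    sym (f ∘ v) = (sym v).map f := by
  ext i j; fin_cases i <;> fin_cases j <;> simp [sym]

theorem sc_map {S : Type*} [CommRing S] (f : R →+* S) (M : M4) : sc (M.map f) = f ∘ sc M := by
  funext k; rcases k with k | k <;> fin_cases k <;> simp [sc]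

theorem rootMat_map {S : Type*} [CommRing S] (f : R →+* S) (r : Fin 8) :
    (rootMat r : Matrix (Fin 4) (Fin 4) S) = (rootMat r : M4).map f := by
  ext i j; fin_cases r <;> fin_cases i <;> fin_cases j <;> simp [rootMat]

end sym

/-- the symplectic form over `ℤ` -/
def jvZ : Fin 3 ⊕ Fin 3 → ℤ := Sum.elim ![0, -1, 0] ![0, 1, 0]

/-- coefficient of `t ^ k` in the adjoint action of a root element, over `ℤ` -/
def adjC (r : Fin 8) (k : Fin 3) (i j : Fin 2 ⊕ Fin 8) : ℤ :=
  sc (![sym (Pi.single j 1),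
    rootMat r * sym (Pi.single j 1) + sym (Pi.single j 1) * (rootMat r)ᵀ,
    rootMat r * sym (Pi.single j 1) * (rootMat r)ᵀ] k) i

/-- coefficient of `t ^ k` in a root element matrix, over `ℤ` -/
def tabC (D : Cfsg.Lie.ChevalleyDatum) (r : Fin D.nroots) (k : ℕ) (row col : D.Idx) : ℤ :=
  match col with
  | Sum.inl i =>
    (match row with
     | Sum.inl i' => if k = 0 ∧ i' = i then 1 else 0
     | Sum.inr u => if k = 1 ∧ u = r then -((D.cartanSR.getD i.val #[]).getD r.val 0) else 0)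
  | Sum.inr s =>
    if s = r then (match row with | Sum.inr u => if k = 0 ∧ u = r then 1 else 0 | Sum.inl _ => 0)
    else if s.val = D.negIdx.getD r.val 0 then
      (match row with
       | Sum.inl i => if k = 1 then (D.coroot.getD r.val #[]).getD i.val 0 else 0
       | Sum.inr u => if u = s then (if k = 0 then 1 else 0) else if u = r then (if k = 2 then -1 else 0) else 0)
    else
      (match row with
       | Sum.inl _ => 0
       | Sum.inr u => (if k = 0 ∧ u = s then 1 else 0) +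
           (((D.chainCoeff r.val s.val u.val).filter fun km => km.1 = k).map fun km => km.2).sum)

theorem sum_by_degree {F : Type*} [CommRing F] (t : F) :
    ∀ L : List (ℕ × ℤ), (∀ km ∈ L, km.1 < 3) → (L.map fun km => ((km.2 : ℤ) : F) * t ^ km.1).sum =
      ((((L.filter fun km => km.1 = 0).map fun km => km.2).sum : ℤ) : F) +
      ((((L.filter fun km => km.1 = 1).map fun km => km.2).sum : ℤ) : F) * t +
      ((((L.filter fun km => km.1 = 2).map fun km => km.2).sum : ℤ) : F) * t ^ 2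
  | [], _ => by simp
  | a :: L, h => by
    have ih := sum_by_degree t L fun km hkm => h km (List.mem_cons_of_mem _ hkm)
    have ha := h a List.mem_cons_self
    rw [List.map_cons, List.sum_cons, ih]
    rcases a with ⟨k, c⟩
    simp only at ha
    interval_cases k <;> simp <;> ring

theorem xMat_eq_tabC {F : Type*} [Field F] (D : Cfsg.Lie.ChevalleyDatum) (r : Fin D.nroots) (t : F)
    (h : ∀ s u : Fin D.nroots, ∀ km ∈ D.chainCoeff r.val s.val u.val, km.1 < 3) (i j : D.Idx) :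
    D.xMat F r t i j = ((tabC D r 0 i j : ℤ) : F) + ((tabC D r 1 i j : ℤ) : F) * t +
      ((tabC D r 2 i j : ℤ) : F) * t ^ 2 := by
  rcases j with j | s <;> rcases i with i | u <;> simp only [Cfsg.Lie.ChevalleyDatum.xMat, Matrix.of_apply, tabC]
  · split_ifs <;> simp_all
  · split_ifs <;> simp_all
  · split_ifs <;> simp_all
  · by_cases h1 : s = r
    · simp only [h1, if_true]; split_ifs <;> simp_all
    · simp only [h1, if_false]
      by_cases h2 : s.val = D.negIdx.getD r.val 0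
      · simp only [h2, if_true]; split_ifs <;> simp_all
      · simp only [h2, if_false]
        rw [sum_by_degree t _ (h s u)]
        split_ifs <;> simp_all <;> ring

theorem chain_deg : ∀ r s u : Fin Cfsg.Lie.chevB2.nroots,
    ∀ km ∈ Cfsg.Lie.chevB2.chainCoeff r.val s.val u.val, km.1 < 3 := by decide +kernel

/-- the `B₂` table -/
def tabB2 (r : Fin 8) (k : Fin 3) (i j : Fin 2 ⊕ Fin 8) : ℤ := tabC Cfsg.Lie.chevB2 r k.val i j

theorem table_check : ∀ (r : Fin 8) (k : Fin 3) (i j : Fin 2 ⊕ Fin 8),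
    adjC r k i j = tabB2 r k i j := by decide +kernel

theorem root_preserves_int : ∀ r : Fin 8,
    (rootMat r : Matrix (Fin 4) (Fin 4) ℤ) * KleinCorr.alt jvZ + KleinCorr.alt jvZ * (rootMat r)ᵀ = 0 ∧
      rootMat r * KleinCorr.alt jvZ * (rootMat r)ᵀ = 0 := by decide +kernel

variable {F : Type*} [Field F]

local notation "Sp4" => Matrix.symplecticGroup (Fin 2) F

/-- the enumeration `inl i ↦ i`, `inr i ↦ 2 + i` -/
abbrev e4 : Fin 2 ⊕ Fin 2 ≃ Fin 4 := finSumFinEquiv

theorem mem_sp_of {A : Matrix (Fin 4) (Fin 4) F} (h : A * KleinCorr.alt jv * Aᵀ = KleinCorr.alt jv) :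
    (Matrix.reindexAlgEquiv F F e4).symm A ∈ Sp4 := by
  rw [SymplecticGroup.mem_iff]
  apply (Matrix.reindexAlgEquiv F F e4).injective
  have e := (Matrix.reindexAlgEquiv F F e4).apply_symm_apply A
  set B := (Matrix.reindexAlgEquiv F F e4).symm A
  have ht : Matrix.reindexAlgEquiv F F e4 Bᵀ = Aᵀ := by
    rw [← e]; simp [Matrix.transpose_submatrix]
  rw [map_mul, map_mul, e, ht, ← alt_jv, h]

theorem alt_jvZ_map : KleinCorr.alt (jv (F := F)) = (KleinCorr.alt jvZ).map (Int.castRingHom F) := by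
  ext i j; fin_cases i <;> fin_cases j <;> simp [KleinCorr.alt, jv, jvZ]

theorem expand {R : Type*} [CommRing R] (t : R) (E S : Matrix (Fin 4) (Fin 4) R) :
    (1 + t • E) * S * (1 + t • E)ᵀ = S + t • (E * S + S * Eᵀ) + t ^ 2 • (E * S * Eᵀ) := by
  simp only [Matrix.transpose_add, Matrix.transpose_one, Matrix.transpose_smul, Matrix.add_mul,
    Matrix.mul_add, Matrix.one_mul, Matrix.mul_one, Matrix.smul_mul, Matrix.mul_smul, smul_add, smul_smul, sq]
  abel

theorem root_preserves (r : Fin 8) (t : F) :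
    (1 + t • rootMat r) * KleinCorr.alt jv * (1 + t • rootMat r)ᵀ = KleinCorr.alt (jv (F := F)) := by
  obtain ⟨h1, h2⟩ := root_preserves_int r
  rw [expand, alt_jvZ_map, rootMat_map (Int.castRingHom F) r, ← Matrix.transpose_map, ← Matrix.map_mul,
    ← Matrix.map_mul, ← Matrix.map_mul, ← Matrix.map_add _ (map_add _), h1, h2]
  simp

/-- the root elements of `Sp₄` -/
def xr (r : Fin 8) (t : F) : Sp4 := ⟨_, mem_sp_of (root_preserves r t)⟩

theorem toMat4_xr (r : Fin 8) (t : F) : toMat4 (xr r t) = 1 + t • rootMat r := by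
  change Matrix.reindexAlgEquiv F F e4
    ((Matrix.reindexAlgEquiv F F e4).symm _) = _
  rw [AlgEquiv.apply_symm_apply]

/-- the subgroup generated by the root elements -/
def rootGen (F : Type*) [Field F] : Subgroup (Matrix.symplecticGroup (Fin 2) F) :=
  Subgroup.closure {g | ∃ r t, g = xr r t}

theorem xr_mem (r : Fin 8) (t : F) : xr r t ∈ rootGen F := Subgroup.subset_closure ⟨r, t, rfl⟩

theorem xr_mulVec (r : Fin 8) (t : F) (v : Fin 2 ⊕ Fin 2 → F) :
    ((xr r t : Sp4) : Matrix (Fin 2 ⊕ Fin 2) (Fin 2 ⊕ Fin 2) F) *ᵥ v =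
      fun i => ((1 + t • rootMat r : Matrix (Fin 4) (Fin 4) F) *ᵥ (v ∘ e4.symm))
        (e4 i) := by
  funext i
  simp only [xr, Matrix.mulVec, dotProduct]
  rw [← e4.sum_comp]
  simp

theorem exists_move {v : Fin 2 ⊕ Fin 2 → F} (hv : v ≠ 0) :
    ∃ g ∈ rootGen F, ((g : Sp4) : Matrix (Fin 2 ⊕ Fin 2) (Fin 2 ⊕ Fin 2) F) *ᵥ v =
      Pi.single (.inl 0) 1 := by
  classical
  let ok : (Fin 4 → F) → Prop := fun w => ∃ g ∈ rootGen F,
    ((g : Sp4) : Matrix (Fin 2 ⊕ Fin 2) (Fin 2 ⊕ Fin 2) F) *ᵥ (w ∘ e4) = Pi.single (.inl 0) 1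
  suffices h : ∀ w : Fin 4 → F, w ≠ 0 → ok w by
    have h0 : v ∘ e4.symm ≠ 0 := fun h0 => hv (funext fun i => by
      simpa using congrFun h0 (e4 i))
    obtain ⟨g, hg, e⟩ := h _ h0
    refine ⟨g, hg, ?_⟩
    rwa [Function.comp_assoc, Equiv.symm_comp_self, Function.comp_id] at e
  have step : ∀ (r : Fin 8) (t : F) (w : Fin 4 → F), ok ((1 + t • rootMat r) *ᵥ w) → ok w := by
    rintro r t w ⟨g, hg, e⟩
    refine ⟨g * xr r t, mul_mem hg (xr_mem r t), ?_⟩
    rw [Submonoid.coe_mul, ← Matrix.mulVec_mulVec, xr_mulVec, Function.comp_assoc,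
      Equiv.self_comp_symm, Function.comp_id]
    exact e
  have act : ∀ (t : F) (w : Fin 4 → F),
      (1 + t • rootMat 7) *ᵥ w = ![w 0 + t * w 2, w 1, w 2, w 3] ∧
      (1 + t • rootMat 0) *ᵥ w = ![w 0, w 1, w 2 + t * w 0, w 3] ∧
      (1 + t • rootMat 4) *ᵥ w = ![w 0, w 1 - t * w 3, w 2, w 3] ∧
      (1 + t • rootMat 3) *ᵥ w = ![w 0, w 1, w 2, w 3 - t * w 1] ∧
      (1 + t • rootMat 2) *ᵥ w = ![w 0, w 1 + t * w 0, w 2 - t * w 3, w 3] ∧
      (1 + t • rootMat 5) *ᵥ w = ![w 0 + t * w 1, w 1, w 2, w 3 - t * w 2] := by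
    intro t w
    refine ⟨?_, ?_, ?_, ?_, ?_, ?_⟩ <;>
      (ext i; fin_cases i <;> simp [rootMat, Matrix.mulVec, dotProduct, Fin.sum_univ_four] <;> ring)
  have e1 : ok ![1, 0, 0, 0] := ⟨1, one_mem _, by
    rw [Submonoid.coe_one, Matrix.one_mulVec]
    funext i; rcases i with i | i <;> fin_cases i <;> simp [e4, finSumFinEquiv]⟩
  have two : ∀ b : F, ok ![1, b, 0, 0] := fun b => by
    refine step 2 (-b) _ ?_
    rw [(act _ _).2.2.2.2.1]
    convert e1 using 1
    funext i; fin_cases i <;> simp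
  have third : ∀ b d : F, ok ![1, b, 0, d] := by
    intro b d
    by_cases hd : d = 0
    · rw [hd]; exact two b
    · refine step 4 ((b - 1) / d) _ ?_
      rw [(act _ _).2.2.1]
      refine step 3 d _ ?_
      rw [(act _ _).2.2.2.1]
      convert two 1 using 1
      funext i; fin_cases i <;> simp [div_mul_cancel₀ _ hd]
  have withA : ∀ w : Fin 4 → F, w 0 ≠ 0 → ok w := by
    intro w ha
    refine step 0 ((1 - w 2) / w 0) _ ?_
    rw [(act _ _).2.1]
    refine step 7 (1 - w 0) _ ?_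
    rw [(act _ _).1]
    refine step 0 (-1) _ ?_
    rw [(act _ _).2.1]
    convert third (w 1) (w 3) using 1
    funext i; fin_cases i <;> simp [div_mul_cancel₀ _ ha]
  have withB : ∀ w : Fin 4 → F, w 1 ≠ 0 → ok w := by
    intro w hb
    by_cases ha : w 0 = 0
    · refine step 5 1 _ (withA _ ?_)
      rw [(act _ _).2.2.2.2.2]
      simpa [ha] using hb
    · exact withA w ha
  intro w hw
  by_cases ha : w 0 = 0
  · by_cases hb : w 1 = 0
    · by_cases hc : w 2 = 0
      · refine step 4 1 _ (withB _ ?_)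
        rw [(act _ _).2.2.1]
        have hd : w 3 ≠ 0 := fun hd => hw (funext fun i => by fin_cases i <;> simp [ha, hb, hc, hd])
        simpa [hb] using hd
      · refine step 7 1 _ (withA _ ?_)
        rw [(act _ _).1]
        simpa [ha] using hc
    · exact withB w hb
  · exact withA w ha

theorem rootGen_eq_top : rootGen F = ⊤ := by
  rw [eq_top_iff, ← Cfsg.Agent.Symplectic.closure_TSet 2 F, Subgroup.closure_le]
  rintro x ⟨v, c, rfl⟩
  by_cases hv : v = 0
  · have : Cfsg.Agent.Symplectic.T v c = 1 :=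
      Cfsg.Agent.Symplectic.sp_ext fun x => by simp [Cfsg.Agent.Symplectic.T_mulVec, hv]
    rw [this]; exact one_mem _
  · obtain ⟨g, hg, e⟩ := exists_move hv
    have h7 : Cfsg.Agent.Symplectic.T (Pi.single (.inl 0) 1 : Fin 2 ⊕ Fin 2 → F) c = xr 7 c := by
      refine Cfsg.Agent.Symplectic.sp_ext fun x => ?_
      rw [Cfsg.Agent.Symplectic.T_mulVec, xr_mulVec]
      funext i
      rcases i with i | i <;> fin_cases i <;>
        simp [rootMat, Cfsg.sympForm, Matrix.J, Matrix.mulVec, dotProduct, Fin.sum_univ_four,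
          Fintype.sum_sum_type, Fin.sum_univ_two, e4, finSumFinEquiv, Fin.addCases, Pi.single_apply]
    rw [← e, ← Cfsg.Agent.Symplectic.T_conj] at h7
    have h7' : Cfsg.Agent.Symplectic.T v c = g⁻¹ * xr 7 c * g := by rw [← h7]; group
    rw [h7']
    exact mul_mem (mul_mem (inv_mem hg) (xr_mem 7 c)) hg

/-- the adjoint representation -/
noncomputable def adHom : Sp4 →* GL (Fin 2 ⊕ Fin 8) F :=
  MonoidHom.toHomUnits
    { toFun := fun A => LinearMap.toMatrix' (adj (toMat4 A))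
      map_one' := by rw [map_one, map_one, Module.End.one_eq_id, LinearMap.toMatrix'_id]
      map_mul' := fun A B => by rw [map_mul, map_mul, Module.End.mul_eq_comp, LinearMap.toMatrix'_comp] }

theorem adHom_xr (r : Fin 8) (t : F) :
    (adHom (xr r t) : Matrix (Fin 2 ⊕ Fin 8) (Fin 2 ⊕ Fin 8) F) =
      Cfsg.Lie.chevB2.xMat F r t := by
  refine Matrix.ext fun i j => ?_
  rw [xMat_eq_tabC Cfsg.Lie.chevB2 r t (chain_deg r) i j]
  have h0 : adjC r 0 i j = tabC Cfsg.Lie.chevB2 r 0 i j := table_check r 0 i j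
  have h1 : adjC r 1 i j = tabC Cfsg.Lie.chevB2 r 1 i j := table_check r 1 i j
  have h2 : adjC r 2 i j = tabC Cfsg.Lie.chevB2 r 2 i j := table_check r 2 i j
  rw [← h0, ← h1, ← h2]
  change LinearMap.toMatrix' (adj (toMat4 (xr r t))) i j = _
  rw [toMat4_xr, LinearMap.toMatrix'_apply, adj_apply, expand]
  simp only [adjC, Matrix.cons_val_zero, Matrix.cons_val_one, Matrix.cons_val]
  have hs : (Pi.single j 1 : Fin 2 ⊕ Fin 8 → F) = Int.castRingHom F ∘ Pi.single j (1 : ℤ) := by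
    funext k; by_cases h : k = j <;> simp [Pi.single_apply, h]
  rw [hs, sym_map, rootMat_map (Int.castRingHom F) r]
  simp only [← Matrix.transpose_map, ← Matrix.map_mul, map_add, map_smul, sc_map,
    Pi.add_apply, Pi.smul_apply, smul_eq_mul, Function.comp_apply, eq_intCast, Int.cast_add]
  ring

theorem adHom_range : (adHom (F := F)).range = Cfsg.Lie.chevB2.group F := by
  refine le_antisymm ?_ ((Subgroup.closure_le _).2 ?_)
  · rw [MonoidHom.range_eq_map, ← rootGen_eq_top, rootGen, MonoidHom.map_closure]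
    refine Subgroup.closure_mono ?_
    rintro x ⟨g, ⟨r, t, rfl⟩, rfl⟩
    exact ⟨r, t, adHom_xr r t⟩
  · rintro x ⟨r, t, hx⟩
    exact ⟨xr r t, Units.ext ((adHom_xr r t).trans hx.symm)⟩

theorem scalar_iff (A : Sp4) (c : F) : toMat4 A = c • (1 : Matrix (Fin 4) (Fin 4) F) ↔
    ∀ v, (A : Matrix (Fin 2 ⊕ Fin 2) (Fin 2 ⊕ Fin 2) F) *ᵥ v = c • v := by
  change Matrix.reindexAlgEquiv F F e4 (A : Matrix (Fin 2 ⊕ Fin 2) (Fin 2 ⊕ Fin 2) F) = _ ↔ _
  change Matrix.reindexAlgEquiv F F e4 (A : Matrix (Fin 2 ⊕ Fin 2) (Fin 2 ⊕ Fin 2) F) = _ ↔ _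
  rw [← map_one (Matrix.reindexAlgEquiv F F e4), ← map_smul, EmbeddingLike.apply_eq_iff_eq]
  refine ⟨fun h v => by rw [h, Matrix.smul_mulVec, Matrix.one_mulVec],
    fun h => Matrix.ext_iff_mulVec.2 fun v => by rw [h, Matrix.smul_mulVec, Matrix.one_mulVec]⟩

theorem sp_scalar_sq {A : Sp4} {c : F} (h : toMat4 A = c • (1 : Matrix (Fin 4) (Fin 4) F)) :
    c * c = 1 := by
  have hj := klein_jv A
  rw [h] at hj
  have := congrFun hj (.inr 1)
  simpa [KleinCorr.klein_apply, KleinCorr.co, KleinCorr.alt, jv, Matrix.one_apply,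
    Matrix.mul_apply, Fin.sum_univ_four] using this

theorem adHom_ker : (adHom (F := F)).ker = Subgroup.center Sp4 := by
  ext A
  rw [MonoidHom.mem_ker, Cfsg.Agent.Symplectic.mem_center_iff]
  constructor
  · intro h
    have h' : ∀ v, adj (toMat4 A) v = v := fun v => by
      have := congrArg (fun g : GL (Fin 2 ⊕ Fin 8) F => (g : Matrix (Fin 2 ⊕ Fin 8) (Fin 2 ⊕ Fin 8) F) *ᵥ v) h
      change LinearMap.toMatrix' (adj (toMat4 A)) *ᵥ v = (1 : Matrix (Fin 2 ⊕ Fin 8) _ F) *ᵥ v at this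
      rwa [LinearMap.toMatrix'_mulVec, Matrix.one_mulVec] at this
    have hdet : IsUnit (toMat4 A).det :=
      ((toMat4.comp (MonoidHom.id Sp4)).toHomUnits A).isUnit.map Matrix.detMonoidHom
    obtain ⟨c, -, hc⟩ := scalar_of_adj
      (Matrix.mul_nonsing_inv (toMat4 A)ᵀ (by rwa [Matrix.det_transpose])) h'
    exact ⟨c, (scalar_iff A c).1 hc⟩
  · rintro ⟨c, hc⟩
    have hA := (scalar_iff A c).2 hc
    have hc2 := sp_scalar_sq hA
    refine Units.ext (Matrix.ext_iff_mulVec.2 fun v => ?_)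
    change LinearMap.toMatrix' (adj (toMat4 A)) *ᵥ v = (1 : Matrix (Fin 2 ⊕ Fin 8) _ F) *ᵥ v
    rw [LinearMap.toMatrix'_mulVec, Matrix.one_mulVec, hA, adj_apply]
    simp [smul_smul, hc2, sc_sym]

/-- the adjoint representation into the matrices of the datum -/
noncomputable def adB2 : Sp4 →* GL Cfsg.Lie.chevB2.Idx F := adHom

theorem adB2_range : (adB2 (F := F)).range = Cfsg.Lie.chevB2.group F := adHom_range

theorem adB2_ker : (adB2 (F := F)).ker = Subgroup.center Sp4 := adHom_ker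

/-- `B₂(F) ≅ PSp₄(F)` over every field. -/
theorem group_equiv_psp : Nonempty (↥(Cfsg.Lie.chevB2.group F) ≃* Cfsg.PSp 2 F) :=
  ⟨(((QuotientGroup.quotientMulEquivOfEq (adB2_ker (F := F)).symm).trans
    (QuotientGroup.quotientKerEquivRange adB2)).trans (MulEquiv.subgroupCongr adB2_range)).symm⟩

end Cfsg.Agent.H27.B2
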