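import Cfsg.Agent.H27.B2

/-! `PSp₄(F) ≅ PΩ₅(F)` over every field with more than two elements. -/

set_option autoImplicit false

namespace Cfsg.Agent.H27.B2Omega

open Matrix Cfsg.Agent.H27.LowRank Cfsg.Agent.H27.KleinCorr Cfsg.Agent.H27.RankFive Cfsg.Agent.H27.B2

variable {F : Type*} [Field F]

local notation "V5" => (Unit ⊕ (Fin 2 ⊕ Fin 2) → F)
local notation "V6" => (Fin 3 ⊕ Fin 3 → F)
local notation "Sp4" => Matrix.symplecticGroup (Fin 2) F
local notation "M4" => Matrix (Fin 4) (Fin 4) F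
local notation "MV" => Matrix (Unit ⊕ (Fin 2 ⊕ Fin 2)) (Unit ⊕ (Fin 2 ⊕ Fin 2)) F
local notation "O5" => Cfsg.isometryGroup F (Cfsg.quadFormOdd 2 F)

theorem det_root (r : Fin 8) (t : F) : (1 + t • rootMat r : M4).det = 1 := by
  fin_cases r <;> simp [rootMat, Matrix.det_succ_row_zero, Fin.sum_univ_succ, Fin.succAbove, Matrix.one_apply]

theorem det_toMat4 (A : Sp4) : (toMat4 A).det = 1 := by
  let d : Sp4 →* Fˣ := ((Matrix.detMonoidHom (n := Fin 4) (R := F)).comp toMat4).toHomUnits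
  have h : ∀ A : Sp4, A ∈ d.ker := by
    intro A
    have hA : A ∈ rootGen F := rootGen_eq_top (F := F) ▸ Subgroup.mem_top A
    refine (Subgroup.closure_le d.ker).2 ?_ hA
    rintro x ⟨r, t, rfl⟩
    exact MonoidHom.mem_ker.2 (Units.ext (by simp [d, toMat4_xr, det_root]))
  exact congrArg Units.val (MonoidHom.mem_ker.1 (h A))

theorem emb_proj (A : Sp4) (v : V5) :
    emb (proj (klein (toMat4 A) (emb v))) = klein (toMat4 A) (emb v) := by
  have h1 := pf_klein (toMat4 A) (emb v + jv)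
  rw [map_add, klein_jv, det_toMat4, one_mul] at h1
  have h2 := pf_klein (toMat4 A) (emb v)
  rw [det_toMat4, one_mul] at h2
  have key : ∀ w : V6, pf (w + jv) = pf w + w (.inl 1) - w (.inr 1) - 1 := fun w => by
    simp [pf, jv]; ring
  rw [key, key, h2] at h1
  have h3 : emb v (.inl 1) = emb v (.inr 1) := by simp [emb]
  have h4 : klein (toMat4 A) (emb v) (.inl 1) = klein (toMat4 A) (emb v) (.inr 1) := by
    linear_combination h1 + h3
  generalize klein (toMat4 A) (emb v) = w at h4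
  funext k
  rcases k with k | k <;> fin_cases k <;> simp [emb, proj, h4]

/-- the action on `jv⊥` -/
def actEnd : Sp4 →* Module.End F V5 where
  toFun A := proj.comp ((klein (toMat4 A)).comp emb)
  map_one' := LinearMap.ext fun v => by
    rw [LinearMap.comp_apply, LinearMap.comp_apply, map_one, map_one, Module.End.one_apply,
      Module.End.one_apply, proj_emb]
  map_mul' A B := LinearMap.ext fun v => by
    rw [Module.End.mul_apply]
    simp only [LinearMap.comp_apply]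
    rw [emb_proj, map_mul, map_mul, Module.End.mul_apply]

theorem quad_emb (v : V5) : pf (emb v) = Cfsg.quadFormOdd 2 F v := by
  simp [pf, emb, Cfsg.quadFormOdd, Fin.sum_univ_two]
  ring

/-- `Sp₄` to `O₅` -/
noncomputable def phi : Sp4 →* O5 :=
  isoHom actEnd fun A v => by
    rw [← quad_emb, ← quad_emb]
    simp only [actEnd, MonoidHom.coe_mk, OneHom.coe_mk, LinearMap.comp_apply]
    rw [emb_proj, pf_klein, det_toMat4, one_mul]

theorem phi_mulVec (A : Sp4) (v : V5) :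
    ((phi A).1 : MV) *ᵥ v = proj (klein (toMat4 A) (emb v)) := by
  rw [phi, isoHom_mulVec]
  simp only [actEnd, MonoidHom.coe_mk, OneHom.coe_mk, LinearMap.comp_apply]

/-- vectors from coordinates `z, x₀, x₁, y₀, y₁` -/
def mk5 (z a b c d : F) : V5 := Sum.elim (fun _ => z) (Sum.elim ![a, b] ![c, d])

theorem mk5_eta (v : V5) :
    mk5 (v (.inl ())) (v (.inr (.inl 0))) (v (.inr (.inl 1))) (v (.inr (.inr 0))) (v (.inr (.inr 1))) = v := by
  funext k; rcases k with _ | k | k <;> (try fin_cases k) <;> rfl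

theorem quad_mk5 (z a b c d : F) : Cfsg.quadFormOdd 2 F (mk5 z a b c d) = z ^ 2 + (a * c + b * d) := by
  simp [Cfsg.quadFormOdd, mk5, Fin.sum_univ_two]

set_option maxHeartbeats 2000000 in
theorem phi_xr (t z a b c d : F) :
    (((phi (xr 0 t)).1 : MV) *ᵥ mk5 z a b c d = mk5 z a b (c + t * b) (d - t * a)) ∧
    (((phi (xr 1 t)).1 : MV) *ᵥ mk5 z a b c d = mk5 (z + t * a) a b (c - 2 * t * z - t ^ 2 * a) d) ∧
    (((phi (xr 2 t)).1 : MV) *ᵥ mk5 z a b c d = mk5 (z - t * b) a b c (d + 2 * t * z - t ^ 2 * b)) ∧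
    (((phi (xr 3 t)).1 : MV) *ᵥ mk5 z a b c d = mk5 z a (b - t * a) (c + t * d) d) ∧
    (((phi (xr 4 t)).1 : MV) *ᵥ mk5 z a b c d = mk5 z (a - t * b) b c (d + t * c)) ∧
    (((phi (xr 5 t)).1 : MV) *ᵥ mk5 z a b c d = mk5 (z + t * d) a (b - 2 * t * z - t ^ 2 * d) c d) ∧
    (((phi (xr 6 t)).1 : MV) *ᵥ mk5 z a b c d = mk5 (z - t * c) (a + 2 * t * z - t ^ 2 * c) b c d) ∧
    (((phi (xr 7 t)).1 : MV) *ᵥ mk5 z a b c d = mk5 z (a - t * d) (b + t * c) c d) := by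
  refine ⟨?_, ?_, ?_, ?_, ?_, ?_, ?_, ?_⟩ <;>
    (rw [phi_mulVec, toMat4_xr, klein_apply]
     funext k
     rcases k with _ | k | k <;> (try fin_cases k) <;>
      simp [proj, emb, mk5, co, alt, rootMat, Matrix.mul_apply, Fin.sum_univ_four] <;> ring)

/-- elements acting diagonally in the standard coordinates -/
def IsDiag5 (g : O5) : Prop :=
  ∃ e l n m r : F, ∀ z a b c d : F, (g.1 : MV) *ᵥ mk5 z a b c d = mk5 (e * z) (l * a) (m * b) (n * c) (r * d)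

theorem diag_rel {g : O5} {e l n m r : F}
    (h : ∀ z a b c d : F, (g.1 : MV) *ᵥ mk5 z a b c d = mk5 (e * z) (l * a) (m * b) (n * c) (r * d)) :
    e * e = 1 ∧ l * n = 1 ∧ m * r = 1 := by
  have q : ∀ z a b c d : F, (e * z) ^ 2 + (l * a * (n * c) + m * b * (r * d)) = z ^ 2 + (a * c + b * d) := by
    intro z a b c d
    rw [← quad_mk5, ← h, ← quad_mk5]
    exact g.2 _ 0
  refine ⟨?_, ?_, ?_⟩
  · linear_combination q 1 0 0 0 0
  · linear_combination q 0 1 0 1 0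
  · linear_combination q 0 0 1 0 1

theorem iso_mk5_ext {g h : O5}
    (he : ∀ z a b c d : F, (g.1 : MV) *ᵥ mk5 z a b c d = (h.1 : MV) *ᵥ mk5 z a b c d) : g = h :=
  iso_ext fun v => by rw [← mk5_eta v]; exact he _ _ _ _ _

theorem diag_comm {g h : O5} (hg : IsDiag5 g) (hh : IsDiag5 h) : g * h = h * g := by
  obtain ⟨e, l, n, m, r, hg⟩ := hg
  obtain ⟨e', l', n', m', r', hh⟩ := hh
  refine iso_mk5_ext fun z a b c d => ?_
  rw [iso_mul_mulVec, iso_mul_mulVec, hg, hh, hg, hh]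
  congr 1 <;> ring

theorem diag_normalises {g : O5} (hg : IsDiag5 g) {x : O5} (hx : x ∈ (phi (F := F)).range) :
    g * x * g⁻¹ ∈ (phi (F := F)).range := by
  obtain ⟨e, l, n, m, r, hd⟩ := hg
  obtain ⟨he, hl, hm⟩ := diag_rel hd
  have key : ∀ (i : Fin 8) (t : F), ∃ s : F, g * phi (xr i t) = phi (xr i s) * g := by
    intro i
    have k0 : ∀ t : F, ∃ s : F, g * phi (xr 0 t) = phi (xr 0 s) * g := fun t => ⟨n * r * t,
      iso_mk5_ext fun z a b c d => by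
        rw [iso_mul_mulVec, iso_mul_mulVec, hd, (phi_xr _ _ _ _ _ _).1, hd, (phi_xr _ _ _ _ _ _).1]
        congr 1 <;> grind⟩
    have k1 : ∀ t : F, ∃ s : F, g * phi (xr 1 t) = phi (xr 1 s) * g := fun t => ⟨e * n * t,
      iso_mk5_ext fun z a b c d => by
        rw [iso_mul_mulVec, iso_mul_mulVec, hd, (phi_xr _ _ _ _ _ _).2.1, hd, (phi_xr _ _ _ _ _ _).2.1]
        congr 1 <;> grind⟩
    have k2 : ∀ t : F, ∃ s : F, g * phi (xr 2 t) = phi (xr 2 s) * g := fun t => ⟨e * r * t,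
      iso_mk5_ext fun z a b c d => by
        rw [iso_mul_mulVec, iso_mul_mulVec, hd, (phi_xr _ _ _ _ _ _).2.2.1, hd, (phi_xr _ _ _ _ _ _).2.2.1]
        congr 1 <;> grind⟩
    have k3 : ∀ t : F, ∃ s : F, g * phi (xr 3 t) = phi (xr 3 s) * g := fun t => ⟨m * n * t,
      iso_mk5_ext fun z a b c d => by
        rw [iso_mul_mulVec, iso_mul_mulVec, hd, (phi_xr _ _ _ _ _ _).2.2.2.1, hd, (phi_xr _ _ _ _ _ _).2.2.2.1]
        congr 1 <;> grind⟩
    have k4 : ∀ t : F, ∃ s : F, g * phi (xr 4 t) = phi (xr 4 s) * g := fun t => ⟨l * r * t,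
      iso_mk5_ext fun z a b c d => by
        rw [iso_mul_mulVec, iso_mul_mulVec, hd, (phi_xr _ _ _ _ _ _).2.2.2.2.1, hd, (phi_xr _ _ _ _ _ _).2.2.2.2.1]
        congr 1 <;> grind⟩
    have k5 : ∀ t : F, ∃ s : F, g * phi (xr 5 t) = phi (xr 5 s) * g := fun t => ⟨e * m * t,
      iso_mk5_ext fun z a b c d => by
        rw [iso_mul_mulVec, iso_mul_mulVec, hd, (phi_xr _ _ _ _ _ _).2.2.2.2.2.1, hd, (phi_xr _ _ _ _ _ _).2.2.2.2.2.1]
        congr 1 <;> grind⟩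
    have k6 : ∀ t : F, ∃ s : F, g * phi (xr 6 t) = phi (xr 6 s) * g := fun t => ⟨e * l * t,
      iso_mk5_ext fun z a b c d => by
        rw [iso_mul_mulVec, iso_mul_mulVec, hd, (phi_xr _ _ _ _ _ _).2.2.2.2.2.2.1, hd, (phi_xr _ _ _ _ _ _).2.2.2.2.2.2.1]
        congr 1 <;> grind⟩
    have k7 : ∀ t : F, ∃ s : F, g * phi (xr 7 t) = phi (xr 7 s) * g := fun t => ⟨l * m * t,
      iso_mk5_ext fun z a b c d => by
        rw [iso_mul_mulVec, iso_mul_mulVec, hd, (phi_xr _ _ _ _ _ _).2.2.2.2.2.2.2, hd, (phi_xr _ _ _ _ _ _).2.2.2.2.2.2.2]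
        congr 1 <;> grind⟩
    fin_cases i
    · exact k0
    · exact k1
    · exact k2
    · exact k3
    · exact k4
    · exact k5
    · exact k6
    · exact k7
  obtain ⟨A, rfl⟩ := hx
  have hA : A ∈ rootGen F := rootGen_eq_top (F := F) ▸ Subgroup.mem_top A
  refine (Subgroup.closure_le
    (Subgroup.comap ((MulAut.conj g).toMonoidHom.comp phi) (phi (F := F)).range)).2 ?_ hA
  rintro x ⟨i, t, rfl⟩
  obtain ⟨s, hs⟩ := key i t
  refine ⟨xr i s, ?_⟩
  simp only [MonoidHom.comp_apply, MulEquiv.toMonoidHom_eq_coe, MonoidHom.coe_coe, MulAut.conj_apply]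
  rw [hs]; group

/-- bilinear form of the quadratic form -/
def B5 (u v : V5) : F :=
  2 * u (.inl ()) * v (.inl ()) + (u (.inr (.inl 0)) * v (.inr (.inr 0)) + u (.inr (.inr 0)) * v (.inr (.inl 0)) +
    (u (.inr (.inl 1)) * v (.inr (.inr 1)) + u (.inr (.inr 1)) * v (.inr (.inl 1))))

theorem B5_eq (u v : V5) :
    B5 u v = Cfsg.quadFormOdd 2 F (u + v) - Cfsg.quadFormOdd 2 F u - Cfsg.quadFormOdd 2 F v := by
  simp [B5, Cfsg.quadFormOdd, Fin.sum_univ_two]; ring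

theorem B5_iso (g : O5) (u v : V5) : B5 ((g.1 : MV) *ᵥ u) ((g.1 : MV) *ᵥ v) = B5 u v := by
  rw [B5_eq, B5_eq, ← Matrix.mulVec_add]
  have hq : ∀ w, Cfsg.quadFormOdd 2 F ((g.1 : MV) *ᵥ w) = Cfsg.quadFormOdd 2 F w := fun w => g.2 w 0
  rw [hq, hq, hq]


theorem phi_mul_mulVec (A B : Sp4) (v : V5) :
    ((phi (A * B)).1 : MV) *ᵥ v = ((phi A).1 : MV) *ᵥ (((phi B).1 : MV) *ᵥ v) := by
  rw [map_mul, iso_mul_mulVec]

theorem phi_one_mulVec (v : V5) : ((phi (1 : Sp4)).1 : MV) *ᵥ v = v := by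
  rw [map_one, Subgroup.coe_one, Units.val_one, Matrix.one_mulVec]

theorem f0 (t z a b c d : F) : ((phi (xr 0 t)).1 : MV) *ᵥ mk5 z a b c d = mk5 z a b (c + t * b) (d - t * a) :=
  (phi_xr t z a b c d).1
theorem f1 (t z a b c d : F) :
    ((phi (xr 1 t)).1 : MV) *ᵥ mk5 z a b c d = mk5 (z + t * a) a b (c - 2 * t * z - t ^ 2 * a) d := (phi_xr t z a b c d).2.1
theorem f2 (t z a b c d : F) :
    ((phi (xr 2 t)).1 : MV) *ᵥ mk5 z a b c d = mk5 (z - t * b) a b c (d + 2 * t * z - t ^ 2 * b) := (phi_xr t z a b c d).2.2.1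
theorem f3 (t z a b c d : F) : ((phi (xr 3 t)).1 : MV) *ᵥ mk5 z a b c d = mk5 z a (b - t * a) (c + t * d) d :=
  (phi_xr t z a b c d).2.2.2.1
theorem f4 (t z a b c d : F) : ((phi (xr 4 t)).1 : MV) *ᵥ mk5 z a b c d = mk5 z (a - t * b) b c (d + t * c) :=
  (phi_xr t z a b c d).2.2.2.2.1
theorem f5 (t z a b c d : F) :
    ((phi (xr 5 t)).1 : MV) *ᵥ mk5 z a b c d = mk5 (z + t * d) a (b - 2 * t * z - t ^ 2 * d) c d := (phi_xr t z a b c d).2.2.2.2.2.1
theorem f6 (t z a b c d : F) :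
    ((phi (xr 6 t)).1 : MV) *ᵥ mk5 z a b c d = mk5 (z - t * c) (a + 2 * t * z - t ^ 2 * c) b c d := (phi_xr t z a b c d).2.2.2.2.2.2.1
theorem f7 (t z a b c d : F) : ((phi (xr 7 t)).1 : MV) *ᵥ mk5 z a b c d = mk5 z (a - t * d) (b + t * c) c d :=
  (phi_xr t z a b c d).2.2.2.2.2.2.2

theorem move_x0 {z a b c d : F} (hq : z ^ 2 + (a * c + b * d) = 0)
    (hne : ¬ (z = 0 ∧ a = 0 ∧ b = 0 ∧ c = 0 ∧ d = 0)) :
    ∃ (A : Sp4) (l : F), l ≠ 0 ∧ ((phi A).1 : MV) *ᵥ mk5 z a b c d = mk5 0 l 0 0 0 := by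
  have main : ∀ z a b c d : F, a ≠ 0 → z ^ 2 + (a * c + b * d) = 0 →
      ∃ (A : Sp4) (l : F), l ≠ 0 ∧ ((phi A).1 : MV) *ᵥ mk5 z a b c d = mk5 0 l 0 0 0 := by
    intro z a b c d ha hq
    refine ⟨xr 1 (-(z / a)) * (xr 0 (d / a) * xr 3 (b / a)), a, ha, ?_⟩
    rw [phi_mul_mulVec, phi_mul_mulVec, f3, f0, f1]
    congr 1 <;> field_simp <;> grind
  by_cases ha : a = 0
  · by_cases hb : b = 0
    · by_cases hd : d = 0
      · have hz : z = 0 := by simpa [ha, hb] using hq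
        have hc : c ≠ 0 := fun hc => hne ⟨hz, ha, hb, hc, hd⟩
        obtain ⟨A, l, hl, h⟩ := main (z - 1 * c) (a + 2 * 1 * z - 1 ^ 2 * c) b c d
          (by simp [ha, hz, hc]) (by linear_combination hq)
        exact ⟨A * xr 6 1, l, hl, by rw [phi_mul_mulVec, f6]; exact h⟩
      · obtain ⟨A, l, hl, h⟩ := main z (a - 1 * d) (b + 1 * c) c d (by simp [ha, hd]) (by linear_combination hq)
        exact ⟨A * xr 7 1, l, hl, by rw [phi_mul_mulVec, f7]; exact h⟩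
    · obtain ⟨A, l, hl, h⟩ := main z (a - 1 * b) b c (d + 1 * c) (by simp [ha, hb]) (by linear_combination hq)
      exact ⟨A * xr 4 1, l, hl, by rw [phi_mul_mulVec, f4]; exact h⟩
  · exact main z a b c d ha hq

theorem move_y0 {z a b c d : F} (hq : z ^ 2 + (a * c + b * d) = 0) (hc : c ≠ 0) :
    ∃ A : Sp4, (∀ a' : F, ((phi A).1 : MV) *ᵥ mk5 0 a' 0 0 0 = mk5 0 a' 0 0 0) ∧
      ((phi A).1 : MV) *ᵥ mk5 z a b c d = mk5 0 0 0 c 0 := by
  refine ⟨xr 4 (-(d / c)) * (xr 7 (-(b / c)) * xr 6 (z / c)), fun a' => ?_, ?_⟩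
  · rw [phi_mul_mulVec, phi_mul_mulVec, f6, f7, f4]
    congr 1 <;> simp
  · rw [phi_mul_mulVec, phi_mul_mulVec, f6, f7, f4]
    congr 1 <;> field_simp <;> grind

theorem move_x1 {z b d : F} (hq : z ^ 2 + b * d = 0) (hne : ¬ (z = 0 ∧ b = 0 ∧ d = 0)) :
    ∃ (A : Sp4) (m : F), m ≠ 0 ∧ (∀ a' c' : F, ((phi A).1 : MV) *ᵥ mk5 0 a' 0 c' 0 = mk5 0 a' 0 c' 0) ∧
      ((phi A).1 : MV) *ᵥ mk5 z 0 b 0 d = mk5 0 0 m 0 0 := by
  by_cases hb : b = 0
  · have hz : z = 0 := by simpa [hb] using hq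
    have hd : d ≠ 0 := fun hd => hne ⟨hz, hb, hd⟩
    refine ⟨xr 2 (-1) * xr 5 1, -d, neg_ne_zero.2 hd, fun a' c' => ?_, ?_⟩
    · rw [phi_mul_mulVec, f5, f2]; congr 1 <;> simp
    · rw [phi_mul_mulVec, f5, f2]; congr 1 <;> simp [hb, hz] <;> ring
  · refine ⟨xr 2 (z / b), b, hb, fun a' c' => ?_, ?_⟩
    · rw [f2]; congr 1 <;> simp
    · rw [f2]; congr 1 <;> field_simp <;> grind

theorem move_y1 {z b d : F} (hq : z ^ 2 + b * d = 0) (hd : d ≠ 0) :
    ∃ A : Sp4, (∀ a' b' c' : F, ((phi A).1 : MV) *ᵥ mk5 0 a' b' c' 0 = mk5 0 a' b' c' 0) ∧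
      ((phi A).1 : MV) *ᵥ mk5 z 0 b 0 d = mk5 0 0 0 0 d := by
  refine ⟨xr 5 (-(z / d)), fun a' b' c' => ?_, ?_⟩
  · rw [f5]; congr 1 <;> simp
  · rw [f5]; congr 1 <;> field_simp <;> grind

theorem B5_mk5 (z a b c d z' a' b' c' d' : F) :
    B5 (mk5 z a b c d) (mk5 z' a' b' c' d') = 2 * z * z' + (a * c' + c * a' + (b * d' + d * b')) := by
  simp [B5, mk5]

theorem mk5_ne_zero (g : O5) {z a b c d z' a' b' c' d' : F}
    (h : (g.1 : MV) *ᵥ mk5 z a b c d = mk5 z' a' b' c' d') (hne : mk5 z a b c d ≠ 0) :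
    ¬ (z' = 0 ∧ a' = 0 ∧ b' = 0 ∧ c' = 0 ∧ d' = 0) := by
  rintro ⟨rfl, rfl, rfl, rfl, rfl⟩
  apply hne
  have h0 : (mk5 0 0 0 0 0 : V5) = 0 := by
    funext k; rcases k with _ | k | k <;> (try fin_cases k) <;> rfl
  have := congrArg (fun w => ((g.1⁻¹ : GL _ F) : MV) *ᵥ w) h
  simpa [h0, Matrix.mulVec_mulVec] using this

theorem coords (g : O5) (v : V5) : ∃ z a b c d : F,
    (g.1 : MV) *ᵥ v = mk5 z a b c d := ⟨_, _, _, _, _, (mk5_eta _).symm⟩

theorem exists_decomp (g : O5) : ∃ A : Sp4, IsDiag5 (phi A * g) := by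
  have hQ : ∀ (h : O5) (v : V5), Cfsg.quadFormOdd 2 F ((h.1 : MV) *ᵥ v) = Cfsg.quadFormOdd 2 F v :=
    fun h v => h.2 v 0
  -- x₀
  obtain ⟨z, a, b, c, d, hv⟩ := coords g (mk5 0 1 0 0 0)
  have hq := hQ g (mk5 0 1 0 0 0)
  rw [hv, quad_mk5, quad_mk5] at hq
  obtain ⟨A1, l, hl, h1⟩ := move_x0 (z := z) (a := a) (b := b) (c := c) (d := d) (by simpa using hq)
    (mk5_ne_zero g hv (fun e => by simpa [mk5] using congrFun e (.inr (.inl 0))))
  have x0 : ((phi A1 * g).1 : MV) *ᵥ mk5 0 1 0 0 0 = mk5 0 l 0 0 0 := by rw [iso_mul_mulVec, hv, h1]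
  clear hv hq h1
  -- y₀
  obtain ⟨z, a, b, c, d, hv⟩ := coords (phi A1 * g) (mk5 0 0 0 1 0)
  have hq := hQ (phi A1 * g) (mk5 0 0 0 1 0)
  rw [hv, quad_mk5, quad_mk5] at hq
  have hb := B5_iso (phi A1 * g) (mk5 0 1 0 0 0) (mk5 0 0 0 1 0)
  rw [x0, hv, B5_mk5, B5_mk5] at hb
  simp at hb
  have hc0 : c ≠ 0 := fun h => by simp [h] at hb
  obtain ⟨A2, k2, h2⟩ := move_y0 (z := z) (a := a) (b := b) (c := c) (d := d) (by simpa using hq) hc0
  have x0 : ((phi (A2 * A1) * g).1 : MV) *ᵥ mk5 0 1 0 0 0 = mk5 0 l 0 0 0 := by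
    rw [map_mul, mul_assoc, iso_mul_mulVec, x0, k2]
  have y0 : ((phi (A2 * A1) * g).1 : MV) *ᵥ mk5 0 0 0 1 0 = mk5 0 0 0 c 0 := by
    rw [map_mul, mul_assoc, iso_mul_mulVec, hv, h2]
  clear hv hq k2 h2 hb
  generalize A2 * A1 = B at x0 y0
  -- x₁
  obtain ⟨z, a, b, c', d, hv⟩ := coords (phi B * g) (mk5 0 0 1 0 0)
  have e1 := B5_iso (phi B * g) (mk5 0 1 0 0 0) (mk5 0 0 1 0 0)
  rw [x0, hv, B5_mk5, B5_mk5] at e1
  have e2 := B5_iso (phi B * g) (mk5 0 0 0 1 0) (mk5 0 0 1 0 0)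
  rw [y0, hv, B5_mk5, B5_mk5] at e2
  simp [hl] at e1
  simp [hc0] at e2
  subst e1 e2
  have hq := hQ (phi B * g) (mk5 0 0 1 0 0)
  rw [hv, quad_mk5, quad_mk5] at hq
  have hne := mk5_ne_zero (phi B * g) hv (fun e => by simpa [mk5] using congrFun e (.inr (.inl 1)))
  obtain ⟨A3, m, hm, k3, h3⟩ := move_x1 (z := z) (b := b) (d := d) (by simpa using hq)
    (fun h => hne ⟨h.1, rfl, h.2.1, rfl, h.2.2⟩)
  have x1 : ((phi (A3 * B) * g).1 : MV) *ᵥ mk5 0 0 1 0 0 = mk5 0 0 m 0 0 := by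
    rw [map_mul, mul_assoc, iso_mul_mulVec, hv, h3]
  have x0 : ((phi (A3 * B) * g).1 : MV) *ᵥ mk5 0 1 0 0 0 = mk5 0 l 0 0 0 := by
    rw [map_mul, mul_assoc, iso_mul_mulVec, x0, k3]
  have y0 : ((phi (A3 * B) * g).1 : MV) *ᵥ mk5 0 0 0 1 0 = mk5 0 0 0 c 0 := by
    rw [map_mul, mul_assoc, iso_mul_mulVec, y0, k3]
  clear hv hq hne k3 h3
  generalize A3 * B = B' at x0 y0 x1
  -- y₁
  obtain ⟨z, a, b, c', d, hv⟩ := coords (phi B' * g) (mk5 0 0 0 0 1)
  have e1 := B5_iso (phi B' * g) (mk5 0 1 0 0 0) (mk5 0 0 0 0 1)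
  rw [x0, hv, B5_mk5, B5_mk5] at e1
  have e2 := B5_iso (phi B' * g) (mk5 0 0 0 1 0) (mk5 0 0 0 0 1)
  rw [y0, hv, B5_mk5, B5_mk5] at e2
  have e3 := B5_iso (phi B' * g) (mk5 0 0 1 0 0) (mk5 0 0 0 0 1)
  rw [x1, hv, B5_mk5, B5_mk5] at e3
  simp [hl] at e1
  simp [hc0] at e2
  simp at e3
  subst e1 e2
  have hd0 : d ≠ 0 := fun h => by simp [h] at e3
  have hq := hQ (phi B' * g) (mk5 0 0 0 0 1)
  rw [hv, quad_mk5, quad_mk5] at hq
  obtain ⟨A4, k4, h4⟩ := move_y1 (z := z) (b := b) (d := d) (by simpa using hq) hd0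
  have y1 : ((phi (A4 * B') * g).1 : MV) *ᵥ mk5 0 0 0 0 1 = mk5 0 0 0 0 d := by
    rw [map_mul, mul_assoc, iso_mul_mulVec, hv, h4]
  have x0 : ((phi (A4 * B') * g).1 : MV) *ᵥ mk5 0 1 0 0 0 = mk5 0 l 0 0 0 := by
    rw [map_mul, mul_assoc, iso_mul_mulVec, x0, k4]
  have y0 : ((phi (A4 * B') * g).1 : MV) *ᵥ mk5 0 0 0 1 0 = mk5 0 0 0 c 0 := by
    rw [map_mul, mul_assoc, iso_mul_mulVec, y0, k4]
  have x1 : ((phi (A4 * B') * g).1 : MV) *ᵥ mk5 0 0 1 0 0 = mk5 0 0 m 0 0 := by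
    rw [map_mul, mul_assoc, iso_mul_mulVec, x1, k4]
  clear hv hq k4 h4 e3
  generalize A4 * B' = C at x0 y0 x1 y1
  -- z
  obtain ⟨e, a, b, c', d', hv⟩ := coords (phi C * g) (mk5 1 0 0 0 0)
  have e1 := B5_iso (phi C * g) (mk5 0 1 0 0 0) (mk5 1 0 0 0 0)
  rw [x0, hv, B5_mk5, B5_mk5] at e1
  have e2 := B5_iso (phi C * g) (mk5 0 0 0 1 0) (mk5 1 0 0 0 0)
  rw [y0, hv, B5_mk5, B5_mk5] at e2
  have e3 := B5_iso (phi C * g) (mk5 0 0 1 0 0) (mk5 1 0 0 0 0)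
  rw [x1, hv, B5_mk5, B5_mk5] at e3
  have e4 := B5_iso (phi C * g) (mk5 0 0 0 0 1) (mk5 1 0 0 0 0)
  rw [y1, hv, B5_mk5, B5_mk5] at e4
  simp [hl] at e1
  simp [hc0] at e2
  simp [hm] at e3
  simp [hd0] at e4
  subst e1 e2 e3 e4
  refine ⟨C, e, l, c, m, d, fun u p r s w => ?_⟩
  rw [show mk5 u p r s w = u • mk5 1 0 0 0 0 + p • mk5 0 1 0 0 0 + r • mk5 0 0 1 0 0 + s • mk5 0 0 0 1 0
      + w • mk5 0 0 0 0 1 from by
    funext k; rcases k with _ | k | k <;> (try fin_cases k) <;> simp [mk5]]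
  simp only [Matrix.mulVec_add, Matrix.mulVec_smul, hv, x0, x1, y0, y1]
  funext k; rcases k with _ | k | k <;> (try fin_cases k) <;> simp [mk5, mul_comm]

open Cfsg.Agent.Symplectic in
/-- `PSp₄(F)` is simple over any field for which `Sp₄(F)` is perfect. -/
theorem simple_psp (hperf : commutator Sp4 = ⊤) : IsSimpleGroup (Cfsg.PSp 2 F) := by
  have hne : Subgroup.center Sp4 ≠ ⊤ := by
    intro htop
    obtain ⟨c, hc⟩ := (mem_center_iff (T (ev 0 : Fin 2 ⊕ Fin 2 → F) 1)).mp (htop ▸ Subgroup.mem_top _)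
    obtain ⟨x, hx⟩ := sf_exists_one (ev_ne_zero (F := F) (0 : Fin 2))
    have h1 := hc (ev 0)
    have h2 := hc x
    rw [T_mulVec, sf_self, mul_zero, zero_smul, add_zero] at h1
    have hc1 : c = 1 := by
      by_contra hc1
      exact ev_ne_zero (F := F) (0 : Fin 2)
        (smul_eq_zero.mp (show (c - 1) • (ev 0 : Fin 2 ⊕ Fin 2 → F) = 0 by
          rw [sub_smul, one_smul, ← h1, sub_self]) |>.resolve_left (sub_ne_zero.mpr hc1))
    rw [T_mulVec, hc1, one_smul, add_eq_left, sf_swap, hx, one_mul, neg_smul, one_smul, neg_eq_zero] at h2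
    exact ev_ne_zero _ h2
  haveI : Nontrivial (Cfsg.PSp 2 F) := QuotientGroup.nontrivial_iff.mpr hne
  refine ⟨fun N hN => ?_⟩
  have hN' := Subgroup.map_comap_eq_self_of_surjective (QuotientGroup.mk'_surjective _) N
  rcases normal_subgroup_cases hperf (N.comap (QuotientGroup.mk' _)) with h' | h'
  · left
    rw [← hN', Subgroup.map_eq_bot_iff, QuotientGroup.ker_mk']
    exact h'
  · right
    rw [← hN', h']
    exact Subgroup.map_top_of_surjective _ (QuotientGroup.mk'_surjective _)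

theorem center_psp (hperf : commutator Sp4 = ⊤) : Subgroup.center (Cfsg.PSp 2 F) = ⊥ :=
  have := simple_psp hperf
  center_eq_bot (commutator_quotient hperf _)

set_option maxHeartbeats 2000000 in
theorem phi_ker : (phi (F := F)).ker = Subgroup.center Sp4 := by
  ext A
  rw [MonoidHom.mem_ker, Cfsg.Agent.Symplectic.mem_center_iff]
  constructor
  · intro h
    have h5 : ∀ v : V5, klein (toMat4 A) (emb v) = emb v := fun v => by
      rw [← emb_proj A v, ← phi_mulVec, h, Subgroup.coe_one, Units.val_one, Matrix.one_mulVec]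
    have hi : (toMat4 A) * (toMat4 A⁻¹) = 1 := by rw [← map_mul, mul_inv_cancel, map_one]
    have hi' : toMat4 A⁻¹ * toMat4 A = 1 := by rw [← map_mul, inv_mul_cancel, map_one]
    have hit : (toMat4 A)ᵀ * (toMat4 A⁻¹)ᵀ = 1 := by rw [← Matrix.transpose_mul, hi', Matrix.transpose_one]
    generalize toMat4 A⁻¹ = Ai at hi hit
    generalize hB : Aiᵀ = B at hit
    have key : ∀ v : V5, toMat4 A * alt (emb v) = alt (emb v) * B := by
      intro v
      have hv := congrArg alt (h5 v)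
      rw [klein_apply, alt_co] at hv
      calc toMat4 A * alt (emb v) = toMat4 A * alt (emb v) * ((toMat4 A)ᵀ * B) := by rw [hit, Matrix.mul_one]
        _ = toMat4 A * alt (emb v) * (toMat4 A)ᵀ * B := by simp only [Matrix.mul_assoc]
        _ = alt (emb v) * B := by rw [hv]
    have e := fun v i j => congrFun (congrFun (key v) i) j
    have p1 := e (mk5 1 0 0 0 0)
    have p2 := e (mk5 0 1 0 0 0)
    have p3 := e (mk5 0 0 1 0 0)
    have p4 := e (mk5 0 0 0 1 0)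
    have p5 := e (mk5 0 0 0 0 1)
    simp [alt, emb, mk5, Matrix.mul_apply, Fin.sum_univ_four, Fin.forall_fin_succ] at p1 p2 p3 p4 p5
    refine ⟨toMat4 A 0 0, (scalar_iff A _).1 ?_⟩
    ext i j
    fin_cases i <;> fin_cases j <;> simp <;> grind
  · rintro ⟨c, hc⟩
    have hA := (scalar_iff A c).2 hc
    have hc2 := sp_scalar_sq hA
    refine iso_ext fun v => ?_
    rw [phi_mulVec, Subgroup.coe_one, Units.val_one, Matrix.one_mulVec, hA, klein_apply]
    simp [smul_smul, hc2, co_alt, proj_emb]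

/-- `PSp₄(F) ≅ PΩ₅(F)`. -/
theorem pomega_five_equiv (hF : ∃ a : F, a ≠ 0 ∧ a ≠ 1) :
    Nonempty (Cfsg.POmega F (Cfsg.quadFormOdd 2 F) ≃* Cfsg.PSp 2 F) := by
  have hperf : commutator Sp4 = ⊤ := by
    obtain ⟨a, ha0, ha1⟩ := hF
    exact Cfsg.Agent.Symplectic.perfect_of (Or.inr (Or.inl ⟨le_rfl, -a, neg_ne_zero.2 ha0, fun h =>
      ha1 (by linear_combination -h)⟩))
  have hnorm : (phi (F := F)).range.Normal := by
    refine ⟨fun x hx g => ?_⟩
    obtain ⟨A, hA⟩ := exists_decomp g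
    have h := diag_normalises hA hx
    have h' := mul_mem (mul_mem (inv_mem (MonoidHom.mem_range.2 ⟨A, rfl⟩)) h) (MonoidHom.mem_range.2 ⟨A, rfl⟩)
    convert h' using 1
    group
  have hle : Cfsg.Omega F (Cfsg.quadFormOdd 2 F) ≤ (phi (F := F)).range := by
    rw [← QuotientGroup.ker_mk' (phi (F := F)).range]
    have hc : ∀ x y : O5, QuotientGroup.mk' (phi (F := F)).range x * QuotientGroup.mk' _ y =
        QuotientGroup.mk' _ y * QuotientGroup.mk' _ x := by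
      intro x y
      obtain ⟨A, hA⟩ := exists_decomp x
      obtain ⟨B, hB⟩ := exists_decomp y
      have ha : ∀ C : Sp4, QuotientGroup.mk' (phi (F := F)).range (phi C) = 1 := fun C =>
        (QuotientGroup.eq_one_iff _).2 ⟨C, rfl⟩
      have h := congrArg (QuotientGroup.mk' (phi (F := F)).range) (diag_comm hA hB)
      simpa only [map_mul, ha, one_mul] using h
    change commutator O5 ≤ _
    rw [commutator_def, Subgroup.commutator_le]
    intro x _ y _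
    rw [MonoidHom.mem_ker, map_commutatorElement, commutatorElement_def, hc]
    group
  have hge : (phi (F := F)).range ≤ Cfsg.Omega F (Cfsg.quadFormOdd 2 F) := by
    rw [MonoidHom.range_eq_map, ← hperf, commutator_def, Subgroup.map_commutator]
    exact Subgroup.commutator_mono le_top le_top
  let e : (Sp4 ⧸ Subgroup.center Sp4) ≃* Cfsg.Omega F (Cfsg.quadFormOdd 2 F) :=
    ((QuotientGroup.quotientMulEquivOfEq (phi_ker (F := F)).symm).trans
      (QuotientGroup.quotientKerEquivRange phi)).trans (MulEquiv.subgroupCongr (le_antisymm hge hle))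
  have hcen : Subgroup.center (Cfsg.Omega F (Cfsg.quadFormOdd 2 F)) = ⊥ := by
    have hs : Subgroup.center (Cfsg.PSp 2 F) = ⊥ := center_psp hperf
    rw [eq_bot_iff]
    intro x hx
    obtain ⟨y, rfl⟩ := e.surjective x
    have : y ∈ Subgroup.center (Cfsg.PSp 2 F) := Subgroup.mem_center_iff.2 fun z =>
      e.injective (by rw [map_mul, map_mul]; exact Subgroup.mem_center_iff.1 hx (e z))
    rw [hs, Subgroup.mem_bot] at this
    rw [Subgroup.mem_bot, this, map_one]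
  exact ⟨((QuotientGroup.quotientMulEquivOfEq hcen).trans QuotientGroup.quotientBot).trans e.symm⟩

end Cfsg.Agent.H27.B2Omega
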