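import Cfsg.Agent.H27.SplitOrtho
import Cfsg.Agent.H27.B2
import Cfsg.Prelude.Def_ChevD4

/-! The Chevalley group of type `D₄` is `PΩ⁺₈(F)`, by the action on the degree two part of the Clifford
algebra. -/

set_option autoImplicit false
set_option Elab.async false

namespace Cfsg.Agent.H27.D4

open Matrix Cfsg.Agent.H27.LowRank Cfsg.Agent.H27.SplitOrtho

/-- indices of the natural module -/
abbrev I8 := Fin 4 ⊕ Fin 4

/-- indices of the Chevalley basis -/
abbrev I28 := Fin 4 ⊕ Fin 24

/-- first end of a root -/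
def ra : Fin 24 → I8 :=
  ![.inr 0, .inr 0, .inl 3, .inr 0, .inl 2, .inl 1, .inr 1, .inl 3, .inr 1, .inl 2, .inl 3, .inr 2, .inl 2, .inl 2, .inl 1, .inl 1, .inl 1, .inl 1, .inl 0, .inl 0, .inl 0, .inl 0, .inl 0, .inl 0]

/-- second end of a root -/
def rb : Fin 24 → I8 :=
  ![.inr 1, .inr 2, .inr 0, .inr 3, .inr 0, .inr 0, .inr 2, .inr 1, .inr 3, .inr 1, .inr 2, .inr 3, .inl 3, .inr 3, .inr 2, .inl 3, .inr 3, .inl 2, .inr 1, .inr 2, .inl 3, .inr 3, .inl 2, .inl 1]

/-- sign of a root vector -/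
def rs : Fin 24 → ℤ :=
  ![-1, -1, 1, -1, -1, 1, 1, -1, 1, 1, 1, -1, 1, 1, 1, -1, -1, -1, 1, -1, 1, 1, 1, 1]

theorem root_ne : ∀ r : Fin 24, pr (ra r) ≠ pr (rb r) := by decide +kernel

theorem root_cover : ∀ a b : I8, pr a ≠ pr b →
    ∃ r : Fin 24, (ra r = a ∧ rb r = b) ∨ (ra r = b ∧ rb r = a) := by decide +kernel

theorem rs_pm : ∀ r : Fin 24, rs r = 1 ∨ rs r = -1 := by decide +kernel

/-- a sparse integer matrix -/
abbrev Sp := List (I8 × I8 × ℤ)

/-- an entry of a sparse matrix -/
def entry (L : Sp) (a b : I8) : ℤ := (L.map fun e => if e.1 = a ∧ e.2.1 = b then e.2.2 else 0).sum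

/-- product of sparse matrices -/
def mulS (L M : Sp) : Sp :=
  L.flatMap fun e => (M.filter fun f => f.1 = e.2.1).map fun f => (e.1, f.2.1, e.2.2 * f.2.2)

/-- transpose of a sparse matrix -/
def trS (L : Sp) : Sp := L.map fun e => (e.2.1, e.1, e.2.2)

theorem entry_cons (e : I8 × I8 × ℤ) (L : Sp) (a b : I8) :
    entry (e :: L) a b = (if e.1 = a ∧ e.2.1 = b then e.2.2 else 0) + entry L a b := rfl

theorem entry_append (L M : Sp) (a b : I8) : entry (L ++ M) a b = entry L a b + entry M a b := by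
  simp [entry]

theorem entry_trS : ∀ (L : Sp) (a b : I8), entry (trS L) a b = entry L b a
  | [], a, b => rfl
  | e :: L, a, b => by
    rw [show trS (e :: L) = (e.2.1, e.1, e.2.2) :: trS L from rfl, entry_cons, entry_cons, entry_trS L a b]
    simp only [and_comm]

theorem entry_row : ∀ (M : Sp) (x : I8) (c : ℤ) (k a b : I8),
    entry ((M.filter fun f => f.1 = k).map fun f => (x, f.2.1, c * f.2.2)) a b =
      if x = a then c * entry M k b else 0
  | [], x, c, k, a, b => by simp [entry]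
  | f :: M, x, c, k, a, b => by
    have ih := entry_row M x c k a b
    by_cases hf : f.1 = k
    · rw [List.filter_cons_of_pos (by simpa using hf), List.map_cons, entry_cons, ih, entry_cons]
      by_cases hx : x = a <;> simp [hx, hf, mul_add]
    · rw [List.filter_cons_of_neg (by simpa using hf), ih, entry_cons]
      simp [hf]

theorem entry_mulS : ∀ (L M : Sp) (a b : I8),
    entry (mulS L M) a b = ∑ k, entry L a k * entry M k b
  | [], M, a, b => by simp [mulS, entry]
  | e :: L, M, a, b => by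
    rw [show mulS (e :: L) M = ((M.filter fun f => f.1 = e.2.1).map fun f => (e.1, f.2.1, e.2.2 * f.2.2)) ++
      mulS L M from rfl, entry_append, entry_row, entry_mulS L M a b]
    simp only [entry_cons, add_mul, Finset.sum_add_distrib]
    congr 1
    by_cases he : e.1 = a <;> simp [he, ite_mul]

/-- the root vector in the natural module -/
def rootL (r : Fin 24) : Sp := [(ra r, op (rb r), rs r), (rb r, op (ra r), -rs r)]

/-- lifts of the basis to tensors -/
def liftL : I28 → Sp
  | .inl i => ![[((.inl 0 : I8), (.inr 0 : I8), (1 : ℤ)), (.inl 1, .inr 1, -1)],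
      [(.inl 1, .inr 1, 1), (.inl 2, .inr 2, -1)], [(.inl 2, .inr 2, 1), (.inl 3, .inr 3, -1)],
      [(.inl 2, .inr 2, 1), (.inr 3, .inl 3, -1)]] i
  | .inr r => [(ra r, rb r, rs r)]

/-- coordinates of a tensor -/
def sc {R : Type*} [CommRing R] (M : I8 → I8 → R) : I28 → R
  | .inl i => ![M (.inl 0) (.inr 0) - M (.inr 0) (.inl 0),
      M (.inl 1) (.inr 1) - M (.inr 1) (.inl 1) + (M (.inl 0) (.inr 0) - M (.inr 0) (.inl 0)),
      M (.inl 2) (.inr 2) - M (.inr 2) (.inl 2) + (M (.inl 1) (.inr 1) - M (.inr 1) (.inl 1) +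
        (M (.inl 0) (.inr 0) - M (.inr 0) (.inl 0))) +
        (M (.inr 0) (.inl 0) + M (.inr 1) (.inl 1) + M (.inr 2) (.inl 2) + M (.inr 3) (.inl 3)),
      -(M (.inr 0) (.inl 0) + M (.inr 1) (.inl 1) + M (.inr 2) (.inl 2) + M (.inr 3) (.inl 3))] i
  | .inr r => (rs r : R) * (M (ra r) (rb r) - M (rb r) (ra r))

/-- coefficient of `t ^ k` in the adjoint action of a root element -/
def adjC (r : Fin 24) (k : Fin 3) (j : I28) : I28 → ℤ :=
  sc (entry (![liftL j, mulS (rootL r) (liftL j) ++ mulS (liftL j) (trS (rootL r)),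
    mulS (mulS (rootL r) (liftL j)) (trS (rootL r))] k))

/-- the `D₄` table -/
def tabD4 (r : Fin 24) (k : Fin 3) (i j : I28) : ℤ := B2.tabC Cfsg.Lie.chevD4 r k.val i j

theorem chain_deg : ∀ r s u : Fin Cfsg.Lie.chevD4.nroots,
    ∀ km ∈ Cfsg.Lie.chevD4.chainCoeff r.val s.val u.val, km.1 < 3 := by decide +kernel

theorem table_check0 : ∀ (r : Fin 4) (k : Fin 3) (j i : I28),
    adjC ⟨0 + r.val, by omega⟩ k j i = tabD4 ⟨0 + r.val, by omega⟩ k i j := by
  decide +kernel

theorem table_check1 : ∀ (r : Fin 4) (k : Fin 3) (j i : I28),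
    adjC ⟨4 + r.val, by omega⟩ k j i = tabD4 ⟨4 + r.val, by omega⟩ k i j := by
  decide +kernel

theorem table_check2 : ∀ (r : Fin 4) (k : Fin 3) (j i : I28),
    adjC ⟨8 + r.val, by omega⟩ k j i = tabD4 ⟨8 + r.val, by omega⟩ k i j := by
  decide +kernel

theorem table_check3 : ∀ (r : Fin 4) (k : Fin 3) (j i : I28),
    adjC ⟨12 + r.val, by omega⟩ k j i = tabD4 ⟨12 + r.val, by omega⟩ k i j := by
  decide +kernel

theorem table_check4 : ∀ (r : Fin 4) (k : Fin 3) (j i : I28),
    adjC ⟨16 + r.val, by omega⟩ k j i = tabD4 ⟨16 + r.val, by omega⟩ k i j := by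
  decide +kernel

theorem table_check5 : ∀ (r : Fin 4) (k : Fin 3) (j i : I28),
    adjC ⟨20 + r.val, by omega⟩ k j i = tabD4 ⟨20 + r.val, by omega⟩ k i j := by
  decide +kernel

theorem table_check (r : Fin 24) (k : Fin 3) (j i : I28) : adjC r k j i = tabD4 r k i j := by
  obtain ⟨q, s, rfl⟩ : ∃ (q : Fin 6) (s : Fin 4), r = ⟨4 * q.val + s.val, by omega⟩ :=
    ⟨⟨r.val / 4, by omega⟩, ⟨r.val % 4, by omega⟩, Fin.ext (Nat.div_add_mod r.val 4).symm⟩
  fin_cases q
  · exact table_check0 s k j i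
  · exact table_check1 s k j i
  · exact table_check2 s k j i
  · exact table_check3 s k j i
  · exact table_check4 s k j i
  · exact table_check5 s k j i

theorem sc_liftL : ∀ j i : I28, sc (entry (liftL j)) i = if i = j then 1 else 0 := by decide +kernel

section

variable {F : Type*} [Field F]

local notation "M8" => Matrix I8 I8 F
local notation "O8" => Cfsg.isometryGroup F (Cfsg.quadFormPlus 4 F)

/-- the sum of the entries `(fᵢ, eᵢ)` -/
def sF (M : M8) : F := ∑ i : Fin 4, M (.inr i) (.inl i)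

/-- the trace functional cutting out the Lie algebra -/
def tF (M : M8) : F := sF M + sF Mᵀ

/-- a sparse matrix over `F` -/
def toM (L : Sp) : M8 := Matrix.of fun a b => ((entry L a b : ℤ) : F)

theorem toM_append (L M : Sp) : (toM (L ++ M) : M8) = toM L + toM M := by
  ext a b; simp [toM, entry_append]

theorem toM_mulS (L M : Sp) : (toM (mulS L M) : M8) = toM L * toM M := by
  ext a b; simp [toM, Matrix.mul_apply, entry_mulS]

theorem toM_trS (L : Sp) : (toM (trS L) : M8) = (toM L)ᵀ := by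
  ext a b; simp [toM, entry_trS]

/-- `sc` as a linear map on matrices -/
def scM : M8 →ₗ[F] (I28 → F) where
  toFun M := sc M
  map_add' u v := by
    funext k; rcases k with k | k
    · fin_cases k <;> simp [sc] <;> ring
    · simp [sc]; ring
  map_smul' c v := by
    funext k; rcases k with k | k
    · fin_cases k <;> simp [sc] <;> ring
    · simp [sc]; ring

theorem scM_toM (L : Sp) (i : I28) : scM (toM L : M8) i = ((sc (entry L) i : ℤ) : F) := by
  rcases i with i | i
  · fin_cases i <;> simp [scM, sc, toM]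
  · simp [scM, sc, toM]

/-- lifting coordinates to tensors -/
def lift : (I28 → F) →ₗ[F] M8 := ∑ j, (LinearMap.proj j).smulRight (toM (liftL j))

theorem lift_apply (v : I28 → F) : lift v = ∑ j, v j • (toM (liftL j) : M8) := by
  simp [lift]

theorem scM_lift (v : I28 → F) : scM (lift v) = v := by
  funext i
  rw [lift_apply, map_sum, Finset.sum_apply]
  simp [map_smul, scM_toM, sc_liftL]

theorem tF_add (M N : M8) : tF (M + N) = tF M + tF N := by
  simp [tF, sF, Finset.sum_add_distrib]; ring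

theorem tF_smul (c : F) (M : M8) : tF (c • M) = c * tF M := by
  simp [tF, sF, Finset.mul_sum, mul_add]

theorem liftL_t : ∀ j : I28, ((∑ i : Fin 4, entry (liftL j) (.inr i) (.inl i)) +
    ∑ i : Fin 4, entry (liftL j) (.inl i) (.inr i)) = 0 := by decide +kernel

theorem tF_toM_liftL (j : I28) : tF (toM (liftL j) : M8) = 0 := by
  have h := congrArg (fun z : ℤ => (z : F)) (liftL_t j)
  simpa [tF, sF, toM] using h

theorem tF_lift (v : I28 → F) : tF (lift v) = 0 := by
  rw [lift_apply]
  have : ∀ s : Finset I28, tF (∑ j ∈ s, v j • (toM (liftL j) : M8)) = 0 := fun s => by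
    induction s using Finset.induction_on with
    | empty => simp [tF, sF]
    | @insert a s ha ih => rw [Finset.sum_insert ha, tF_add, ih, tF_smul, tF_toM_liftL, mul_zero, add_zero]
  exact this _

theorem sym_of_zero {M : M8} (h1 : scM M = 0) (h2 : tF M = 0) : Mᵀ = M ∧ sF M = 0 := by
  have e0 : scM M (.inl 0) = 0 := by rw [h1]; rfl
  have e1 : scM M (.inl 1) = 0 := by rw [h1]; rfl
  have e2 : scM M (.inl 2) = 0 := by rw [h1]; rfl
  have e3 : scM M (.inl 3) = 0 := by rw [h1]; rfl
  simp [scM, sc] at e0 e1 e2 e3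
  simp [tF, sF, Fin.sum_univ_four] at h2
  have hs : sF M = 0 := by simp [sF, Fin.sum_univ_four]; linear_combination -e3
  refine ⟨?_, hs⟩
  have hpair : ∀ a b : I8, pr a ≠ pr b → M b a = M a b := by
    intro a b hab
    obtain ⟨r, hr⟩ := root_cover a b hab
    have hr' : scM M (.inr r) = 0 := by rw [h1]; rfl
    simp [scM, sc] at hr'
    have hne : (rs r : F) ≠ 0 := by rcases rs_pm r with e | e <;> simp [e]
    have := hr'.resolve_left hne
    rcases hr with ⟨ea, eb⟩ | ⟨ea, eb⟩ <;> rw [ea, eb, sub_eq_zero] at this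
    · exact this.symm
    · exact this
  ext a b
  rw [Matrix.transpose_apply]
  by_cases hab : pr a = pr b
  · rcases a with i | i <;> rcases b with j | j <;> simp only [pr, Sum.elim_inl, Sum.elim_inr, id_eq] at hab <;>
      subst hab <;> first
      | rfl
      | (fin_cases i <;> simp <;> grind)
  · exact hpair a b hab

theorem scM_of_sym {M : M8} (h1 : Mᵀ = M) (h2 : sF M = 0) : scM M = 0 := by
  have e : ∀ a b, M b a = M a b := fun a b => congrFun (congrFun h1 a) b
  simp [sF, Fin.sum_univ_four] at h2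
  funext k
  rcases k with k | k
  · fin_cases k <;> simp [scM, sc, e (.inl 0) (.inr 0), e (.inl 1) (.inr 1), e (.inl 2) (.inr 2),
      e (.inl 3) (.inr 3)] <;> grind
  · simp [scM, sc, e (ra k) (rb k)]

theorem sum_alternating {ι : Type*} [Fintype ι] [DecidableEq ι] (f : ι → ι → F) (h0 : ∀ a, f a a = 0)
    (h1 : ∀ a b, f a b + f b a = 0) : ∑ a, ∑ b, f a b = 0 := by
  rw [← Finset.sum_product']
  refine Finset.sum_involution (fun p _ => (p.2, p.1)) (fun p _ => h1 p.1 p.2) (fun p _ hp e => hp ?_)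
    (fun p _ => Finset.mem_univ _) (fun p _ => rfl)
  rcases p with ⟨a, b⟩
  simp only [Prod.mk.injEq] at e
  rw [e.1]; exact h0 a

theorem sF_conj_sym (g : O8) {M : M8} (hM : Mᵀ = M) :
    sF ((g.1 : M8) * M * (g.1 : M8)ᵀ) = sF M := by
  classical
  have hsym : ∀ a b, M b a = M a b := fun a b => congrFun (congrFun hM a) b
  let C : I8 → I8 → F := fun a b =>
    (∑ i : Fin 4, (g.1 : M8) (.inr i) a * (g.1 : M8) (.inl i) b) -
      ∑ i : Fin 4, (1 : M8) (.inr i) a * (1 : M8) (.inl i) b
  have hexp : ∀ h : M8, sF (h * M * hᵀ) = ∑ a, ∑ b, (∑ i : Fin 4, h (.inr i) a * h (.inl i) b) * M a b := by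
    intro h
    simp only [sF, Matrix.mul_apply, Matrix.transpose_apply, Finset.sum_mul]
    rw [Finset.sum_congr rfl fun i _ => Finset.sum_comm, Finset.sum_comm]
    refine Finset.sum_congr rfl fun a _ => ?_
    rw [Finset.sum_comm]
    refine Finset.sum_congr rfl fun b _ => Finset.sum_congr rfl fun i _ => ?_
    ring
  have hdiff : sF ((g.1 : M8) * M * (g.1 : M8)ᵀ) - sF M = ∑ a, ∑ b, C a b * M a b := by
    have h1 := hexp (1 : M8)
    rw [Matrix.one_mul, Matrix.transpose_one, Matrix.mul_one] at h1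
    rw [hexp, h1]
    simp only [C, sub_mul, Finset.sum_sub_distrib]
  rw [← sub_eq_zero, hdiff]
  have hq : ∀ v : I8 → F, (∑ i : Fin 4, ((g.1 : M8) *ᵥ v) (.inr i) * ((g.1 : M8) *ᵥ v) (.inl i)) =
      ∑ i : Fin 4, v (.inr i) * v (.inl i) := by
    intro v
    have := iso_quad g v
    simp only [Cfsg.quadFormPlus] at this
    simpa only [mul_comm] using this
  have hC0 : ∀ a, C a a = 0 := by
    intro a
    have := hq (Pi.single a 1)
    simp only [Matrix.mulVec_single_one, Matrix.col_apply] at this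
    simp only [C, this, Matrix.one_apply, Pi.single_apply, sub_self]
  refine sum_alternating _ (fun a => by rw [hC0, zero_mul]) fun a b => ?_
  have h2 := hq (Pi.single a 1 + Pi.single b 1)
  simp only [Matrix.mulVec_add, Matrix.mulVec_single_one, Pi.add_apply, Matrix.col_apply, add_mul, mul_add,
    Finset.sum_add_distrib] at h2
  have ha := hC0 a
  have hb := hC0 b
  simp only [C, Matrix.one_apply, Pi.single_apply] at ha hb h2 ⊢
  rw [hsym a b]
  linear_combination M a b * (h2 - ha - hb)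

theorem tF_conj (g : O8) (N : M8) : tF ((g.1 : M8) * N * (g.1 : M8)ᵀ) = tF N := by
  have h : ∀ M : M8, tF M = sF (M + Mᵀ) := fun M => by simp [tF, sF, Finset.sum_add_distrib]
  rw [h, h, ← sF_conj_sym g (M := N + Nᵀ) (by rw [Matrix.transpose_add, Matrix.transpose_transpose, add_comm])]
  congr 1
  simp only [Matrix.transpose_mul, Matrix.transpose_transpose, Matrix.mul_add, Matrix.add_mul, Matrix.mul_assoc]

theorem scM_conj (g : O8) {N : M8} (hN : tF N = 0) :
    scM ((g.1 : M8) * lift (scM N) * (g.1 : M8)ᵀ) = scM ((g.1 : M8) * N * (g.1 : M8)ᵀ) := by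
  obtain ⟨h1, h2⟩ := sym_of_zero (M := lift (scM N) - N) (by rw [map_sub, scM_lift, sub_self]) (by
    rw [sub_eq_add_neg, tF_add, tF_lift, ← neg_one_smul F N, tF_smul, hN, mul_zero, add_zero])
  rw [← sub_eq_zero, ← map_sub, ← Matrix.sub_mul, ← Matrix.mul_sub]
  exact scM_of_sym (by rw [Matrix.transpose_mul, Matrix.transpose_mul, Matrix.transpose_transpose, h1,
    Matrix.mul_assoc]) (by rw [sF_conj_sym g h1, h2])

/-- the action on the Chevalley basis -/
def adj : O8 →* Module.End F (I28 → F) where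
  toFun g :=
    { toFun := fun v => scM ((g.1 : M8) * lift v * (g.1 : M8)ᵀ)
      map_add' := fun u v => by rw [map_add, Matrix.mul_add, Matrix.add_mul, map_add]
      map_smul' := fun c v => by
        rw [map_smul, Matrix.mul_smul, Matrix.smul_mul, map_smul, RingHom.id_apply] }
  map_one' := LinearMap.ext fun v => by simp [scM_lift]
  map_mul' g h := LinearMap.ext fun v => by
    change scM (((g * h : O8).1 : M8) * lift v * ((g * h : O8).1 : M8)ᵀ) =
      scM ((g.1 : M8) * lift (scM ((h.1 : M8) * lift v * (h.1 : M8)ᵀ)) * (g.1 : M8)ᵀ)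
    rw [scM_conj g (by rw [tF_conj, tF_lift]), Subgroup.coe_mul, Units.val_mul, Matrix.transpose_mul]
    simp only [Matrix.mul_assoc]

theorem adj_apply (g : O8) (v : I28 → F) : adj g v = scM ((g.1 : M8) * lift v * (g.1 : M8)ᵀ) := rfl

/-- the root elements -/
noncomputable def xr (r : Fin 24) (t : F) : O8 := el (ra r) (rb r) (root_ne r) ((rs r : F) * t)

theorem xr_val (r : Fin 24) (t : F) : ((xr r t).1 : M8) = 1 + t • toM (rootL r) := by
  rw [xr, el_val]
  ext a b
  simp [elMat, toM, rootL, entry, Matrix.single_apply]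
  split_ifs <;> simp_all <;> ring

theorem lift_single (j : I28) : lift (Pi.single j (1 : F)) = toM (liftL j) := by
  rw [lift_apply, Finset.sum_eq_single j (fun k _ hk => by simp [Pi.single_eq_of_ne hk]) (by simp)]
  simp

/-- the adjoint representation -/
noncomputable def adHom : elGroup 4 F →* GL I28 F :=
  MonoidHom.toHomUnits
    { toFun := fun A => LinearMap.toMatrix' (adj A.1)
      map_one' := by rw [Subgroup.coe_one, map_one, Module.End.one_eq_id, LinearMap.toMatrix'_id]
      map_mul' := fun A B => by rw [Subgroup.coe_mul, map_mul, Module.End.mul_eq_comp, LinearMap.toMatrix'_comp] }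

/-- root elements in the elementary subgroup -/
noncomputable def xe (r : Fin 24) (t : F) : elGroup 4 F := ⟨xr r t, el_mem _ _⟩

theorem adHom_xe (r : Fin 24) (t : F) :
    (adHom (xe r t) : Matrix I28 I28 F) = Cfsg.Lie.chevD4.xMat F r t := by
  refine Matrix.ext fun i j => ?_
  rw [B2.xMat_eq_tabC Cfsg.Lie.chevD4 r t (chain_deg r) i j]
  have h0 : adjC r 0 j i = B2.tabC Cfsg.Lie.chevD4 r 0 i j := table_check r 0 j i
  have h1 : adjC r 1 j i = B2.tabC Cfsg.Lie.chevD4 r 1 i j := table_check r 1 j i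
  have h2 : adjC r 2 j i = B2.tabC Cfsg.Lie.chevD4 r 2 i j := table_check r 2 j i
  rw [← h0, ← h1, ← h2]
  change LinearMap.toMatrix' (adj (xr r t)) i j = _
  rw [LinearMap.toMatrix'_apply, adj_apply, xr_val, lift_single]
  simp only [adjC, Matrix.cons_val_zero, Matrix.cons_val_one, Matrix.cons_val, ← scM_toM, toM_append,
    toM_mulS, toM_trS]
  simp only [Matrix.transpose_add, Matrix.transpose_one, Matrix.transpose_smul, Matrix.add_mul,
    Matrix.mul_add, Matrix.one_mul, Matrix.mul_one, Matrix.smul_mul, Matrix.mul_smul, smul_add, smul_smul,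
    map_add, map_smul, Pi.add_apply, Pi.smul_apply, smul_eq_mul]
  ring

theorem el_eq_xr {a b : I8} (h : pr a ≠ pr b) (t : F) : ∃ (r : Fin 24) (s : F), el a b h t = xr r s := by
  obtain ⟨r, hr⟩ := root_cover a b h
  have hs : ((rs r : ℤ) : F) * ((rs r : ℤ) : F) = 1 := by rcases rs_pm r with e | e <;> simp [e]
  rcases hr with ⟨ea, eb⟩ | ⟨ea, eb⟩
  · subst ea eb
    exact ⟨r, rs r * t, by rw [xr, ← mul_assoc, hs, one_mul]⟩
  · subst ea eb
    refine ⟨r, rs r * -t, ?_⟩
    rw [xr, ← mul_assoc, hs, one_mul]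
    exact el_swap (root_ne r) t

theorem adHom_range : (adHom (F := F)).range = Cfsg.Lie.chevD4.group F := by
  refine le_antisymm ?_ ((Subgroup.closure_le _).2 ?_)
  · have hgen : (Subgroup.closure ((Subtype.val : elGroup 4 F → O8) ⁻¹'
        {g | ∃ a b h t, g = el a b h t}) : Subgroup (elGroup 4 F)) = ⊤ :=
      Subgroup.closure_closure_coe_preimage
    rw [MonoidHom.range_eq_map, ← hgen, MonoidHom.map_closure]
    refine (Subgroup.closure_le _).2 ?_
    rintro x ⟨g, ⟨a, b, h, t, hg⟩, rfl⟩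
    obtain ⟨r, s, e⟩ := el_eq_xr h t
    refine Subgroup.subset_closure ⟨r, s, ?_⟩
    rw [← adHom_xe]
    have : g = xe r s := Subtype.ext (hg.trans e)
    rw [this]
  · rintro x ⟨r, t, hx⟩
    exact ⟨xe r t, Units.ext ((adHom_xe r t).trans hx.symm)⟩

theorem scalar_of_adj {g : O8} (h : ∀ v, adj g v = v) : ∃ c : F, (g.1 : M8) = c • (1 : M8) := by
  have hk : ∀ a b : I8, pr a ≠ pr b → (g.1 : M8) * (Matrix.single a b 1 - Matrix.single b a 1) * (g.1 : M8)ᵀ =
      Matrix.single a b 1 - Matrix.single b a 1 := by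
    intro a b hab
    set N : M8 := Matrix.single a b 1 with hNdef
    have hN : tF N = 0 := by
      have h1 : ∀ i : Fin 4, ¬ (a = .inr i ∧ b = .inl i) := fun i e => hab (by rw [e.1, e.2]; rfl)
      have h2 : ∀ i : Fin 4, ¬ (a = .inl i ∧ b = .inr i) := fun i e => hab (by rw [e.1, e.2]; rfl)
      simp [tF, sF, hNdef, Matrix.single_apply, h1, h2]
    have e := h (scM N)
    rw [adj_apply, scM_conj g hN] at e
    obtain ⟨hs, -⟩ := sym_of_zero (M := (g.1 : M8) * N * (g.1 : M8)ᵀ - N) (by rw [map_sub, e, sub_self]) (by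
      rw [sub_eq_add_neg, tF_add, tF_conj, hN, ← neg_one_smul F N, tF_smul, hN, mul_zero, add_zero])
    have hT : Matrix.single b a (1 : F) = Nᵀ := by rw [hNdef, Matrix.transpose_single]
    rw [hT, Matrix.mul_sub, Matrix.sub_mul]
    rw [Matrix.transpose_sub, Matrix.transpose_mul, Matrix.transpose_mul, Matrix.transpose_transpose,
      ← Matrix.mul_assoc] at hs
    exact sub_eq_sub_iff_sub_eq_sub.1 hs.symm
  have hit : (g.1 : M8)ᵀ * ((g⁻¹ : O8).1 : M8)ᵀ = 1 := by
    rw [← Matrix.transpose_mul, ← Units.val_mul, ← Subgroup.coe_mul, inv_mul_cancel, Subgroup.coe_one,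
      Units.val_one, Matrix.transpose_one]
  generalize ((g⁻¹ : O8).1 : M8)ᵀ = B at hit
  have key : ∀ a b : I8, pr a ≠ pr b → ∀ k, (g.1 : M8) k a =
      (if k = a then B b b else 0) - (if k = b then B a b else 0) := by
    intro a b hab k
    have e : (g.1 : M8) * (Matrix.single a b 1 - Matrix.single b a 1) =
        (Matrix.single a b 1 - Matrix.single b a 1) * B := by
      conv_rhs => rw [← hk a b hab]
      rw [Matrix.mul_assoc _ (g.1 : M8)ᵀ, hit, Matrix.mul_one]
    have e' := congrFun (congrFun e k) b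
    have hne : a ≠ b := fun e => hab (by rw [e])
    simp [Matrix.mul_sub, Matrix.sub_mul, Matrix.sub_apply, hne.symm] at e'
    clear h hk e
    by_cases ka : k = a <;> by_cases kb : k = b <;> simp_all
  have hoff : ∀ k a : I8, k ≠ a → (g.1 : M8) k a = 0 := by
    intro k a hka
    obtain ⟨l, hla, hlk⟩ := exists_third (by norm_num : 3 ≤ 4) (pr a) (pr k)
    rw [key a (.inl l) (Ne.symm hla) k, if_neg hka, if_neg (fun e => hlk (by rw [e]; rfl)), sub_zero]
  have hd : ∀ a b : I8, pr a ≠ pr b → (g.1 : M8) a a = B b b := by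
    intro a b hab
    rw [key a b hab a, if_pos rfl, if_neg (fun e => hab (by rw [e])), sub_zero]
  have hall : ∀ a b : I8, (g.1 : M8) a a = (g.1 : M8) b b := by
    intro a b
    obtain ⟨l, hla, hlb⟩ := exists_third (by norm_num : 3 ≤ 4) (pr a) (pr b)
    rw [hd a (.inl l) (Ne.symm hla), hd b (.inl l) (Ne.symm hlb)]
  refine ⟨(g.1 : M8) (.inl 0) (.inl 0), ?_⟩
  ext a b
  by_cases hab : a = b
  · subst hab; simp [hall a (.inl 0)]
  · simp [hoff a b hab, hab]

theorem scalar_sq {g : O8} {c : F} (h : (g.1 : M8) = c • (1 : M8)) : c * c = 1 := by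
  have := iso_quad g (Pi.single (.inl 0) 1 + Pi.single (.inr 0) 1)
  rw [h, Matrix.smul_mulVec, Matrix.one_mulVec] at this
  simpa [Cfsg.quadFormPlus, Fin.sum_univ_four] using this

theorem adHom_ker : (adHom (F := F)).ker = Subgroup.center (elGroup 4 F) := by
  ext g
  rw [MonoidHom.mem_ker, Subgroup.mem_center_iff]
  constructor
  · intro h
    obtain ⟨c, hc⟩ := scalar_of_adj (g := g.1) fun v => by
      have := congrArg (fun x : GL I28 F => (x : Matrix I28 I28 F) *ᵥ v) h
      change LinearMap.toMatrix' (adj g.1) *ᵥ v = (1 : Matrix I28 I28 F) *ᵥ v at this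
      rwa [LinearMap.toMatrix'_mulVec, Matrix.one_mulVec] at this
    intro x
    refine Subtype.ext (Subtype.ext (Units.ext ?_))
    change (x.1.1 : M8) * (g.1.1 : M8) = (g.1.1 : M8) * (x.1.1 : M8)
    rw [hc]; simp
  · intro h
    obtain ⟨c, hc⟩ := scalar_of_commute (by norm_num : 3 ≤ 4) (g := g.1) fun a b hab =>
      (congrArg Subtype.val (h ⟨el a b hab 1, el_mem _ _⟩)).symm
    have hc2 := scalar_sq hc
    refine Units.ext (Matrix.ext_iff_mulVec.2 fun v => ?_)
    change LinearMap.toMatrix' (adj g.1) *ᵥ v = (1 : Matrix I28 I28 F) *ᵥ v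
    rw [LinearMap.toMatrix'_mulVec, Matrix.one_mulVec, adj_apply, hc]
    simp [smul_smul, hc2, scM_lift]

/-- the adjoint representation into the matrices of the datum -/
noncomputable def adD4 : elGroup 4 F →* GL Cfsg.Lie.chevD4.Idx F := adHom

theorem adD4_range : (adD4 (F := F)).range = Cfsg.Lie.chevD4.group F := adHom_range

theorem adD4_ker : (adD4 (F := F)).ker = Subgroup.center (elGroup 4 F) := adHom_ker

/-- `D₄(F) ≅ PΩ⁺₈(F)`. -/
theorem group_equiv_pomega :
    Nonempty (↥(Cfsg.Lie.chevD4.group F) ≃* Cfsg.POmega F (Cfsg.quadFormPlus 4 F)) := by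
  have e1 : (elGroup 4 F ⧸ Subgroup.center (elGroup 4 F)) ≃* ↥(Cfsg.Lie.chevD4.group F) :=
    ((QuotientGroup.quotientMulEquivOfEq (adD4_ker (F := F)).symm).trans
      (QuotientGroup.quotientKerEquivRange adD4)).trans (MulEquiv.subgroupCongr adD4_range)
  let e2 : elGroup 4 F ≃* Cfsg.Omega F (Cfsg.quadFormPlus 4 F) :=
    MulEquiv.subgroupCongr (omega_eq (by norm_num : 3 ≤ 4)).symm
  refine ⟨e1.symm.trans (QuotientGroup.congr (Subgroup.center _) (Subgroup.center _) e2 ?_)⟩
  ext x
  rw [Subgroup.mem_map, Subgroup.mem_center_iff]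
  constructor
  · rintro ⟨y, hy, rfl⟩ z
    obtain ⟨z, rfl⟩ := e2.surjective z
    change e2 z * e2 y = e2 y * e2 z
    rw [← map_mul, ← map_mul, Subgroup.mem_center_iff.1 hy z]
  · intro hx
    obtain ⟨y, rfl⟩ := e2.surjective x
    exact ⟨y, Subgroup.mem_center_iff.2 fun z => e2.injective (by rw [map_mul, map_mul]; exact hx (e2 z)), rfl⟩

end

end Cfsg.Agent.H27.D4
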