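import Cfsg.Prelude.Def_Classical

/-! Maps out of dihedral groups; the isometry group of a hyperbolic plane. -/

set_option autoImplicit false

namespace Cfsg.Agent.H27.Dihedral

open Matrix

/-- hom from a dihedral group given by a cyclic part and an inverting involution -/
def ofInverting {n : ℕ} {G : Type*} [Group G] (T : Multiplicative (ZMod n) →* G) (s : G)
    (hs : s * s = 1) (hTs : ∀ a, T a * s = s * T a⁻¹) : DihedralGroup n →* G where
  toFun g := match g with
    | .r i => T (.ofAdd i)
    | .sr i => s * T (.ofAdd i)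
  map_one' := by
    change T (Multiplicative.ofAdd (0 : ZMod n)) = 1
    rw [ofAdd_zero, map_one]
  map_mul' := by
    have key : ∀ a b, T a * (s * T b) = s * T (a⁻¹ * b) := by
      intro a b
      rw [← mul_assoc, hTs, mul_assoc, map_mul]
    rintro (i | i) (j | j)
    · change T (Multiplicative.ofAdd (i + j)) = _
      rw [ofAdd_add, map_mul]
    · change s * T (Multiplicative.ofAdd (j - i)) = T _ * (s * T _)
      rw [key, ← ofAdd_neg, ← ofAdd_add, neg_add_eq_sub]
    · change s * T (Multiplicative.ofAdd (i + j)) = (s * T _) * T _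
      rw [ofAdd_add, map_mul, mul_assoc]
    · change T (Multiplicative.ofAdd (j - i)) = (s * T _) * (s * T _)
      rw [mul_assoc, key, ← mul_assoc s s, hs, one_mul, ← ofAdd_neg, ← ofAdd_add, neg_add_eq_sub]

theorem ofInverting_bijective_range {n : ℕ} {G : Type*} [Group G] (T : Multiplicative (ZMod n) →* G)
    (s : G) (hs : s * s = 1) (hTs : ∀ a, T a * s = s * T a⁻¹) (hT : Function.Injective T)
    (hsT : ∀ a, T a ≠ s) : Function.Injective (ofInverting T s hs hTs) := by
  rw [injective_iff_map_eq_one]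
  rintro (i | i) h
  · change T (Multiplicative.ofAdd i) = 1 at h
    rw [← map_one T] at h
    have := hT h
    rw [DihedralGroup.one_def]
    congr 1
  · change s * T (Multiplicative.ofAdd i) = 1 at h
    exact absurd (by rw [map_inv, ← eq_inv_of_mul_eq_one_left h]) (hsT (Multiplicative.ofAdd i)⁻¹)

variable {F : Type*} [Field F]

/-- `diag(u, u⁻¹)` -/
def torus (u : Fˣ) : GL (Fin 1 ⊕ Fin 1) F where
  val := Matrix.diagonal (Sum.elim (fun _ => (u : F)) (fun _ => (↑u⁻¹ : F)))
  inv := Matrix.diagonal (Sum.elim (fun _ => (↑u⁻¹ : F)) (fun _ => (u : F)))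
  val_inv := by rw [Matrix.diagonal_mul_diagonal, ← Matrix.diagonal_one]; congr 1; ext (i | i) <;> simp
  inv_val := by rw [Matrix.diagonal_mul_diagonal, ← Matrix.diagonal_one]; congr 1; ext (i | i) <;> simp

/-- the swap of the two coordinates -/
def swap : GL (Fin 1 ⊕ Fin 1) F where
  val := Matrix.fromBlocks 0 1 1 0
  inv := Matrix.fromBlocks 0 1 1 0
  val_inv := by simp [Matrix.fromBlocks_multiply]
  inv_val := by simp [Matrix.fromBlocks_multiply]

theorem torus_mem (u : Fˣ) :
    torus u ∈ Cfsg.isometryGroup F (Cfsg.quadFormPlus 1 F) := by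
  intro v _
  simp [torus, Cfsg.quadFormPlus, Matrix.mulVec_diagonal]
  field_simp

theorem swap_mem : (swap : GL (Fin 1 ⊕ Fin 1) F) ∈ Cfsg.isometryGroup F (Cfsg.quadFormPlus 1 F) := by
  intro v _
  simp [swap, Cfsg.quadFormPlus, Matrix.fromBlocks_mulVec, mul_comm]

theorem plane_equiv [Fintype F] {q : ℕ} (hF : Fintype.card F = q) :
    Nonempty (Cfsg.isometryGroup F (Cfsg.quadFormPlus 1 F) ≃* DihedralGroup (q - 1)) := by
  have hc : Nat.card Fˣ = q - 1 := by rw [Nat.card_units, Nat.card_eq_fintype_card, hF]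
  let e : Multiplicative (ZMod (q - 1)) ≃* Fˣ := mulEquivOfCyclicCardEq (by
    rw [hc, Nat.card_congr Multiplicative.toAdd, Nat.card_zmod])
  let T : Multiplicative (ZMod (q - 1)) →* Cfsg.isometryGroup F (Cfsg.quadFormPlus 1 F) :=
    { toFun := fun a => ⟨torus (e a), torus_mem _⟩
      map_one' := by
        refine Subtype.ext (Units.ext ?_)
        simp [torus, ← Matrix.diagonal_one]
      map_mul' := fun a b => by
        refine Subtype.ext (Units.ext ?_)
        change Matrix.diagonal _ = Matrix.diagonal _ * Matrix.diagonal _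
        rw [Matrix.diagonal_mul_diagonal]
        congr 1
        funext i
        rcases i with i | i
        · simp
        · simp only [Sum.elim_inr, map_mul, Units.val_inv_eq_inv_val, Units.val_mul]
          exact mul_inv _ _ }
  let s : Cfsg.isometryGroup F (Cfsg.quadFormPlus 1 F) := ⟨swap, swap_mem⟩
  have hs : s * s = 1 := Subtype.ext (Units.ext (by simp [s, swap, Matrix.fromBlocks_multiply]))
  have hTs : ∀ a, T a * s = s * T a⁻¹ := by
    intro a
    refine Subtype.ext (Units.ext (Matrix.ext fun i j => ?_))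
    rcases i with i | i <;> rcases j with j | j <;>
      simp [T, s, torus, swap, Matrix.diagonal_mul, Matrix.mul_diagonal, Subsingleton.elim i j]
  have hT : Function.Injective T := by
    intro a b h
    apply e.injective
    have := congrArg (fun g : Cfsg.isometryGroup F (Cfsg.quadFormPlus 1 F) =>
      (g.1 : Matrix (Fin 1 ⊕ Fin 1) (Fin 1 ⊕ Fin 1) F) (Sum.inl 0) (Sum.inl 0)) h
    exact Units.ext (by simpa [T, torus] using this)
  have hsT : ∀ a, T a ≠ s := by
    intro a h
    have := congrArg (fun g : Cfsg.isometryGroup F (Cfsg.quadFormPlus 1 F) =>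
      (g.1 : Matrix (Fin 1 ⊕ Fin 1) (Fin 1 ⊕ Fin 1) F) (Sum.inl 0) (Sum.inl 0)) h
    simp [T, s, torus, swap] at this
  refine ⟨(MulEquiv.ofBijective (ofInverting T s hs hTs)
    ⟨ofInverting_bijective_range T s hs hTs hT hsT, ?_⟩).symm⟩
  rintro ⟨g, hg⟩
  set M := (g : Matrix (Fin 1 ⊕ Fin 1) (Fin 1 ⊕ Fin 1) F) with hM
  have hQ : ∀ x y : F, (M (.inl 0) (.inl 0) * x + M (.inl 0) (.inr 0) * y) *
      (M (.inr 0) (.inl 0) * x + M (.inr 0) (.inr 0) * y) = x * y := by
    intro x y
    have := hg (Sum.elim (fun _ => x) (fun _ => y)) 0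
    simpa [Cfsg.quadFormPlus, Matrix.mulVec, dotProduct, Fintype.sum_sum_type] using this
  have h10 := hQ 1 0
  have h01 := hQ 0 1
  have h11 := hQ 1 1
  simp only [mul_one, mul_zero, add_zero, zero_add] at h10 h01 h11
  rcases mul_eq_zero.1 h10 with ha | hc'
  · -- antidiagonal
    rw [ha, zero_add] at h11
    have hb : M (.inl 0) (.inr 0) ≠ 0 := by intro h; rw [h, zero_mul] at h11; exact zero_ne_one h11
    have hd : M (.inr 0) (.inr 0) = 0 := (mul_eq_zero.1 h01).resolve_left hb
    rw [hd, add_zero] at h11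
    obtain ⟨a, ha'⟩ := e.surjective ⟨M (.inr 0) (.inl 0), M (.inl 0) (.inr 0),
      by rw [mul_comm]; exact h11, h11⟩
    refine ⟨.sr a.toAdd, Subtype.ext (Units.ext (Matrix.ext fun i j => ?_))⟩
    change ((s * T a : Cfsg.isometryGroup F (Cfsg.quadFormPlus 1 F)).1 :
      Matrix (Fin 1 ⊕ Fin 1) (Fin 1 ⊕ Fin 1) F) i j = M i j
    rcases i with i | i <;> rcases j with j | j <;>
      simp [T, s, torus, swap, Matrix.mul_diagonal, ha', Subsingleton.elim i 0,
        Subsingleton.elim j 0, ha, hd, inv_eq_of_mul_eq_one_left h11]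
  · rw [hc', zero_add] at h11
    have hd : M (.inr 0) (.inr 0) ≠ 0 := by intro h; rw [h, mul_zero] at h11; exact zero_ne_one h11
    have hb : M (.inl 0) (.inr 0) = 0 := (mul_eq_zero.1 h01).resolve_right hd
    rw [hb, add_zero] at h11
    obtain ⟨a, ha'⟩ := e.surjective ⟨M (.inl 0) (.inl 0), M (.inr 0) (.inr 0), h11,
      by rw [mul_comm]; exact h11⟩
    refine ⟨.r a.toAdd, Subtype.ext (Units.ext (Matrix.ext fun i j => ?_))⟩
    change ((T a : Cfsg.isometryGroup F (Cfsg.quadFormPlus 1 F)).1 :
      Matrix (Fin 1 ⊕ Fin 1) (Fin 1 ⊕ Fin 1) F) i j = M i j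
    rcases i with i | i <;> rcases j with j | j <;>
      simp [T, torus, ha', Subsingleton.elim i 0, Subsingleton.elim j 0, hc', hb, inv_eq_of_mul_eq_one_right h11]

end Cfsg.Agent.H27.Dihedral
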