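import Cfsg.Agent.H37.Chev.Order
import Cfsg.Prelude.Def_EvenType
import Cfsg.Agent.H37.Chev.Result

/-!
Fixed points and first cohomology of an involutory field automorphism of a tabulated Chevalley
group in characteristic 2.
-/
set_option autoImplicit false

namespace Cfsg.Agent.H27.FieldFixed

open Cfsg.Lie Cfsg.Agent.H37 Cfsg.Agent.H37.RootSys

variable {D : ChevalleyDatum} {F : Type*} [Field F] (Q : Chev.Data D F)

/-- `σ` acts on every root element. -/
structure Act (φ : MulAut ↥(D.group F)) (σ : F ≃+* F) : Prop where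
  map_x : ∀ r, r < D.nroots → ∀ t, φ (Q.sys.x r t) = Q.sys.x r (σ t)

/-- The subgroup generated by the root elements with fixed parameters. -/
def fixGen (σ : F ≃+* F) : Subgroup ↥(D.group F) :=
  Subgroup.closure {g | ∃ r < D.nroots, ∃ t, σ t = t ∧ g = Q.sys.x r t}

variable {Q} {φ : MulAut ↥(D.group F)} {σ : F ≃+* F}

theorem x_mem_fixGen {r : ℕ} (hr : r < D.nroots) {t : F} (ht : σ t = t) :
    Q.sys.x r t ∈ fixGen Q σ :=
  Subgroup.subset_closure ⟨r, hr, t, ht, rfl⟩

variable (Q) in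
/-- `n_r(t)` inside the group. -/
def nE (r : ℕ) (t : F) : ↥(D.group F) :=
  Q.sys.x r t * Q.sys.x (D.neg r) (-t⁻¹) * Q.sys.x r t

theorem coe_nE (r : ℕ) (t : F) : (nE Q r t : GL D.Idx F) = Q.K.nU F r t := by
  rw [Q.K.nU_eq]; rfl

theorem nE_mem {r : ℕ} (hr : r < D.nroots) {t : F} (ht : σ t = t) : nE Q r t ∈ fixGen Q σ :=
  mul_mem (mul_mem (x_mem_fixGen hr ht) (x_mem_fixGen (Q.K.neg_lt hr) (by rw [map_neg, map_inv₀, ht])))
    (x_mem_fixGen hr ht)

theorem ns_mem {i : ℕ} (hi : i < Q.X.n) : Q.sys.ns i ∈ fixGen Q σ := by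
  have h := nE_mem (Q := Q) (σ := σ) (Q.K.simple_lt i (Q.rank_eq.symm ▸ hi)).1 (t := 1) (map_one σ)
  have e : Q.sys.ns i = nE Q (D.simple i) 1 := Subtype.ext (by rw [coe_nE]; rfl)
  rwa [e]

theorem rep_corr (w : Q.X.M.Group) : ∃ h ∈ Q.sys.H, h * Q.sys.rep w ∈ fixGen Q σ := by
  refine Sys.gen_induction (p := fun w => ∃ h ∈ Q.sys.H, h * Q.sys.rep w ∈ fixGen Q σ) ?_ ?_ w
  · exact ⟨1, one_mem _, by rw [Q.sys.rep_one, one_mul]; exact one_mem _⟩
  · rintro i w ⟨h, hh, hm⟩
    obtain ⟨k, hk, e⟩ := Q.sys.ns_rep (i := i) w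
    refine ⟨Q.sys.ns i * h * (Q.sys.ns i)⁻¹ * k,
      mul_mem (Q.sys.n_conj_H i i.isLt h hh) hk, ?_⟩
    rw [mul_assoc, ← e, show Q.sys.ns i * h * (Q.sys.ns i)⁻¹ * (Q.sys.ns i * Q.sys.rep w)
      = Q.sys.ns i * (h * Q.sys.rep w) by group]
    exact mul_mem (ns_mem i.isLt) hm

/-! ### the torus -/

variable (Q) in
/-- `h_r(t)` inside the group. -/
def hE (r : ℕ) (t : F) : ↥(D.group F) := nE Q r t * nE Q r (-1)

theorem coe_hE (r : ℕ) (t : F) : (hE Q r t : GL D.Idx F) = Q.K.hU F r t := by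
  rw [Q.K.hU_eq, hE, Subgroup.coe_mul, coe_nE, coe_nE]

variable (Q) in
/-- the torus inside the group -/
def torusE (c : Fin D.rank → Fˣ) : ↥(D.group F) :=
  ((List.finRange D.rank).map fun m : Fin D.rank => hE Q (D.simple (m : ℕ)) (c m : F)).prod

theorem coe_torusE (c : Fin D.rank → Fˣ) : (torusE Q c : GL D.Idx F) = Chevalley.torus D F c := by
  rw [Q.K.torus_eq_prod, torusE, Subgroup.val_list_prod, List.map_map]
  congr 1
  exact List.map_congr_left fun m _ => coe_hE _ _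

theorem mem_H_iff {g : ↥(D.group F)} : g ∈ Q.sys.H ↔ ∃ c, g = torusE Q c := by
  change (g : GL D.Idx F) ∈ D.diagonalSubgroup F ↔ _
  rw [Q.K.diagonalSubgroup_eq F]
  constructor
  · rintro ⟨c, hc⟩
    exact ⟨c, Subtype.ext (hc.symm.trans (coe_torusE c).symm)⟩
  · rintro ⟨c, rfl⟩
    exact ⟨c, (coe_torusE c).symm⟩

theorem torusE_injective [Finite F]
    (hH : Nat.card (D.diagonalSubgroup F) = (Nat.card F - 1) ^ D.rank) :
    Function.Injective (torusE Q) := by
  classical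
  have hf : Function.Surjective (Chevalley.torus D F).rangeRestrict :=
    MonoidHom.rangeRestrict_surjective _
  have hcard : Nat.card (Fin D.rank → Fˣ) = Nat.card (Chevalley.torus D F).range := by
    rw [← Q.K.diagonalSubgroup_eq F, hH, Nat.card_fun, Nat.card_fin, Nat.card_units]
  have hb := (Nat.bijective_iff_surjective_and_card _).2 ⟨hf, hcard⟩
  intro c d e
  refine hb.1 (Subtype.ext ?_)
  show Chevalley.torus D F c = Chevalley.torus D F d
  rw [← coe_torusE (Q := Q), ← coe_torusE (Q := Q), e]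

variable (A : Act Q φ σ)
include A

theorem map_nE {r : ℕ} (hr : r < D.nroots) (t : F) : φ (nE Q r t) = nE Q r (σ t) := by
  rw [nE, map_mul, map_mul, A.map_x r hr, A.map_x _ (Q.K.neg_lt hr), map_neg, map_inv₀]
  rfl

theorem map_hE {r : ℕ} (hr : r < D.nroots) (t : F) : φ (hE Q r t) = hE Q r (σ t) := by
  rw [hE, map_mul, map_nE A hr, map_nE A hr, map_neg, map_one]
  rfl

theorem map_torusE (c : Fin D.rank → Fˣ) :
    φ (torusE Q c) = torusE Q fun m => Units.map (σ : F →* F) (c m) := by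
  rw [torusE, map_list_prod, List.map_map, torusE]
  congr 1
  refine List.map_congr_left fun m _ => ?_
  simp only [Function.comp_apply]
  rw [map_hE A (Q.K.simple_lt m m.isLt).1]
  rfl

theorem map_H {g : ↥(D.group F)} (hg : g ∈ Q.sys.H) : φ g ∈ Q.sys.H := by
  obtain ⟨c, rfl⟩ := mem_H_iff.1 hg
  rw [map_torusE A]
  exact mem_H_iff.2 ⟨_, rfl⟩

theorem fixed_H_mem [Finite F]
    (hH : Nat.card (D.diagonalSubgroup F) = (Nat.card F - 1) ^ D.rank)
    {g : ↥(D.group F)} (hg : g ∈ Q.sys.H) (hfix : φ g = g) : g ∈ fixGen Q σ := by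
  obtain ⟨c, rfl⟩ := mem_H_iff.1 hg
  rw [map_torusE A] at hfix
  have hc : ∀ m, σ (c m : F) = c m := fun m =>
    congrArg Units.val (congrFun (torusE_injective hH hfix) m)
  refine Subgroup.list_prod_mem _ fun y hy => ?_
  obtain ⟨m, -, rfl⟩ := List.mem_map.1 hy
  exact mul_mem (nE_mem (Q.K.simple_lt m m.isLt).1 (hc m))
    (nE_mem (Q.K.simple_lt m m.isLt).1 (by rw [map_neg, map_one]))

theorem map_fixGen {g : ↥(D.group F)} (hg : g ∈ fixGen Q σ) : φ g = g := by
  have hle : fixGen Q σ ≤ Cfsg.fixedSubgroup φ := by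
    refine (Subgroup.closure_le _).2 ?_
    rintro _ ⟨r, hr, t, ht, rfl⟩
    show φ (Q.sys.x r t) = _
    rw [A.map_x r hr, ht]
  exact hle hg

/-! ### unipotent subgroups -/

theorem map_XS {S : Set ℕ} (hS : ∀ r ∈ S, r < D.nroots) {g : ↥(D.group F)}
    (hg : g ∈ XS Q.sys.x S) : φ g ∈ XS Q.sys.x S := by
  have hle : XS Q.sys.x S ≤ (XS Q.sys.x S).comap φ.toMonoidHom :=
    XS_le fun r hr t => by
      rw [Subgroup.mem_comap]
      show φ _ ∈ _
      rw [A.map_x r (hS r hr)]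
      exact x_mem_XS hr _
  exact hle hg

theorem fixed_XS_mem {S : Finset ℕ} (hS : Q.sys.toUnip.Closed S) {g : ↥(D.group F)}
    (hg : g ∈ XS Q.sys.x (↑S : Set ℕ)) (hfix : φ g = g) : g ∈ fixGen Q σ := by
  have hlt : ∀ r ∈ S, r < D.nroots := fun r hr =>
    (mem_posSet.1 (Q.sys.P_eq ▸ hS.1 hr)).1
  suffices ∀ m k, D.nroots ≤ k + m → ∀ g ∈ XS Q.sys.x {r | r ∈ S ∧ k ≤ r}, φ g = g →
      g ∈ fixGen Q σ from
    this D.nroots 0 (by omega) g (XS_mono (S' := {r | r ∈ S ∧ 0 ≤ r})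
      (fun r hr => ⟨hr, Nat.zero_le r⟩) hg) hfix
  intro m
  induction m with
  | zero =>
      intro k hk g hg _
      have h0 : {r | r ∈ S ∧ k ≤ r} = ∅ :=
        Set.eq_empty_iff_forall_notMem.2 fun r hr => by have := hlt r hr.1; have := hr.2; omega
      rw [h0, XS_empty, Subgroup.mem_bot] at hg
      rw [hg]; exact one_mem _
  | succ m ih =>
      intro k hk g hg hfix
      by_cases hkS : k ∈ S
      · obtain ⟨t, p, hp, rfl⟩ := Q.sys.toUnip.exists_head hS hkS hg
        have hfix' : Q.sys.x k (σ t) * φ p = Q.sys.x k t * p := by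
          rw [← A.map_x k (hlt k hkS), ← map_mul]; exact hfix
        have hp' := map_XS A (S := {r | r ∈ S ∧ k < r}) (fun r hr => hlt r hr.1) hp
        obtain ⟨e1, e2⟩ := Q.sys.toUnip.head_unique hS hkS hp' hp hfix'
        exact mul_mem (x_mem_fixGen (hlt k hkS) e1) (ih (k + 1) (by omega) p hp e2)
      · rw [Unip.tail_of_not_mem hkS] at hg
        exact ih (k + 1) (by omega) g hg hfix

theorem fixed_mem [Finite F]
    (hH : Nat.card (D.diagonalSubgroup F) = (Nat.card F - 1) ^ D.rank)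
    {g : ↥(D.group F)} (hfix : φ g = g) : g ∈ fixGen Q σ := by
  obtain ⟨u, hu, h, hh, w, v, hv, rfl⟩ := Q.sys.normalForm.exists_eq g
  change u ∈ Q.sys.U at hu
  change h ∈ Q.sys.H at hh
  change v ∈ Q.sys.Uw w at hv
  change φ (u * h * Q.sys.rep w * v) = u * h * Q.sys.rep w * v at hfix
  change u * h * Q.sys.rep w * v ∈ _
  obtain ⟨k, hk, hm⟩ := rep_corr (Q := Q) (σ := σ) w
  have hUS : ∀ r ∈ (↑(posSet D) : Set ℕ), r < D.nroots := fun r hr => (mem_posSet.1 hr).1
  have hWS : ∀ r ∈ (↑(Sys.flip Q.X.good w) : Set ℕ), r < D.nroots := fun r hr =>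
    (Sys.mem_flip.1 hr).1
  have hmid : φ (h * Q.sys.rep w) = φ (h * k⁻¹) * (k * Q.sys.rep w) := by
    rw [show h * Q.sys.rep w = h * k⁻¹ * (k * Q.sys.rep w) by group, map_mul, map_fixGen A hm]
  have e : φ u * (φ (h * k⁻¹) * k) * Q.sys.rep w * φ v = u * h * Q.sys.rep w * v := by
    calc _ = φ u * (φ (h * k⁻¹) * (k * Q.sys.rep w)) * φ v := by group
      _ = φ (u * (h * Q.sys.rep w)) * φ v := by rw [← hmid, ← map_mul]
      _ = φ (u * h * Q.sys.rep w * v) := by rw [← mul_assoc u, ← map_mul]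
      _ = _ := hfix
  obtain ⟨-, e1, e2, e3⟩ := Q.sys.normalForm.unique (map_XS A hUS hu) hu
    (mul_mem (map_H A (mul_mem hh (inv_mem hk))) hk) hh (map_XS A hWS hv) hv e
  have e2' : φ (h * k⁻¹) = h * k⁻¹ := eq_mul_inv_of_mul_eq e2
  rw [show u * h * Q.sys.rep w * v = u * (h * k⁻¹) * (k * Q.sys.rep w) * v by group]
  exact mul_mem (mul_mem (mul_mem (fixed_XS_mem A (Q.sys.P_eq ▸ Q.sys.toUnip.closed_P) hu e1)
    (fixed_H_mem A hH (mul_mem hh (inv_mem hk)) e2')) hm)
    (fixed_XS_mem A (Q.sys.closed_flip w) hv e3)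

theorem fixedSubgroup_eq [Finite F]
    (hH : Nat.card (D.diagonalSubgroup F) = (Nat.card F - 1) ^ D.rank) :
    Cfsg.fixedSubgroup φ = fixGen Q σ :=
  le_antisymm (fun _ hg => fixed_mem A hH hg) fun _ hg => map_fixGen A hg

/-! ### first cohomology -/

variable [CharP F 2]

theorem cocycle_U {θ : F} (hθ : σ θ ≠ θ) (hσ : ∀ t, σ (σ t) = t) (hφ : ∀ g, φ (φ g) = g)
    {g : ↥(D.group F)} (hg : g ∈ Q.sys.U) (hc : g * φ g = 1) :
    ∃ h, g = h⁻¹ * φ h := by
  have hcl : Q.sys.toUnip.Closed (posSet D) := Q.sys.P_eq ▸ Q.sys.toUnip.closed_P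
  have hlt : ∀ r ∈ posSet D, r < D.nroots := fun r hr => (mem_posSet.1 hr).1
  have h2 : ∀ x : F, x + x = 0 := fun x => CharTwo.add_self_eq_zero x
  suffices ∀ m k, D.nroots ≤ k + m → ∀ g ∈ XS Q.sys.x {r | r ∈ posSet D ∧ k ≤ r}, g * φ g = 1 →
      ∃ h, g = h⁻¹ * φ h from
    this D.nroots 0 (by omega) g (XS_mono (S' := {r | r ∈ posSet D ∧ 0 ≤ r})
      (fun r hr => ⟨hr, Nat.zero_le r⟩) hg) hc
  intro m
  induction m with
  | zero =>
      intro k hk g hg _
      have h0 : {r | r ∈ posSet D ∧ k ≤ r} = ∅ :=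
        Set.eq_empty_iff_forall_notMem.2 fun r hr => by have := hlt r hr.1; have := hr.2; omega
      rw [h0, XS_empty, Subgroup.mem_bot] at hg
      exact ⟨1, by rw [hg]; simp⟩
  | succ m ih =>
      intro k hk g hg hc
      by_cases hkS : k ∈ posSet D
      swap
      · rw [Unip.tail_of_not_mem hkS] at hg
        exact ih (k + 1) (by omega) g hg hc
      obtain ⟨t, p, hp, rfl⟩ := Q.sys.toUnip.exists_head hcl hkS hg
      have hk' := hlt k hkS
      have hlt' : ∀ r ∈ {r | r ∈ posSet D ∧ k < r}, r < D.nroots := fun r hr => hlt r hr.1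
      have hp' := map_XS A hlt' hp
      -- the head is a fixed parameter
      have hst : σ t = t := by
        have hq : (Q.sys.x k (σ t))⁻¹ * p * Q.sys.x k (σ t) * φ p ∈
            XS Q.sys.x {r | r ∈ posSet D ∧ k < r} :=
          mul_mem (Q.sys.toUnip.conj_tail' hcl hkS _ hp) hp'
        have e : Q.sys.x k (t + σ t) * ((Q.sys.x k (σ t))⁻¹ * p * Q.sys.x k (σ t) * φ p)
            = Q.sys.x k 0 * 1 := by
          rw [Q.sys.x_zero' hk', mul_one, Q.sys.x_add' k hk']
          rw [map_mul, A.map_x k hk'] at hc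
          rw [← hc]
          group
        have h3 := (Q.sys.toUnip.head_unique hcl hkS hq (one_mem _) e).1
        linear_combination h3 - h2 t
      -- choose `b` with `b + σ b = t`
      have he : θ + σ θ ≠ 0 := fun h => hθ (by linear_combination h - h2 θ)
      set b := t * θ / (θ + σ θ) with hb
      have hbt : b + σ b = t := by
        rw [hb, map_div₀, map_mul, hst, map_add, hσ, add_comm (σ θ) θ, ← add_div, ← mul_add,
          mul_div_assoc, div_self he, mul_one]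
      set g' := Q.sys.x k b * (Q.sys.x k t * p) * (φ (Q.sys.x k b))⁻¹ with hg'
      have hmem : g' ∈ XS Q.sys.x {r | r ∈ posSet D ∧ k < r} := by
        have hz : b + t = σ b := by linear_combination h2 b - hbt
        rw [hg', A.map_x k hk', ← mul_assoc, ← Q.sys.x_add' k hk', hz]
        exact Q.sys.toUnip.conj_tail hcl hkS _ hp
      have hc' : g' * φ g' = 1 := by
        rw [hg', map_mul, map_mul, map_inv, hφ]
        calc _ = Q.sys.x k b * ((Q.sys.x k t * p) * φ (Q.sys.x k t * p)) * (Q.sys.x k b)⁻¹ := by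
              group
          _ = 1 := by rw [hc]; group
      obtain ⟨h, eh⟩ := ih (k + 1) (by omega) g' hmem hc'
      refine ⟨h * Q.sys.x k b, ?_⟩
      calc Q.sys.x k t * p = (Q.sys.x k b)⁻¹ * g' * φ (Q.sys.x k b) := by rw [hg']; group
        _ = _ := by rw [eh, map_mul]; group

theorem odd_index_U [Finite F] (hH : Nat.card (D.diagonalSubgroup F) = (Nat.card F - 1) ^ D.rank) :
    Odd (Q.sys.U).index := by
  classical
  haveI := Q.X.good.finite
  haveI : Fintype Q.X.M.Group := Fintype.ofFinite _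
  have hev : Even (Nat.card F) := by
    letI := Fintype.ofFinite F
    obtain ⟨n, -, hn⟩ := FiniteField.card F 2
    rw [Nat.card_eq_fintype_card, hn]
    exact (Nat.even_pow.2 ⟨even_two, n.ne_zero⟩)
  have hc := Q.sys.normalForm.card_eq
  have hU0 : Nat.card Q.sys.U ≠ 0 := Nat.card_pos.ne'
  have hidx : (Q.sys.U).index = Nat.card Q.sys.H * ∑ w, Nat.card (Q.sys.Uw w) := by
    refine Nat.eq_of_mul_eq_mul_left (Nat.pos_of_ne_zero hU0) ?_
    rw [Subgroup.card_mul_index, ← mul_assoc]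
    exact hc
  rw [hidx, Nat.odd_mul]
  refine ⟨?_, ?_⟩
  · have e : Nat.card Q.sys.H = Nat.card (D.diagonalSubgroup F) := Q.card_H
    rw [e, hH]
    exact (Nat.Even.sub_odd Nat.card_pos hev odd_one).pow
  · rw [Finset.sum_congr rfl fun w _ => Q.sys.card_Uw w, Finset.odd_sum_iff_odd_card_odd]
    have : (Finset.univ.filter fun w => Odd (Nat.card F ^ Q.X.good.inv w)) = {1} := by
      ext w
      simp only [Finset.mem_filter, Finset.mem_univ, true_and, Finset.mem_singleton]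
      constructor
      · intro h
        by_contra hw
        have h0 : Q.X.good.inv w ≠ 0 := fun h0 => hw (Q.X.good.eq_one_of_inv_eq_zero h0)
        exact Nat.not_even_iff_odd.2 h (Nat.even_pow.2 ⟨hev, h0⟩)
      · rintro rfl
        rw [← Q.sys.card_Uw, Q.sys.Uw_one, Subgroup.card_bot]
        exact odd_one
    rw [this, Finset.card_singleton]
    exact odd_one

theorem cocycle [Finite F] (hH : Nat.card (D.diagonalSubgroup F) = (Nat.card F - 1) ^ D.rank)
    {θ : F} (hθ : σ θ ≠ θ) (hσ : ∀ t, σ (σ t) = t) (hφ : ∀ g, φ (φ g) = g)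
    (g : ↥(D.group F)) (hg : g * φ g = 1) : ∃ h, g = h⁻¹ * φ h := by
  classical
  have hUS : ∀ r ∈ (↑(posSet D) : Set ℕ), r < D.nroots := fun r hr => (mem_posSet.1 hr).1
  let T : ↥(D.group F) ⧸ Q.sys.U → ↥(D.group F) ⧸ Q.sys.U :=
    Quotient.map' (fun x => g * φ x) (fun a b h => by
      rw [QuotientGroup.leftRel_apply] at h ⊢
      rw [show (g * φ a)⁻¹ * (g * φ b) = φ a⁻¹ * φ b by rw [map_inv]; group, ← map_mul]
      exact map_XS A hUS h)
  have hT : Function.Involutive T := by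
    intro q
    induction q using Quotient.inductionOn' with
    | h x =>
      show Quotient.mk'' (g * φ (g * φ x)) = _
      rw [map_mul, hφ, ← mul_assoc, hg, one_mul]
  letI : Fintype (↥(D.group F) ⧸ Q.sys.U) := Fintype.ofFinite _
  have hodd : ¬ 2 ∣ Fintype.card (↥(D.group F) ⧸ Q.sys.U) := by
    rw [← Nat.card_eq_fintype_card, ← Subgroup.index]
    exact (odd_index_U A hH).not_two_dvd_nat
  obtain ⟨q, hq⟩ := Equiv.Perm.exists_fixed_point_of_prime (p := 2) (n := 1) hodd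
    (σ := hT.toPerm) (Equiv.ext fun x => by simp [sq, hT x])
  induction q using Quotient.inductionOn' with
  | h x =>
    have hx : (Quotient.mk'' (g * φ x) : ↥(D.group F) ⧸ Q.sys.U) = Quotient.mk'' x := hq
    have hu : (g * φ x)⁻¹ * x ∈ Q.sys.U := QuotientGroup.eq.1 hx
    have hu' : x⁻¹ * g * φ x ∈ Q.sys.U := by
      have := inv_mem hu
      simpa [mul_assoc] using this
    obtain ⟨h, eh⟩ := cocycle_U A hθ hσ hφ hu' (by
      rw [map_mul, map_mul, map_inv, hφ,
        show x⁻¹ * g * φ x * ((φ x)⁻¹ * φ g * x) = x⁻¹ * (g * φ g) * x by group, hg]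
      group)
    refine ⟨h * x⁻¹, ?_⟩
    calc g = x * (x⁻¹ * g * φ x) * (φ x)⁻¹ := by group
      _ = _ := by rw [eh, map_mul, map_inv]; group

end Cfsg.Agent.H27.FieldFixed
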