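import Cfsg.Agent.Linear.Unitriangular
import Cfsg.Agent.Linear.Generation

/-!
GL₂ over a field: root subgroups `uv v` (determinant 1, fixing `v`), Sylow subgroups in defining
characteristic, commutant of a non-scalar matrix, triples on the projective line.
-/

set_option autoImplicit false

namespace Cfsg.Agent.H27.GLTwo

open Matrix
open scoped LinearAlgebra.Projectivization

variable {F : Type*} [Field F]

/-- standard first basis vector -/
def e0 : Fin 2 → F := Pi.single 0 1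

/-- standard second basis vector -/
def e1 : Fin 2 → F := Pi.single 1 1

theorem e0_ne : (e0 : Fin 2 → F) ≠ 0 := Pi.single_ne_zero_iff.2 one_ne_zero

theorem e1_ne : (e1 : Fin 2 → F) ≠ 0 := Pi.single_ne_zero_iff.2 one_ne_zero

theorem gl_smul_eq (g : GL (Fin 2) F) (v : Fin 2 → F) :
    g • v = (g : Matrix (Fin 2) (Fin 2) F) *ᵥ v := rfl

theorem sl_smul_eq (g : SpecialLinearGroup (Fin 2) F) (v : Fin 2 → F) :
    g • v = (g : Matrix (Fin 2) (Fin 2) F) *ᵥ v := rfl

theorem smul_e0 (g : GL (Fin 2) F) (i : Fin 2) :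
    (g • (e0 : Fin 2 → F)) i = (g : Matrix (Fin 2) (Fin 2) F) i 0 := by
  rw [gl_smul_eq, e0, Matrix.mulVec_single_one]
  rfl

theorem smul_e1 (g : GL (Fin 2) F) (i : Fin 2) :
    (g • (e1 : Fin 2 → F)) i = (g : Matrix (Fin 2) (Fin 2) F) i 1 := by
  rw [gl_smul_eq, e1, Matrix.mulVec_single_one]
  rfl

theorem pair_ext (v : Fin 2 → F) : v = v 0 • e0 + v 1 • e1 := by
  funext i
  fin_cases i <;> simp [e0, e1]

theorem gl_smul_lin (g : GL (Fin 2) F) (a b : F) (v w : Fin 2 → F) :
    g • (a • v + b • w) = a • (g • v) + b • (g • w) := by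
  rw [gl_smul_eq, gl_smul_eq, gl_smul_eq, Matrix.mulVec_add, Matrix.mulVec_smul,
    Matrix.mulVec_smul]

theorem smul_ext {g h : GL (Fin 2) F} (h0 : g • (e0 : Fin 2 → F) = h • (e0 : Fin 2 → F))
    (h1 : g • (e1 : Fin 2 → F) = h • (e1 : Fin 2 → F)) : g = h := by
  refine Units.ext (Matrix.ext fun i j => ?_)
  fin_cases j
  · simpa [smul_e0] using congrFun h0 i
  · simpa [smul_e1] using congrFun h1 i

/-- the determinant of the pair `(v, w)` -/
def wedge (v w : Fin 2 → F) : F := v 0 * w 1 - v 1 * w 0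

theorem wedge_e : wedge (e0 : Fin 2 → F) e1 = 1 := by simp [wedge, e0, e1]

theorem exists_smul_eq_of_wedge {v w : Fin 2 → F} (hv : v ≠ 0) (h : wedge v w = 0) :
    ∃ c : F, c • v = w := by
  unfold wedge at h
  by_cases h0 : v 0 = 0
  · have h1 : v 1 ≠ 0 := fun h1 => hv (by funext i; fin_cases i <;> simp [h0, h1])
    refine ⟨w 1 / v 1, ?_⟩
    have hw0 : w 0 = 0 := by
      rw [h0, zero_mul, zero_sub, neg_eq_zero] at h
      exact (mul_eq_zero.1 h).resolve_left h1
    funext i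
    fin_cases i <;> simp [h0, hw0, div_mul_cancel₀ _ h1]
  · refine ⟨w 0 / v 0, ?_⟩
    funext i
    fin_cases i
    · simp [div_mul_cancel₀ _ h0]
    · simp only [Pi.smul_apply, smul_eq_mul, Fin.mk_one]
      field_simp
      linear_combination -h

theorem exists_gl {v w : Fin 2 → F} (h : wedge v w ≠ 0) :
    ∃ k : GL (Fin 2) F, k • (e0 : Fin 2 → F) = v ∧ k • (e1 : Fin 2 → F) = w := by
  have hd : IsUnit (Matrix.det !![v 0, w 0; v 1, w 1]) := by
    rw [Matrix.det_fin_two_of, isUnit_iff_ne_zero]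
    intro hh
    exact h (by unfold wedge; linear_combination hh)
  refine ⟨Cfsg.Agent.Linear.glOfDet _ hd, ?_, ?_⟩ <;> funext i <;> fin_cases i <;>
    simp [smul_e0, smul_e1]

theorem exists_gl_e0 {v : Fin 2 → F} (hv : v ≠ 0) :
    ∃ k : GL (Fin 2) F, k • (e0 : Fin 2 → F) = v := by
  by_cases h0 : v 0 = 0
  · have h1 : v 1 ≠ 0 := fun h1 => hv (by funext i; fin_cases i <;> simp [h0, h1])
    obtain ⟨k, hk, -⟩ := exists_gl (v := v) (w := e0) (by simp [wedge, e0, h1])
    exact ⟨k, hk⟩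
  · obtain ⟨k, hk, -⟩ := exists_gl (v := v) (w := e1) (by simp [wedge, e1, h0])
    exact ⟨k, hk⟩

theorem mk_eq_mk_of_wedge {v w : Fin 2 → F} (hv : v ≠ 0) (hw : w ≠ 0) (h : wedge v w = 0) :
    Projectivization.mk F w hw = Projectivization.mk F v hv := by
  obtain ⟨c, hc⟩ := exists_smul_eq_of_wedge hv h
  exact (Projectivization.mk_eq_mk_iff' F w v hw hv).2 ⟨c, hc⟩

/-- matrices of determinant 1 fixing `v` -/
def uv (v : Fin 2 → F) : Subgroup (GL (Fin 2) F) :=
  (GeneralLinearGroup.det : GL (Fin 2) F →* Fˣ).ker ⊓ MulAction.stabilizer (GL (Fin 2) F) v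

theorem mem_uv {v : Fin 2 → F} {g : GL (Fin 2) F} :
    g ∈ uv v ↔ (g : Matrix (Fin 2) (Fin 2) F).det = 1 ∧ g • v = v := by
  simp [uv, MonoidHom.mem_ker, Units.ext_iff]

theorem uv_e0 : uv (e0 : Fin 2 → F) = Cfsg.Agent.Linear.unitriGL 2 F := by
  ext g
  rw [mem_uv, Cfsg.Agent.Linear.mem_unitriGL]
  constructor
  · rintro ⟨hd, hg⟩
    have h00 : (g : Matrix (Fin 2) (Fin 2) F) 0 0 = 1 := by
      rw [← smul_e0, hg]; simp [e0]
    have h10 : (g : Matrix (Fin 2) (Fin 2) F) 1 0 = 0 := by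
      rw [← smul_e0, hg]; simp [e0]
    refine ⟨?_, ?_⟩
    · intro i j hij
      fin_cases i <;> fin_cases j
      · exact absurd hij (lt_irrefl _)
      · exact absurd (show ((1 : Fin 2) < 0) from hij) (by decide)
      · exact h10
      · exact absurd hij (lt_irrefl _)
    · intro i
      fin_cases i
      · exact h00
      · rw [Matrix.det_fin_two, h00, h10] at hd
        simpa using hd
  · rintro ⟨ht, hd⟩
    have h10 : (g : Matrix (Fin 2) (Fin 2) F) 1 0 = 0 := ht (show (0 : Fin 2) < 1 by decide)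
    refine ⟨by rw [Matrix.det_fin_two, hd 0, hd 1, h10]; simp, ?_⟩
    funext i
    rw [smul_e0]
    fin_cases i
    · simpa [e0] using hd 0
    · simpa [e0] using h10

theorem conj_mem_uv_iff {v : Fin 2 → F} {k g : GL (Fin 2) F} :
    k * g * k⁻¹ ∈ uv (k • v) ↔ g ∈ uv v := by
  have hdet : GeneralLinearGroup.det (k * g * k⁻¹) = GeneralLinearGroup.det g := by
    rw [map_mul, map_mul, map_inv]; exact mul_inv_cancel_comm _ _
  simp only [uv, Subgroup.mem_inf, MonoidHom.mem_ker, hdet, MulAction.mem_stabilizer_iff,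
    mul_smul, inv_smul_smul, smul_left_cancel_iff]

theorem uv_smul {v : Fin 2 → F} (k : GL (Fin 2) F) :
    uv (k • v) = (uv v).map (MulAut.conj k).toMonoidHom := by
  ext g
  rw [Subgroup.mem_map]
  constructor
  · intro hg
    refine ⟨k⁻¹ * g * k, ?_, by simp [mul_assoc]⟩
    rw [← conj_mem_uv_iff (k := k)]
    simpa [mul_assoc] using hg
  · rintro ⟨x, hx, rfl⟩
    simpa using conj_mem_uv_iff.2 hx

theorem card_uv [Finite F] {v : Fin 2 → F} (hv : v ≠ 0) : Nat.card (uv v) = Nat.card F := by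
  obtain ⟨k, rfl⟩ := exists_gl_e0 hv
  rw [uv_smul, Subgroup.card_map_of_injective (MulAut.conj k).injective, uv_e0,
    Cfsg.Agent.Linear.card_unitriGL]
  simp

theorem uv_inf {v w : Fin 2 → F} (h : wedge v w ≠ 0) : uv v ⊓ uv w = ⊥ := by
  rw [eq_bot_iff]
  rintro g ⟨hgv, hgw⟩
  obtain ⟨k, rfl, rfl⟩ := exists_gl h
  replace hgv := mem_uv.1 (show g ∈ uv (k • e0) from hgv)
  replace hgw := mem_uv.1 (show g ∈ uv (k • e1) from hgw)
  have h1 : g * k = k := by
    apply smul_ext <;> rw [mul_smul]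
    · exact hgv.2
    · exact hgw.2
  simpa using h1

theorem uv_of_proportional {v w : Fin 2 → F} (hv : v ≠ 0) (hw : w ≠ 0) (h : wedge v w = 0) :
    uv w = uv v := by
  obtain ⟨c, rfl⟩ := exists_smul_eq_of_wedge hv h
  have hc : c ≠ 0 := fun hc => hw (by simp [hc])
  ext g
  rw [mem_uv, mem_uv, gl_smul_eq g (c • v), Matrix.mulVec_smul, ← gl_smul_eq,
    smul_right_inj hc]

section sylow

variable [Fintype F] (p : ℕ) [Fact p.Prime] [CharP F p]

theorem card_sylow (P : Sylow p (GL (Fin 2) F)) : Nat.card P = Fintype.card F := by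
  simpa using Cfsg.Agent.Linear.card_sylow_GL p P

theorem exists_eq_uv (P : Sylow p (GL (Fin 2) F)) :
    ∃ v : Fin 2 → F, v ≠ 0 ∧ (P : Subgroup (GL (Fin 2) F)) = uv v := by
  obtain ⟨k, rfl⟩ := MulAction.exists_smul_eq (GL (Fin 2) F)
    (Cfsg.Agent.Linear.unitriSylow 2 F p) P
  refine ⟨k • e0, (smul_ne_zero_iff_ne k).2 e0_ne, ?_⟩
  rw [uv_smul, uv_e0, Sylow.coe_subgroup_smul, Cfsg.Agent.Linear.unitriSylow_coe]
  rfl

/-- the root subgroup at `v` as a Sylow subgroup -/
noncomputable def uvSylow (v : Fin 2 → F) (hv : v ≠ 0) : Sylow p (GL (Fin 2) F) :=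
  Sylow.ofCard (uv v) (by
    rw [card_uv hv, Cfsg.Agent.Linear.factorization_card_GL, Nat.card_eq_fintype_card]
    simp)

@[simp] theorem uvSylow_coe (v : Fin 2 → F) (hv : v ≠ 0) :
    (uvSylow p v hv : Subgroup (GL (Fin 2) F)) = uv v := rfl

theorem uv_ne_bot {v : Fin 2 → F} (hv : v ≠ 0) : uv v ≠ ⊥ := by
  intro h
  have h1 := card_uv hv
  rw [h, Subgroup.card_bot, Nat.card_eq_fintype_card] at h1
  exact absurd h1 Fintype.one_lt_card.ne

theorem wedge_eq_zero_of_uv_eq {v w : Fin 2 → F} (hv : v ≠ 0) (h : uv v = uv w) :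
    wedge v w = 0 := by
  by_contra hne
  have h1 := uv_inf hne
  rw [← h, inf_idem] at h1
  exact uv_ne_bot hv h1

theorem card_sylows : Nat.card (Sylow p (GL (Fin 2) F)) = Fintype.card F + 1 := by
  have h2 := Projectivization.card_of_finrank_two F (Fin 2 → F) (by simp)
  rw [Nat.card_eq_fintype_card (α := F)] at h2
  rw [← h2]
  let f : ℙ F (Fin 2 → F) → Sylow p (GL (Fin 2) F) := fun x => uvSylow p x.rep x.rep_nonzero
  refine (Nat.card_congr (Equiv.ofBijective f ⟨?_, ?_⟩)).symm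
  · intro x y hxy
    have h : uv x.rep = uv y.rep := congrArg Sylow.toSubgroup hxy
    rw [← x.mk_rep, ← y.mk_rep]
    exact (mk_eq_mk_of_wedge x.rep_nonzero y.rep_nonzero
      (wedge_eq_zero_of_uv_eq x.rep_nonzero h)).symm
  · intro P
    obtain ⟨v, hv, hP⟩ := exists_eq_uv p P
    refine ⟨Projectivization.mk F v hv, Sylow.ext ?_⟩
    obtain ⟨a, ha⟩ := Projectivization.exists_smul_eq_mk_rep F v hv
    change uv _ = _
    rw [hP]
    refine uv_of_proportional hv (Projectivization.rep_nonzero _) ?_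
    rw [← ha]
    simp only [wedge, Pi.smul_apply, Units.smul_def, smul_eq_mul]
    ring

theorem sylow_inf {P Q : Sylow p (GL (Fin 2) F)} (h : P ≠ Q) :
    (P : Subgroup (GL (Fin 2) F)) ⊓ (Q : Subgroup (GL (Fin 2) F)) = ⊥ := by
  obtain ⟨v, hv, hP⟩ := exists_eq_uv p P
  obtain ⟨w, hw, hQ⟩ := exists_eq_uv p Q
  rw [hP, hQ]
  apply uv_inf
  intro h0
  exact h (Sylow.ext (by rw [hP, hQ, uv_of_proportional hv hw h0]))

theorem card_normalizer (P : Sylow p (GL (Fin 2) F)) :
    Nat.card (Subgroup.normalizer ((P : Subgroup (GL (Fin 2) F)) : Set (GL (Fin 2) F)))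
      = Fintype.card F * (Fintype.card F - 1) ^ 2 := by
  have h := Subgroup.card_mul_index
    (Subgroup.normalizer ((P : Subgroup (GL (Fin 2) F)) : Set (GL (Fin 2) F)))
  have hi : (Subgroup.normalizer ((P : Subgroup (GL (Fin 2) F)) : Set (GL (Fin 2) F))).index
      = Fintype.card F + 1 := by
    rw [← card_sylows p]; exact P.card_eq_index_normalizer.symm
  rw [hi, card_GL_field, Fin.prod_univ_two] at h
  apply Nat.eq_of_mul_eq_mul_right (show 0 < Fintype.card F + 1 by omega)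
  rw [h]
  obtain ⟨k, hk⟩ : ∃ k, Fintype.card F = k + 1 :=
    ⟨Fintype.card F - 1, by have := Fintype.one_lt_card (α := F); omega⟩
  rw [hk, Nat.add_sub_cancel]
  have a1 : (k + 1) ^ 2 - (k + 1) ^ ((0 : Fin 2) : ℕ) = k * (k + 2) :=
    Nat.sub_eq_of_eq_add (by simp; ring)
  have a2 : (k + 1) ^ 2 - (k + 1) ^ ((1 : Fin 2) : ℕ) = (k + 1) * k :=
    Nat.sub_eq_of_eq_add (by simp; ring)
  rw [a1, a2]; ring

theorem sl_sylow (P : Sylow p (SpecialLinearGroup (Fin 2) F)) :
    ∃ v : Fin 2 → F, v ≠ 0 ∧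
      ∀ g : SpecialLinearGroup (Fin 2) F, g ∈ P ↔ g • v = v := by
  have hinj := Cfsg.Agent.Linear.toGL_injective (ι := Fin 2) (F := F)
  obtain ⟨Q, hQ⟩ := (P.isPGroup'.map SpecialLinearGroup.toGL).exists_le_sylow
  obtain ⟨v, hv, hQv⟩ := exists_eq_uv p Q
  rw [hQv] at hQ
  have hmap : (P : Subgroup (SpecialLinearGroup (Fin 2) F)).map SpecialLinearGroup.toGL = uv v := by
    refine Subgroup.eq_of_le_of_card_ge hQ ?_
    rw [Subgroup.card_map_of_injective hinj, card_uv hv, Nat.card_eq_fintype_card,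
      P.card_eq_multiplicity, Cfsg.Agent.Linear.factorization_card_SL]
    simp
  refine ⟨v, hv, fun g => ?_⟩
  change g ∈ (P : Subgroup (SpecialLinearGroup (Fin 2) F)) ↔ _
  rw [← Subgroup.mem_map_iff_mem hinj, hmap, mem_uv]
  constructor
  · exact fun h => h.2
  · exact fun h => ⟨g.2, h⟩

theorem sl_sylow_sup {P Q : Sylow p (SpecialLinearGroup (Fin 2) F)} (h : P ≠ Q) :
    (P : Subgroup (SpecialLinearGroup (Fin 2) F)) ⊔ (Q : Subgroup (SpecialLinearGroup (Fin 2) F))
      = ⊤ := by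
  obtain ⟨v, hv, hP⟩ := sl_sylow p P
  obtain ⟨w, hw, hQ⟩ := sl_sylow p Q
  have hne : wedge v w ≠ 0 := by
    intro h0
    obtain ⟨c, rfl⟩ := exists_smul_eq_of_wedge hv h0
    have hc : c ≠ 0 := fun hc => hw (by simp [hc])
    refine h (Sylow.ext (Subgroup.ext fun g => ?_))
    change g ∈ P ↔ g ∈ Q
    rw [hP, hQ, sl_smul_eq g (c • v), Matrix.mulVec_smul, ← sl_smul_eq, smul_right_inj hc]
  obtain ⟨k, rfl, rfl⟩ := exists_gl hne
  set H := (P : Subgroup (SpecialLinearGroup (Fin 2) F)) ⊔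
    (Q : Subgroup (SpecialLinearGroup (Fin 2) F)) with hH
  rw [eq_top_iff]
  intro g _
  suffices hs : ∀ s : SpecialLinearGroup (Fin 2) F, ∀ t : SpecialLinearGroup (Fin 2) F,
      SpecialLinearGroup.toGL t = k * SpecialLinearGroup.toGL s * k⁻¹ → t ∈ H by
    have hd : ((k⁻¹ * SpecialLinearGroup.toGL g * k : GL (Fin 2) F) : Matrix (Fin 2) (Fin 2) F).det
        = 1 := by
      rw [Units.val_mul, Units.val_mul, det_units_conj']
      exact g.2
    refine hs ⟨_, hd⟩ g ?_
    have : SpecialLinearGroup.toGL (⟨_, hd⟩ : SpecialLinearGroup (Fin 2) F)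
        = k⁻¹ * SpecialLinearGroup.toGL g * k := Units.ext rfl
    rw [this]; group
  intro s
  induction s using Cfsg.Agent.Linear.transvection_induction with
  | one =>
    intro t ht
    have : SpecialLinearGroup.toGL t = 1 := by rw [ht]; simp
    rw [Cfsg.Agent.Linear.toGL_injective (this.trans (map_one _).symm)]
    exact one_mem _
  | htr i j hij c =>
    intro t ht
    have hfix : t • (k • (Pi.single i 1 : Fin 2 → F)) = k • (Pi.single i 1 : Fin 2 → F) := by
      have e : SpecialLinearGroup.toGL t • (k • (Pi.single i 1 : Fin 2 → F))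
          = k • (Pi.single i 1 : Fin 2 → F) := by
        rw [ht, mul_smul, mul_smul, inv_smul_smul]
        congr 1
        funext l
        change (SpecialLinearGroup.transvection hij c • (Pi.single i 1 : Fin 2 → F)) l = _
        rw [Cfsg.Agent.Linear.transvection_smul_apply]
        simp [Pi.single_apply, hij.symm]
      exact e
    fin_cases i
    · exact Subgroup.mem_sup_left ((hP t).2 hfix)
    · exact Subgroup.mem_sup_right ((hQ t).2 hfix)
  | hmul a b ha hb =>
    intro t ht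
    have hd : ((k * SpecialLinearGroup.toGL a * k⁻¹ : GL (Fin 2) F) : Matrix (Fin 2) (Fin 2) F).det
        = 1 := by
      rw [Units.val_mul, Units.val_mul, det_units_conj]
      exact a.2
    let ta : SpecialLinearGroup (Fin 2) F := ⟨_, hd⟩
    have hta : SpecialLinearGroup.toGL ta = k * SpecialLinearGroup.toGL a * k⁻¹ := Units.ext rfl
    have htb : SpecialLinearGroup.toGL (ta⁻¹ * t) = k * SpecialLinearGroup.toGL b * k⁻¹ := by
      rw [map_mul, map_inv, hta, ht, map_mul]; group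
    have := mul_mem (ha ta hta) (hb _ htb)
    simpa using this

end sylow

theorem commute_unipotent {b : F} (hb : b ≠ 0) {M : Matrix (Fin 2) (Fin 2) F} :
    M * !![1, b; 0, 1] = !![1, b; 0, 1] * M ↔ M 1 0 = 0 ∧ M 0 0 = M 1 1 := by
  constructor
  · intro h
    have h00 := congrFun (congrFun h 0) 0
    have h01 := congrFun (congrFun h 0) 1
    simp [Matrix.mul_apply, Fin.sum_univ_two] at h00 h01
    have h10 : M 1 0 = 0 := h00.resolve_left hb
    refine ⟨h10, mul_left_cancel₀ hb ?_⟩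
    linear_combination h01
  · rintro ⟨h10, h00⟩
    ext i j
    fin_cases i <;> fin_cases j <;> simp [Matrix.mul_apply, Fin.sum_univ_two, h10, h00] <;> ring

theorem card_centralizer_of_mem_uv [Fintype F] {v : Fin 2 → F} (hv : v ≠ 0) {a : GL (Fin 2) F}
    (ha : a ∈ uv v) (ha1 : a ≠ 1) :
    Nat.card (Subgroup.centralizer ({a} : Set (GL (Fin 2) F)))
      = Fintype.card F * (Fintype.card F - 1) := by
  obtain ⟨k, rfl⟩ := exists_gl_e0 hv
  obtain ⟨a', ha', rfl⟩ : ∃ a', a' ∈ uv (e0 : Fin 2 → F) ∧ k * a' * k⁻¹ = a := by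
    refine ⟨k⁻¹ * a * k, ?_, by group⟩
    rw [← conj_mem_uv_iff (k := k)]
    simpa [mul_assoc] using ha
  have hconj : Nat.card (Subgroup.centralizer ({k * a' * k⁻¹} : Set (GL (Fin 2) F)))
      = Nat.card (Subgroup.centralizer ({a'} : Set (GL (Fin 2) F))) := by
    have : Subgroup.centralizer ({k * a' * k⁻¹} : Set (GL (Fin 2) F)) =
        (Subgroup.centralizer ({a'} : Set (GL (Fin 2) F))).map (MulAut.conj k).toMonoidHom := by
      ext g
      rw [Subgroup.mem_map_equiv, Subgroup.mem_centralizer_singleton_iff,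
        Subgroup.mem_centralizer_singleton_iff, MulAut.conj_symm_apply]
      constructor
      · intro h
        calc k⁻¹ * g * k * a' = k⁻¹ * (g * (k * a' * k⁻¹)) * k := by group
          _ = a' * (k⁻¹ * g * k) := by rw [h]; group
      · intro h
        calc g * (k * a' * k⁻¹) = k * (k⁻¹ * g * k * a') * k⁻¹ := by group
          _ = k * a' * k⁻¹ * g := by rw [h]; group
    rw [this, Subgroup.card_map_of_injective (MulAut.conj k).injective]
  rw [hconj]
  rw [uv_e0] at ha'
  set b := (a' : Matrix (Fin 2) (Fin 2) F) 0 1 with hbdef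
  have hmat : (a' : Matrix (Fin 2) (Fin 2) F) = !![1, b; 0, 1] := by
    ext i j
    fin_cases i <;> fin_cases j
    · exact ha'.2 0
    · rfl
    · exact ha'.1 (show (0 : Fin 2) < 1 by decide)
    · exact ha'.2 1
  have hb : b ≠ 0 := by
    intro hb
    apply ha1
    have : a' = 1 := Units.ext (by rw [hmat, hb, Units.val_one, Matrix.one_fin_two])
    rw [this, mul_one, mul_inv_cancel]
  have hiff : ∀ g : GL (Fin 2) F, g ∈ Subgroup.centralizer ({a'} : Set (GL (Fin 2) F)) ↔
      (g : Matrix (Fin 2) (Fin 2) F) 1 0 = 0 ∧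
      (g : Matrix (Fin 2) (Fin 2) F) 0 0 = (g : Matrix (Fin 2) (Fin 2) F) 1 1 := by
    intro g
    rw [Subgroup.mem_centralizer_singleton_iff, ← Units.val_inj, Units.val_mul, Units.val_mul,
      hmat, commute_unipotent hb]
  have hne : ∀ g : Subgroup.centralizer ({a'} : Set (GL (Fin 2) F)),
      (g.1 : Matrix (Fin 2) (Fin 2) F) 0 0 ≠ 0 := by
    intro g h0
    obtain ⟨h10, h11⟩ := (hiff g.1).1 g.2
    have hd := g.1.isUnit.map (Matrix.detMonoidHom)
    simp [Matrix.det_fin_two, h0, h10] at hd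
  have hd : ∀ (x : Fˣ) (y : F), IsUnit (Matrix.det !![(x : F), y; 0, x]) := by
    intro x y; simp [Matrix.det_fin_two_of]
  let e : Subgroup.centralizer ({a'} : Set (GL (Fin 2) F)) ≃ Fˣ × F :=
    { toFun := fun g => (Units.mk0 _ (hne g), (g.1 : Matrix (Fin 2) (Fin 2) F) 0 1)
      invFun := fun xy => ⟨Cfsg.Agent.Linear.glOfDet _ (hd xy.1 xy.2), (hiff _).2 (by simp)⟩
      left_inv := fun g => by
        obtain ⟨h10, h11⟩ := (hiff g.1).1 g.2
        refine Subtype.ext (Units.ext (Matrix.ext fun i j => ?_))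
        fin_cases i <;> fin_cases j <;> simp [h10, h11]
      right_inv := fun xy => by
        refine Prod.ext (Units.ext ?_) ?_ <;> simp }
  rw [Nat.card_congr e, Nat.card_prod, Cfsg.Agent.Linear.card_units', Nat.card_eq_fintype_card,
    mul_comm]

theorem exists_lin_comb_of_commute {z g : Matrix (Fin 2) (Fin 2) F} (h : g * z = z * g)
    (hz : ¬ (z 0 1 = 0 ∧ z 1 0 = 0 ∧ z 0 0 = z 1 1)) :
    ∃ x y : F, g = x • (1 : Matrix (Fin 2) (Fin 2) F) + y • z := by
  have h00 := congrFun (congrFun h 0) 0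
  have h01 := congrFun (congrFun h 0) 1
  have h10 := congrFun (congrFun h 1) 0
  simp [Matrix.mul_apply, Fin.sum_univ_two] at h00 h01 h10
  by_cases hb : z 0 1 = 0
  · by_cases hc : z 1 0 = 0
    · have hd : z 0 0 - z 1 1 ≠ 0 := fun hd => hz ⟨hb, hc, sub_eq_zero.1 hd⟩
      refine ⟨g 0 0 - (g 0 0 - g 1 1) / (z 0 0 - z 1 1) * z 0 0,
        (g 0 0 - g 1 1) / (z 0 0 - z 1 1), ?_⟩
      have hg01 : g 0 1 = 0 := (mul_eq_zero.1 (show g 0 1 * (z 0 0 - z 1 1) = 0 by
        rw [hb] at h01; linear_combination -h01)).resolve_right hd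
      have hg10 : g 1 0 = 0 := (mul_eq_zero.1 (show g 1 0 * (z 0 0 - z 1 1) = 0 by
        rw [hc] at h10; linear_combination h10)).resolve_right hd
      ext i j
      fin_cases i <;> fin_cases j <;> simp [hb, hc, hg01, hg10] <;> field_simp <;> ring
    · refine ⟨g 0 0 - g 1 0 / z 1 0 * z 0 0, g 1 0 / z 1 0, ?_⟩
      ext i j
      fin_cases i <;> fin_cases j <;> simp [hb]
      · exact (mul_eq_zero.1 (show g 0 1 * (z 1 0) = 0 by
          rw [hb] at h00; linear_combination h00)).resolve_right hc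
      · field_simp
      · field_simp
        linear_combination h10
  · refine ⟨g 0 0 - g 0 1 / z 0 1 * z 0 0, g 0 1 / z 0 1, ?_⟩
    ext i j
    fin_cases i <;> fin_cases j <;> simp
    · field_simp
    · field_simp
      linear_combination -h00
    · field_simp
      linear_combination -h01

end Cfsg.Agent.H27.GLTwo
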