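import Cfsg.Agent.H27.LowRank
import Cfsg.Agent.Orthogonal.Spinor
import Cfsg.Agent.Orthogonal.Dickson
import Cfsg.Agent.Orthogonal.Generation
import Cfsg.Agent.Orthogonal.StdForms

/-! The Klein correspondence: `SL₄` acting on alternating 4 × 4 matrices. -/

set_option autoImplicit false

namespace Cfsg.Agent.H27.KleinCorr

open Matrix Cfsg.Agent.H27.LowRank

theorem center_eq_bot {P : Type*} [Group P] [IsSimpleGroup P] (h : commutator P = ⊤) :
    Subgroup.center P = ⊥ := by
  refine (Subgroup.Normal.eq_bot_or_eq_top Subgroup.instNormalCenter).resolve_right fun hc => ?_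
  have h0 : commutator P = ⊥ := by
    rw [commutator_def, Subgroup.commutator_eq_bot_iff_le_centralizer, ← hc]
    exact fun x hx => Subgroup.mem_centralizer_iff.2 fun y _ => Subgroup.mem_center_iff.1 hx y
  exact bot_ne_top (α := Subgroup P) (h0.symm.trans h)

theorem commutator_quotient {G : Type*} [Group G] (h : commutator G = ⊤) (N : Subgroup G) [N.Normal] :
    commutator (G ⧸ N) = ⊤ := by
  rw [commutator_def, ← MonoidHom.range_eq_top.2 (QuotientGroup.mk'_surjective N),
    MonoidHom.range_eq_map, ← Subgroup.map_commutator, ← commutator_def, h]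

/-- A perfect group of half the order mapping onto a subgroup of small enough index gives `PΩ`. -/
theorem pomega_of_perfect {ι : Type} [Fintype ι] [DecidableEq ι] {F : Type*} [Field F] [Fintype F]
    {Q : QuadraticForm F (ι → F)} (hQ : Orthogonal.Nondeg Q) (hn : 2 ≤ Module.finrank F (ι → F))
    (hgen : Nat.card F ≠ 2 ∨ Module.finrank F (ι → F) ≠ 4)
    {G : Type*} [Group G] [Finite G] (φ : G →* Cfsg.isometryGroup F ⇑Q) (hG : commutator G = ⊤)
    (hP : IsSimpleGroup (G ⧸ Subgroup.center G)) (hker : φ.ker ≤ Subgroup.center G)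
    (h2 : Nat.card φ.ker ≤ 2) (h1 : (2 : F) = 0 → Nat.card φ.ker ≤ 1)
    (hcard : Nat.card (Cfsg.isometryGroup F ⇑Q) = 2 * Nat.card G) :
    Nonempty (Cfsg.POmega F ⇑Q ≃* G ⧸ Subgroup.center G) := by
  have hsub : φ.range ≤ Cfsg.Omega F ⇑Q := by
    rw [MonoidHom.range_eq_map, ← hG, commutator_def, Subgroup.map_commutator]
    exact Subgroup.commutator_mono le_top le_top
  have hidx : 2 * Nat.card φ.ker ≤ (Cfsg.Omega F ⇑Q).index := by
    rw [Orthogonal.omega_index]
    by_cases hc : (2 : F) = 0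
    · rw [Orthogonal.index_commutator_eq_two hQ (Orthogonal.reflGroup_eq_top hQ hgen) hc hn]
      have := h1 hc
      omega
    · rw [Orthogonal.index_commutator_eq_four hQ hc hn]
      omega
  have hle : Nat.card (Cfsg.Omega F ⇑Q) ≤ Nat.card φ.range := by
    have e1 := (Cfsg.Omega F ⇑Q).card_mul_index
    have e2 := φ.ker.card_mul_index
    rw [Subgroup.index_ker] at e2
    have hk : 0 < Nat.card φ.ker := Nat.card_pos
    refine Nat.le_of_mul_le_mul_right (c := 2 * Nat.card φ.ker) ?_ (by omega)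
    calc Nat.card (Cfsg.Omega F ⇑Q) * (2 * Nat.card φ.ker)
        ≤ Nat.card (Cfsg.Omega F ⇑Q) * (Cfsg.Omega F ⇑Q).index := Nat.mul_le_mul_left _ hidx
      _ = 2 * (Nat.card φ.ker * Nat.card φ.range) := by rw [e1, hcard, e2]
      _ = Nat.card φ.range * (2 * Nat.card φ.ker) := by ring
  have heq : φ.range = Cfsg.Omega F ⇑Q := Subgroup.eq_of_le_of_card_ge hsub hle
  let φ' : G →* Cfsg.Omega F ⇑Q := φ.codRestrict _ fun g => heq ▸ MonoidHom.mem_range.2 ⟨g, rfl⟩
  have hφ' : Function.Surjective φ' := fun x => by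
    obtain ⟨g, hg⟩ := MonoidHom.mem_range.1
      (heq.symm ▸ x.2 : (x : Cfsg.isometryGroup F ⇑Q) ∈ φ.range)
    exact ⟨g, Subtype.ext hg⟩
  refine quot_center_equiv φ' (QuotientGroup.mk' _) hφ' (QuotientGroup.mk'_surjective _) ?_
    (le_of_eq (QuotientGroup.ker_mk' _)) (center_eq_bot (commutator_quotient hG _))
  rw [QuotientGroup.ker_mk']
  intro g hg
  exact hker (MonoidHom.mem_ker.2 (congrArg Subtype.val (MonoidHom.mem_ker.1 hg)))

section model

variable {R : Type*} [CommRing R]

local notation "V6" => (Fin 3 ⊕ Fin 3 → R)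
local notation "M4" => Matrix (Fin 4) (Fin 4) R

/-- Plücker coordinates as an alternating matrix. -/
def alt : V6 →ₗ[R] M4 where
  toFun v := !![0, v (.inl 0), v (.inl 1), v (.inl 2);
    -v (.inl 0), 0, v (.inr 2), -v (.inr 1);
    -v (.inl 1), -v (.inr 2), 0, v (.inr 0);
    -v (.inl 2), v (.inr 1), -v (.inr 0), 0]
  map_add' u v := by ext i j; fin_cases i <;> fin_cases j <;> simp <;> ring
  map_smul' c v := by ext i j; fin_cases i <;> fin_cases j <;> simp

/-- The coordinates of a matrix. -/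
def co : M4 →ₗ[R] V6 where
  toFun M := Sum.elim ![M 0 1, M 0 2, M 0 3] ![M 2 3, -M 1 3, M 1 2]
  map_add' u v := by funext k; rcases k with k | k <;> fin_cases k <;> simp <;> ring
  map_smul' c v := by funext k; rcases k with k | k <;> fin_cases k <;> simp

theorem co_alt (v : V6) : co (alt v) = v := by
  funext k
  rcases k with k | k <;> fin_cases k <;> simp [co, alt]

set_option maxHeartbeats 1600000 in
theorem alt_co (A : M4) (v : V6) : alt (co (A * alt v * Aᵀ)) = A * alt v * Aᵀ := by
  ext i j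
  fin_cases i <;> fin_cases j <;>
    simp [co, alt, Matrix.mul_apply, Fin.sum_univ_four] <;> ring

/-- The exterior square. -/
def klein : M4 →* Module.End R V6 where
  toFun A :=
    { toFun := fun v => co (A * alt v * Aᵀ)
      map_add' := fun u v => by rw [map_add, Matrix.mul_add, Matrix.add_mul, map_add]
      map_smul' := fun c v => by
        rw [map_smul, Matrix.mul_smul, Matrix.smul_mul, map_smul, RingHom.id_apply] }
  map_one' := LinearMap.ext fun v => by simp [co_alt]
  map_mul' A B := LinearMap.ext fun v => by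
    change co (A * B * alt v * (A * B)ᵀ) = co (A * alt (co (B * alt v * Bᵀ)) * Aᵀ)
    rw [alt_co, Matrix.transpose_mul]
    simp only [Matrix.mul_assoc]

theorem klein_apply (A : M4) (v : V6) : klein A v = co (A * alt v * Aᵀ) := rfl

/-- The form `Σ xᵢyᵢ`, the Pfaffian. -/
def pf (v : V6) : R := v (.inl 0) * v (.inr 0) + v (.inl 1) * v (.inr 1) + v (.inl 2) * v (.inr 2)

theorem pf_klein (A : M4) (v : V6) : pf (klein A v) = A.det * pf v := by
  simp [klein_apply, pf, co, alt, Matrix.mul_apply, Fin.sum_univ_four, Matrix.det_succ_row_zero,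
    Fin.sum_univ_succ, Fin.succAbove]
  ring

/-- The duality swapping the two halves. -/
def dual : V6 →ₗ[R] V6 := LinearMap.funLeft R R Sum.swap

theorem dual_inl (v : V6) (i : Fin 3) : dual v (.inl i) = v (.inr i) := rfl
theorem dual_inr (v : V6) (i : Fin 3) : dual v (.inr i) = v (.inl i) := rfl
theorem dual_dual (v : V6) : dual (dual v) = v := by funext k; rcases k with k | k <;> rfl

set_option maxHeartbeats 8000000 in
theorem transpose_dual (A : M4) (v : V6) :
    Aᵀ * alt (dual (klein A v)) * A = A.det • alt (dual v) := by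
  ext i j
  fin_cases i <;> fin_cases j <;>
    simp [klein_apply, dual_inl, dual_inr, co, alt, Matrix.mul_apply, Fin.sum_univ_four,
      Matrix.det_succ_row_zero, Fin.sum_univ_succ, Fin.succAbove] <;> ring

theorem klein_map {S : Type*} [CommRing S] (f : R →+* S) (A : M4) (v : V6) :
    klein (A.map f) (f ∘ v) = f ∘ klein A v := by
  funext k
  rcases k with k | k <;> fin_cases k <;>
    simp [klein_apply, co, alt, Matrix.mul_apply, Fin.sum_univ_four]

theorem dual_klein (A : SpecialLinearGroup (Fin 4) R) (v : V6) :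
    dual (klein (A : M4) v) = klein ((A⁻¹ : SpecialLinearGroup (Fin 4) R) : M4)ᵀ (dual v) := by
  have h := transpose_dual (A : M4) v
  rw [A.2, one_smul] at h
  have hi : (A : M4) * ((A⁻¹ : SpecialLinearGroup (Fin 4) R) : M4) = 1 :=
    congrArg Subtype.val (mul_inv_cancel A)
  rw [klein_apply _ (dual v), Matrix.transpose_transpose, ← h, ← Matrix.mul_assoc, ← Matrix.mul_assoc,
    ← Matrix.transpose_mul, hi, Matrix.transpose_one, Matrix.one_mul, Matrix.mul_assoc, hi,
    Matrix.mul_one, co_alt]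

theorem scalar_of_klein_eq_one [IsDomain R] {A : SpecialLinearGroup (Fin 4) R}
    (h : ∀ v, klein (A : M4) v = v) : ∃ c : R, c * c = 1 ∧ (A : M4) = c • (1 : M4) := by
  have hi : (A : M4) * ((A⁻¹ : SpecialLinearGroup (Fin 4) R) : M4) = 1 :=
    congrArg Subtype.val (mul_inv_cancel A)
  have hit : (A : M4)ᵀ * ((A⁻¹ : SpecialLinearGroup (Fin 4) R) : M4)ᵀ = 1 := by
    rw [← Matrix.transpose_mul, show ((A⁻¹ : SpecialLinearGroup (Fin 4) R) : M4) * (A : M4) = 1 from
      congrArg Subtype.val (inv_mul_cancel A), Matrix.transpose_one]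
  generalize ((A⁻¹ : SpecialLinearGroup (Fin 4) R) : M4)ᵀ = B at hit
  have key : ∀ v, (A : M4) * alt v = alt v * B := by
    intro v
    have hv := congrArg alt (h v)
    rw [klein_apply, alt_co] at hv
    calc (A : M4) * alt v = (A : M4) * alt v * ((A : M4)ᵀ * B) := by rw [hit, Matrix.mul_one]
      _ = (A : M4) * alt v * (A : M4)ᵀ * B := by simp only [Matrix.mul_assoc]
      _ = alt v * B := by rw [hv]
  have e := fun v i j => congrFun (congrFun (key v) i) j
  have p01 := e (Sum.elim ![1, 0, 0] ![0, 0, 0])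
  have p02 := e (Sum.elim ![0, 1, 0] ![0, 0, 0])
  have p03 := e (Sum.elim ![0, 0, 1] ![0, 0, 0])
  have p23 := e (Sum.elim ![0, 0, 0] ![1, 0, 0])
  have p13 := e (Sum.elim ![0, 0, 0] ![0, 1, 0])
  have p12 := e (Sum.elim ![0, 0, 0] ![0, 0, 1])
  simp [alt, Matrix.mul_apply, Fin.sum_univ_four, Fin.forall_fin_succ] at p01 p02 p03 p23 p13 p12
  obtain ⟨a, ha⟩ : ∃ a, a = (A : M4) 0 0 := ⟨_, rfl⟩
  have hA : (A : M4) = a • (1 : M4) := by
    ext i j
    fin_cases i <;> fin_cases j <;> simp [ha] <;> grind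
  refine ⟨a, ?_, hA⟩
  have hB : B 0 0 = a := by simp [ha]; grind
  have := congrFun (congrFun hit 0) 0
  rw [hA] at this
  simpa [Matrix.mul_apply, Fin.sum_univ_four, hB] using this

end model

variable {F : Type*} [Field F]

theorem pf_eq_quadFormPlus (v : Fin 3 ⊕ Fin 3 → F) : pf v = Cfsg.quadFormPlus 3 F v := by
  simp [pf, Cfsg.quadFormPlus, Fin.sum_univ_three]

theorem card_le_of_scalar [Finite F] {n : ℕ} [NeZero n] {G : Type*} [Group G] (N : Subgroup G)
    (m : G → Matrix (Fin n) (Fin n) F) (hm : Function.Injective m)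
    (h : ∀ g ∈ N, ∃ c : F, c * c = 1 ∧ m g = c • (1 : Matrix (Fin n) (Fin n) F)) :
    Nat.card N ≤ 2 ∧ ((2 : F) = 0 → Nat.card N ≤ 1) := by
  classical
  have : Finite G := Finite.of_injective m hm
  have key : ∀ g ∈ N, (m g 0 0 = 1 ∨ m g 0 0 = -1) ∧ m g = m g 0 0 • (1 : Matrix (Fin n) (Fin n) F) := by
    intro g hg
    obtain ⟨c, hc, e⟩ := h g hg
    have hc0 : m g 0 0 = c := by simp [e]
    exact ⟨hc0 ▸ mul_self_eq_one_iff.1 hc, by rw [hc0]; exact e⟩
  have hinj : ∀ g : N, ∀ g' : N, m g 0 0 = m g' 0 0 → g = g' := fun g g' e => by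
    refine Subtype.ext (hm ?_)
    rw [(key g g.2).2, (key g' g'.2).2, e]
  refine ⟨?_, fun h2 => Finite.card_le_one_iff_subsingleton.2 ⟨fun g g' => hinj g g' ?_⟩⟩
  · refine le_trans (Nat.card_le_card_of_injective
      (fun g : N => decide (m g 0 0 = 1)) fun g g' e => hinj g g' ?_) (by simp)
    simp only [decide_eq_decide] at e
    rcases (key g g.2).1 with a | a <;> rcases (key g' g'.2).1 with b | b <;> grind
  · have : (-1 : F) = 1 := by linear_combination -h2
    rcases (key g g.2).1 with a | a <;> rcases (key g' g'.2).1 with b | b <;> simp [a, b, this]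

theorem scalar_mem_center {n : ℕ} {A : SpecialLinearGroup (Fin n) F} {c : F}
    (h : (A : Matrix (Fin n) (Fin n) F) = c • 1) : A ∈ Subgroup.center (SpecialLinearGroup (Fin n) F) :=
  Subgroup.mem_center_iff.2 fun B => Subtype.ext (by
    change (B : Matrix (Fin n) (Fin n) F) * A = (A : Matrix (Fin n) (Fin n) F) * B
    rw [h]; simp)

end Cfsg.Agent.H27.KleinCorr
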