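import Cfsg.Prelude.Def_Classical
import Cfsg.Agent.Linear.Simple
import Cfsg.Agent.Linear.TwoSL
import Cfsg.Agent.H27.ProjLine

/-! Tools for the exceptional isomorphisms of orthogonal groups of small rank. -/

set_option autoImplicit false

namespace Cfsg.Agent.H27.LowRank

open Matrix

/-- If `G → H` is onto with kernel inside that of `π : G → P`, the latter central and `Z(P) = 1`,
then `H / Z(H) ≅ P`. -/
theorem quot_center_equiv {G H P : Type*} [Group G] [Group H] [Group P] (φ : G →* H) (π : G →* P)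
    (hφ : Function.Surjective φ) (hπ : Function.Surjective π) (hker : φ.ker ≤ π.ker)
    (hcen : π.ker ≤ Subgroup.center G) (hP : Subgroup.center P = ⊥) :
    Nonempty (H ⧸ Subgroup.center H ≃* P) := by
  let ψ : H →* P := φ.liftOfSurjective hφ ⟨π, hker⟩
  have hψ : ∀ g, ψ (φ g) = π g :=
    MonoidHom.liftOfRightInverse_comp_apply φ _ (Function.rightInverse_surjInv hφ) ⟨π, hker⟩
  have hsurj : Function.Surjective ψ := fun p => by
    obtain ⟨g, rfl⟩ := hπ p
    exact ⟨φ g, hψ g⟩
  have hk : ψ.ker = Subgroup.center H := by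
    ext h
    obtain ⟨g, rfl⟩ := hφ h
    rw [MonoidHom.mem_ker, hψ]
    constructor
    · intro hg
      have hc := Subgroup.mem_center_iff.1 (hcen (MonoidHom.mem_ker.2 hg))
      refine Subgroup.mem_center_iff.2 fun y => ?_
      obtain ⟨y, rfl⟩ := hφ y
      rw [← map_mul, ← map_mul, hc y]
    · intro hc
      have : π g ∈ Subgroup.center P := Subgroup.mem_center_iff.2 fun y => by
        obtain ⟨y, rfl⟩ := hπ y
        rw [← hψ, ← hψ, ← map_mul ψ, ← map_mul ψ, Subgroup.mem_center_iff.1 hc (φ y)]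
      rwa [hP, Subgroup.mem_bot] at this
  exact ⟨(QuotientGroup.quotientMulEquivOfEq hk.symm).trans
    (QuotientGroup.quotientKerEquivOfSurjective ψ hsurj)⟩

theorem center_psl_two {F : Type*} [Field F] [Fintype F] (hF : 3 ≤ Fintype.card F) :
    Subgroup.center (ProjectiveSpecialLinearGroup (Fin 2) F) = ⊥ := by
  rcases Nat.lt_or_ge (Fintype.card F) 4 with h3 | h4
  · obtain ⟨e⟩ := Cfsg.Agent.H27.ProjLine.psl_two_equiv_alternating (F := F) (n := 4) (by omega) (by
      have := Cfsg.Agent.Linear.card_PSL_two_mul (F := F)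
      rw [show Fintype.card F = 3 by omega] at this
      norm_num at this
      rw [show (4 : ℕ).factorial = 24 from rfl]
      omega)
    have h : ∀ z : alternatingGroup (Fin 4), (∀ g, g * z = z * g) → z = 1 := by decide +kernel
    rw [eq_bot_iff]
    intro z hz
    apply e.injective
    rw [map_one]
    refine h _ fun g => ?_
    obtain ⟨g, rfl⟩ := e.surjective g
    rw [← map_mul, ← map_mul, Subgroup.mem_center_iff.1 hz g]
  · have : IsSimpleGroup (ProjectiveSpecialLinearGroup (Fin 2) F) :=
      Matrix.ProjectiveSpecialLinearGroup.rank_two_simple (by rwa [Nat.card_eq_fintype_card])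
    refine (Subgroup.Normal.eq_bot_or_eq_top Subgroup.instNormalCenter).resolve_right fun h => ?_
    obtain ⟨a, b, hab⟩ := Cfsg.Agent.Linear.exists_not_commute_PSL (ι := Fin 2) (F := F)
      (Or.inr (Cfsg.Agent.Linear.exists_sq_ne_one_of_card (by rwa [Nat.card_eq_fintype_card])))
    exact hab (Subgroup.mem_center_iff.1 (h ▸ Subgroup.mem_top b) a)

theorem commutator_le_of_index_le_four {H : Type*} [Group H] [Finite H] (N : Subgroup H) [N.Normal]
    (h : N.index ≤ 4) : commutator H ≤ N := by
  rw [← QuotientGroup.ker_mk' N]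
  have hc : ∀ a b : H ⧸ N, a * b = b * a := by
    have hpos : 0 < Nat.card (H ⧸ N) := Nat.card_pos
    have hle : Nat.card (H ⧸ N) ≤ 4 := h
    rcases Nat.lt_or_ge (Nat.card (H ⧸ N)) 2 with h1 | h1
    · have : Subsingleton (H ⧸ N) := (Nat.card_eq_one_iff_unique.1 (by omega)).1
      exact fun a b => Subsingleton.elim _ _
    interval_cases hh : Nat.card (H ⧸ N)
    · have : IsCyclic (H ⧸ N) := @isCyclic_of_prime_card _ _ 2 ⟨Nat.prime_two⟩ hh
      let := IsCyclic.commGroup (α := H ⧸ N)
      exact mul_comm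
    · have : IsCyclic (H ⧸ N) := @isCyclic_of_prime_card _ _ 3 ⟨Nat.prime_three⟩ hh
      let := IsCyclic.commGroup (α := H ⧸ N)
      exact mul_comm
    · have : Fact (Nat.Prime 2) := ⟨Nat.prime_two⟩
      have hc := IsPGroup.isMulCommutative_of_card_eq_prime_sq (p := 2) (G := H ⧸ N) (by omega)
      exact hc.is_comm.comm
  rw [commutator_def, Subgroup.commutator_le]
  intro a _ b _
  rw [MonoidHom.mem_ker, map_commutatorElement, commutatorElement_def, hc (QuotientGroup.mk' N a)]
  group

theorem mem_normalizer_of_conj {H : Type*} [Group H] [Finite H] {N : Subgroup H} {a : H}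
    (h : ∀ x ∈ N, a * x * a⁻¹ ∈ N) : a ∈ Subgroup.normalizer (N : Set H) := by
  have hle : N.map (MulAut.conj a).toMonoidHom ≤ N := by
    rintro y ⟨x, hx, rfl⟩
    simpa using h x hx
  have heq := Subgroup.eq_of_le_of_card_ge hle
    (by rw [Subgroup.card_map_of_injective (MulAut.conj a).injective])
  rw [Subgroup.mem_normalizer_iff]
  intro x
  refine ⟨fun hx => h x hx, fun hx => ?_⟩
  rw [← heq] at hx
  obtain ⟨y, hy, he⟩ := hx
  have : y = x := (MulAut.conj a).injective (by simpa using he)
  exact this ▸ hy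

/-- A subgroup of index at most 4 normalised by two elements in distinct non-trivial cosets is normal. -/
theorem normal_of_two_outside {H : Type*} [Group H] [Finite H] {N : Subgroup H} (hi : N.index ≤ 4)
    {a b : H} (ha : ∀ x ∈ N, a * x * a⁻¹ ∈ N) (hb : ∀ x ∈ N, b * x * b⁻¹ ∈ N)
    (ha' : a ∉ N) (hb' : b ∉ N) (hab : a⁻¹ * b ∉ N) : N.Normal := by
  classical
  set M := Subgroup.normalizer (N : Set H) with hM
  have haM : a ∈ M := mem_normalizer_of_conj ha
  have hbM : b ∈ M := mem_normalizer_of_conj hb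
  have hNM : N ≤ M := Subgroup.le_normalizer
  have h3 : 3 ≤ N.relIndex M := by
    let f : Fin 3 → M ⧸ N.subgroupOf M :=
      ![QuotientGroup.mk 1, QuotientGroup.mk ⟨a, haM⟩, QuotientGroup.mk ⟨b, hbM⟩]
    have hf : Function.Injective f := by
      intro i j hij
      fin_cases i <;> fin_cases j <;> simp only [f] at hij <;> first
        | rfl
        | (exfalso
           have h0 := QuotientGroup.eq.1 hij
           simp [Subgroup.mem_subgroupOf] at h0
           first
             | exact ha' h0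
             | exact hb' h0
             | exact hab h0
             | exact hab (by simpa using inv_mem h0))
    have := Nat.card_le_card_of_injective f hf
    rw [Nat.card_eq_fintype_card (α := Fin 3), Fintype.card_fin] at this
    exact this
  have h := Subgroup.relIndex_mul_index hNM
  have hM1 : M.index = 1 := by
    have hpos : 0 < M.index := Nat.pos_of_ne_zero Subgroup.index_ne_zero_of_finite
    by_contra hne
    have : 3 * 2 ≤ N.relIndex M * M.index := Nat.mul_le_mul h3 (by omega)
    omega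
  exact Subgroup.normalizer_eq_top_iff.1 (Subgroup.index_eq_one.1 hM1)

variable {ι : Type} [Fintype ι] [DecidableEq ι] {F : Type*} [Field F] {Q : (ι → F) → F}

/-- A homomorphism into an isometry group from a linear action preserving the form. -/
noncomputable def isoHom {G : Type*} [Group G] (ρ : G →* Module.End F (ι → F))
    (h : ∀ g v, Q (ρ g v) = Q v) : G →* Cfsg.isometryGroup F Q :=
  MonoidHom.codRestrict
    (MonoidHom.toHomUnits
      { toFun := fun g => LinearMap.toMatrix' (ρ g)
        map_one' := by rw [map_one, Module.End.one_eq_id, LinearMap.toMatrix'_id]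
        map_mul' := fun a b => by rw [map_mul, Module.End.mul_eq_comp, LinearMap.toMatrix'_comp] })
    _ (fun g v _ => by
      change Q (LinearMap.toMatrix' (ρ g) *ᵥ v) = Q v
      rw [LinearMap.toMatrix'_mulVec, h])

theorem isoHom_mulVec {G : Type*} [Group G] (ρ : G →* Module.End F (ι → F))
    (h : ∀ g v, Q (ρ g v) = Q v) (g : G) (v : ι → F) :
    ((isoHom ρ h g).1 : Matrix ι ι F) *ᵥ v = ρ g v := by
  change LinearMap.toMatrix' (ρ g) *ᵥ v = _
  rw [LinearMap.toMatrix'_mulVec]

theorem iso_ext {a b : Cfsg.isometryGroup F Q}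
    (h : ∀ v, (a.1 : Matrix ι ι F) *ᵥ v = (b.1 : Matrix ι ι F) *ᵥ v) : a = b :=
  Subtype.ext (Units.ext (Matrix.ext_iff_mulVec.2 h))

theorem iso_mul_mulVec (a b : Cfsg.isometryGroup F Q) (v : ι → F) :
    (((a * b : Cfsg.isometryGroup F Q)).1 : Matrix ι ι F) *ᵥ v
      = (a.1 : Matrix ι ι F) *ᵥ ((b.1 : Matrix ι ι F) *ᵥ v) := by
  rw [Subgroup.coe_mul, Units.val_mul, Matrix.mulVec_mulVec]

/-- An isometry given by a linear involution. -/
noncomputable def isoInv (f : (ι → F) →ₗ[F] (ι → F)) (h2 : ∀ v, f (f v) = v)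
    (hQ : ∀ v, Q (f v) = Q v) : Cfsg.isometryGroup F Q :=
  ⟨⟨LinearMap.toMatrix' f, LinearMap.toMatrix' f,
      by rw [← LinearMap.toMatrix'_comp, show f.comp f = LinearMap.id from LinearMap.ext h2, LinearMap.toMatrix'_id],
      by rw [← LinearMap.toMatrix'_comp, show f.comp f = LinearMap.id from LinearMap.ext h2, LinearMap.toMatrix'_id]⟩,
    fun v _ => by
      change Q (LinearMap.toMatrix' f *ᵥ v) = Q v
      rw [LinearMap.toMatrix'_mulVec, hQ]⟩

theorem isoInv_mulVec (f : (ι → F) →ₗ[F] (ι → F)) (h2 : ∀ v, f (f v) = v)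
    (hQ : ∀ v, Q (f v) = Q v) (v : ι → F) :
    ((isoInv f h2 hQ).1 : Matrix ι ι F) *ᵥ v = f v := by
  change LinearMap.toMatrix' f *ᵥ v = _
  rw [LinearMap.toMatrix'_mulVec]

theorem finite_isometryGroup [Finite F] : Finite (Cfsg.isometryGroup F Q) := inferInstance

/-- If the image of `φ` is normal of index at most 4 and inside the commutator, it is `Ω`. -/
theorem pomega_equiv [Finite F] {G P : Type*} [Group G] [Group P]
    (φ : G →* Cfsg.isometryGroup F Q) (π : G →* P) [φ.range.Normal] (hi : φ.range.index ≤ 4)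
    (hsub : φ.range ≤ commutator (Cfsg.isometryGroup F Q)) (hπ : Function.Surjective π)
    (hker : φ.ker ≤ π.ker) (hcen : π.ker ≤ Subgroup.center G) (hP : Subgroup.center P = ⊥) :
    Nonempty (Cfsg.POmega F Q ≃* P) := by
  have heq : φ.range = Cfsg.Omega F Q := le_antisymm hsub (commutator_le_of_index_le_four _ hi)
  let φ' : G →* Cfsg.Omega F Q :=
    φ.codRestrict _ fun g => heq ▸ MonoidHom.mem_range.2 ⟨g, rfl⟩
  have hφ' : Function.Surjective φ' := fun x => by
    obtain ⟨g, hg⟩ := MonoidHom.mem_range.1 (heq.symm ▸ x.2 : (x : Cfsg.isometryGroup F Q) ∈ φ.range)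
    exact ⟨g, Subtype.ext hg⟩
  refine quot_center_equiv φ' π hφ' hπ ?_ hcen hP
  intro g hg
  exact hker (MonoidHom.mem_ker.2 (congrArg Subtype.val (MonoidHom.mem_ker.1 hg)))

theorem index_range_le {G : Type*} [Group G] [Finite F] (φ : G →* Cfsg.isometryGroup F Q)
    {a k : ℕ} (hG : Nat.card G = a) (ha : 0 < a) (hk : Nat.card φ.ker * 2 ≤ k)
    (hH : Nat.card (Cfsg.isometryGroup F Q) = 2 * a) : φ.range.index ≤ k := by
  have h1 := φ.range.card_mul_index
  rw [hH] at h1
  have h2 := φ.ker.card_mul_index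
  rw [Subgroup.index_ker, hG] at h2
  refine le_trans (le_of_eq ?_) hk
  apply Nat.eq_of_mul_eq_mul_left (n := Nat.card φ.range)
    (Nat.pos_of_ne_zero fun h => by rw [h, mul_zero] at h2; omega)
  rw [h1, ← h2]; ring

theorem exists_nonsquare_unit [Fintype F] (h2 : (2 : F) ≠ 0) : ∃ δ : Fˣ, ¬ IsSquare (δ : F) := by
  obtain ⟨d, hd⟩ := FiniteField.exists_nonsquare (F := F) (fun hc => h2 (by
    have := ringChar.charP F
    rw [hc] at this
    exact CharTwo.two_eq_zero))
  exact ⟨Units.mk0 d (fun h => hd (h ▸ ⟨0, by simp⟩)), hd⟩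

theorem toGL_mem_commutator {F : Type*} [Field F] [Fintype F] (hF : 3 ≤ Fintype.card F)
    (A : SpecialLinearGroup (Fin 2) F) :
    SpecialLinearGroup.toGL A ∈ commutator (GL (Fin 2) F) := by
  have hex : ∃ a : F, a ≠ 0 ∧ a ≠ 1 := by
    classical
    obtain ⟨a, ha⟩ := Finset.exists_mem_notMem_of_card_lt_card
      (t := (Finset.univ : Finset F)) (s := {0, 1}) (lt_of_le_of_lt (Finset.card_insert_le _ _)
        (by rw [Finset.card_singleton, Finset.card_univ]; omega))
    simp at ha
    exact ⟨a, ha⟩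
  rw [Cfsg.Agent.Linear.commutator_GL (Or.inr (Or.inr hex)), MonoidHom.mem_ker]
  exact Units.ext (by simp)

end Cfsg.Agent.H27.LowRank
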