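import Cfsg.Agent.Symplectic.Std

/-! In characteristic two `O_{2m+1}(q) ≅ Sp_{2m}(q)`. -/

set_option autoImplicit false

namespace Cfsg.Agent.H27.OddTwo

open Matrix

variable {F : Type*} [Field F] [CharP F 2] {m : ℕ}

local notation "W" => (Fin m ⊕ Fin m → F)
local notation "V" => (Unit ⊕ (Fin m ⊕ Fin m) → F)
local notation "Q" => Cfsg.quadFormOdd m F
local notation "P" => Cfsg.quadFormPlus m F
local notation "O'" => Cfsg.isometryGroup F (Cfsg.quadFormOdd m F)
local notation "MV" => Matrix (Unit ⊕ (Fin m ⊕ Fin m)) (Unit ⊕ (Fin m ⊕ Fin m)) F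

/-- lift of a vector of `W` -/
def incl (w : W) : V := Sum.elim (fun _ => 0) w

/-- the radical vector -/
def e : V := Sum.elim (fun _ => 1) (fun _ => 0)

theorem plus_add (u w : W) : P (u + w) = P u + P w + Cfsg.sympForm m F u w := by
  rw [Cfsg.Agent.Symplectic.sympForm_eq]
  simp only [Cfsg.quadFormPlus, Pi.add_apply, CharTwo.sub_eq_add]
  rw [← Finset.sum_add_distrib, ← Finset.sum_add_distrib]
  exact Finset.sum_congr rfl fun i _ => by ring

theorem plus_smul (a : F) (w : W) : P (a • w) = a ^ 2 * P w := by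
  simp only [Cfsg.quadFormPlus, Pi.smul_apply, smul_eq_mul, Finset.mul_sum]
  exact Finset.sum_congr rfl fun i _ => by ring

theorem odd_add (u v : V) : Q (u + v) = Q u + Q v
    + Cfsg.sympForm m F (fun i => u (Sum.inr i)) (fun i => v (Sum.inr i)) := by
  have h : P (fun i => (u + v) (Sum.inr i)) = P (fun i => u (Sum.inr i)) + P (fun i => v (Sum.inr i))
      + Cfsg.sympForm m F (fun i => u (Sum.inr i)) (fun i => v (Sum.inr i)) := plus_add _ _
  change (u (.inl ()) + v (.inl ())) ^ 2 + P (fun i => (u + v) (Sum.inr i)) = _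
  rw [h, CharTwo.add_sq]
  change _ = (u (.inl ()) ^ 2 + P (fun i => u (Sum.inr i)))
    + (v (.inl ()) ^ 2 + P (fun i => v (Sum.inr i))) + _
  ring

theorem iso_symp {g : GL (Unit ⊕ (Fin m ⊕ Fin m)) F} (hg : g ∈ O') (u v : V) :
    Cfsg.sympForm m F (fun i => ((g : MV) *ᵥ u) (Sum.inr i)) (fun i => ((g : MV) *ᵥ v) (Sum.inr i))
      = Cfsg.sympForm m F (fun i => u (Sum.inr i)) (fun i => v (Sum.inr i)) := by
  have h : Q ((g : MV) *ᵥ (u + v)) = Q (u + v) := hg (u + v) 0
  rw [Matrix.mulVec_add, odd_add, odd_add, show Q ((g : MV) *ᵥ u) = Q u from hg u 0,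
    show Q ((g : MV) *ᵥ v) = Q v from hg v 0] at h
  exact add_left_cancel h

theorem iso_fix_e {g : GL (Unit ⊕ (Fin m ⊕ Fin m)) F} (hg : g ∈ O') : (g : MV) *ᵥ e = e := by
  classical
  have hr : ∀ k, ((g : MV) *ᵥ e) (Sum.inr k) = 0 := by
    have key : ∀ x : W, Cfsg.sympForm m F (fun i => ((g : MV) *ᵥ e) (Sum.inr i)) x = 0 := by
      intro x
      have h := iso_symp hg e (((g⁻¹ : GL _ F) : MV) *ᵥ incl x)
      rw [Matrix.mulVec_mulVec, Units.mul_inv, Matrix.one_mulVec] at h
      refine h.trans ?_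
      simp [e, Cfsg.Agent.Symplectic.sympForm_eq]
    intro k
    rcases k with i | i
    · have := key (Pi.single (Sum.inr i) 1)
      simpa [Cfsg.Agent.Symplectic.sympForm_eq, Pi.single_apply] using this
    · have := key (Pi.single (Sum.inl i) 1)
      simpa [Cfsg.Agent.Symplectic.sympForm_eq, Pi.single_apply] using this
  have h1 : ((g : MV) *ᵥ e) (Sum.inl ()) ^ 2 = 1 := by
    have h := hg e 0
    simp only [Units.coeHom_apply, Cfsg.quadFormOdd] at h
    simp [hr] at h
    simpa [e] using h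
  funext k
  rcases k with u | k
  · rcases sq_eq_one_iff.1 h1 with h | h
    · exact h
    · rw [h]; simp [e, CharTwo.neg_eq]
  · rw [hr]; rfl

/-- the symplectic part -/
def block (g : GL (Unit ⊕ (Fin m ⊕ Fin m)) F) : Matrix (Fin m ⊕ Fin m) (Fin m ⊕ Fin m) F :=
  (g : MV).toBlocks₂₂

theorem block_mulVec (g : GL (Unit ⊕ (Fin m ⊕ Fin m)) F) (w : W) :
    block g *ᵥ w = fun i => ((g : MV) *ᵥ incl w) (Sum.inr i) := by
  funext i
  simp [block, Matrix.toBlocks₂₂, Matrix.mulVec, dotProduct, incl, Fintype.sum_sum_type]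

theorem mulVec_incl (g : O') (v : V) (i : Fin m ⊕ Fin m) :
    ((g.1 : MV) *ᵥ v) (Sum.inr i) = (block g.1 *ᵥ fun j => v (Sum.inr j)) i := by
  have hv : v = v (Sum.inl ()) • e + incl (fun j => v (Sum.inr j)) := by
    funext k; rcases k with u | k <;> simp [e, incl]
  rw [block_mulVec]
  conv_lhs => rw [hv, Matrix.mulVec_add, Matrix.mulVec_smul, iso_fix_e g.2]
  simp [e]

theorem block_mem (g : O') : block g.1 ∈ Matrix.symplecticGroup (Fin m) F := by
  rw [Cfsg.Agent.Symplectic.mem_symplectic_iff_form]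
  intro u v
  rw [block_mulVec, block_mulVec]
  exact iso_symp g.2 (incl u) (incl v)

/-- `O_{2m+1} → Sp_{2m}` -/
def toSp : O' →* Matrix.symplecticGroup (Fin m) F where
  toFun g := ⟨block g.1, block_mem g⟩
  map_one' := Subtype.ext (by ext i j; simp [block, Matrix.toBlocks₂₂, Matrix.one_apply])
  map_mul' g h := by
    refine Subtype.ext ?_
    change block (g * h).1 = block g.1 * block h.1
    refine Matrix.ext_iff_mulVec.2 fun w => ?_
    rw [← Matrix.mulVec_mulVec]
    funext i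
    rw [block_mulVec, block_mulVec h.1]
    change (((g.1 : MV) * (h.1 : MV)) *ᵥ incl w) (Sum.inr i) = _
    rw [← Matrix.mulVec_mulVec, mulVec_incl g]

variable [Fintype F]

omit [CharP F 2] in
theorem sqrt_exists [CharP F 2] (a : F) : ∃ b : F, b ^ 2 = a := by
  obtain ⟨b, hb⟩ := FiniteField.isSquare_of_char_two (ringChar.eq F 2) a
  exact ⟨b, by rw [hb, pow_two]⟩

theorem toSp_surjective : Function.Surjective (toSp (F := F) (m := m)) := by
  classical
  intro A
  set M := (A : Matrix (Fin m ⊕ Fin m) (Fin m ⊕ Fin m) F) with hM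
  have hA := (Cfsg.Agent.Symplectic.mem_symplectic_iff_form M).1 A.2
  let ψ : W → F := fun w => P (M *ᵥ w) + P w
  have hadd : ∀ u w, ψ (u + w) = ψ u + ψ w := by
    intro u w
    simp only [ψ, Matrix.mulVec_add, plus_add, hA]
    linear_combination (CharTwo.two_eq_zero (R := F)) * Cfsg.sympForm m F u w
  let ψ' : W →+ F := AddMonoidHom.mk' ψ hadd
  choose r hr using fun k => sqrt_exists (ψ (Pi.single k 1))
  have hψ : ∀ w : W, (∑ k, r k * w k) ^ 2 = ψ w := by
    intro w
    rw [CharTwo.sum_sq]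
    have hsum : w = ∑ k, w k • (Pi.single k 1 : W) := by
      funext j; simp [Finset.sum_apply, Pi.single_apply]
    conv_rhs => rw [hsum, show ψ (∑ k, w k • (Pi.single k 1 : W)) = ψ' (∑ k, w k • (Pi.single k 1 : W)) from rfl, map_sum]
    refine Finset.sum_congr rfl fun k _ => ?_
    change _ = P (M *ᵥ (w k • (Pi.single k 1 : W))) + P (w k • (Pi.single k 1 : W))
    rw [mul_pow, hr, Matrix.mulVec_smul, plus_smul, plus_smul]
    change (P (M *ᵥ Pi.single k 1) + P (Pi.single k 1)) * w k ^ 2 = _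
    ring
  let B : MV := Matrix.fromBlocks 1 (Matrix.of fun _ k => r k) 0 M
  have hd : IsUnit B.det := by
    rw [Matrix.det_fromBlocks_zero₂₁, Matrix.det_one, one_mul]
    exact SymplecticGroup.symplectic_det A.2
  let g : GL (Unit ⊕ (Fin m ⊕ Fin m)) F :=
    ⟨B, B⁻¹, Matrix.mul_nonsing_inv B hd, Matrix.nonsing_inv_mul B hd⟩
  have hg : g ∈ O' := by
    intro v _
    change Q (B *ᵥ v) = Q v
    have hB : B *ᵥ v = Sum.elim (fun _ => v (Sum.inl ()) + ∑ k, r k * v (Sum.inr k))
        (M *ᵥ fun k => v (Sum.inr k)) := by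
      rw [Matrix.fromBlocks_mulVec]
      funext k
      rcases k with u | k <;> simp [Matrix.mulVec, dotProduct, Function.comp_def]
    rw [hB]
    change (v (Sum.inl ()) + ∑ k, r k * v (Sum.inr k)) ^ 2 + P (M *ᵥ fun k => v (Sum.inr k))
      = v (Sum.inl ()) ^ 2 + P (fun k => v (Sum.inr k))
    rw [CharTwo.add_sq, hψ]
    simp only [ψ]
    linear_combination (CharTwo.two_eq_zero (R := F)) * P (M *ᵥ fun k => v (Sum.inr k))
  exact ⟨⟨g, hg⟩, Subtype.ext (Matrix.toBlocks_fromBlocks₂₂ _ _ _ _)⟩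

omit [Fintype F] in
theorem toSp_injective : Function.Injective (toSp (F := F) (m := m)) := by
  rw [injective_iff_map_eq_one]
  intro g hg
  have hb : block g.1 = 1 := congrArg Subtype.val hg
  refine Subtype.ext (Units.ext (Matrix.ext_iff_mulVec.2 fun v => ?_))
  change (g.1 : MV) *ᵥ v = ((1 : GL (Unit ⊕ (Fin m ⊕ Fin m)) F) : MV) *ᵥ v
  rw [Units.val_one, Matrix.one_mulVec]
  have hr : ∀ i, ((g.1 : MV) *ᵥ v) (Sum.inr i) = v (Sum.inr i) := by
    intro i; rw [mulVec_incl, hb, Matrix.one_mulVec]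
  funext k
  rcases k with u | k
  · have h := g.2 v 0
    simp only [Units.coeHom_apply, Cfsg.quadFormOdd] at h
    simp only [hr] at h
    exact CharTwo.sq_inj.1 (add_right_cancel h)
  · exact hr k

theorem odd_equiv_symplectic : Nonempty (O' ≃* Matrix.symplecticGroup (Fin m) F) :=
  ⟨MulEquiv.ofBijective toSp ⟨toSp_injective, toSp_surjective⟩⟩

end Cfsg.Agent.H27.OddTwo
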