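import Cfsg.Prelude.Def_Classical

/-! Numbers of zeros of the standard quadratic forms. -/

set_option autoImplicit false

namespace Cfsg.Agent.H27.QuadCount

open Finset

variable {F : Type*} [Field F] [Fintype F]

/-- number of solutions of `∑ x_i y_i = c` -/
noncomputable def hypCount (m : ℕ) (c : F) : ℕ :=
  Nat.card {v : Fin m ⊕ Fin m → F // Cfsg.quadFormPlus m F v = c}

/-- the linear form `y ↦ ∑ x_i y_i` -/
def dotHom {m : ℕ} (x : Fin m → F) : (Fin m → F) →+ F where
  toFun y := ∑ i, x i * y i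
  map_zero' := by simp
  map_add' a b := by simp [mul_add, Finset.sum_add_distrib]

theorem card_mul_fibre {m : ℕ} {x : Fin m → F} (hx : x ≠ 0) (c : F) :
    Fintype.card F * Nat.card {y : Fin m → F // dotHom x y = c} = Fintype.card F ^ m := by
  classical
  obtain ⟨i, hi⟩ := Function.ne_iff.1 hx
  have hsurj : Function.Surjective (dotHom x) := fun a =>
    ⟨Pi.single i (a / x i), by
      change ∑ j, x j * (Pi.single i (a / x i) : Fin m → F) j = a
      rw [Finset.sum_eq_single i (fun j _ hj => by simp [hj]) (by simp)]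
      simp only [Pi.zero_apply] at hi
      simp [mul_div_cancel₀ a hi]⟩
  obtain ⟨y₀, hy₀⟩ := hsurj c
  let e : {y : Fin m → F // dotHom x y = c} ≃ (dotHom x).ker :=
    { toFun := fun y => ⟨y.1 - y₀, by
        rw [AddMonoidHom.mem_ker, map_sub, y.2, hy₀, sub_self]⟩
      invFun := fun k => ⟨k.1 + y₀, by rw [map_add, AddMonoidHom.mem_ker.1 k.2, zero_add, hy₀]⟩
      left_inv := fun y => by ext; simp
      right_inv := fun k => by ext; simp }
  rw [Nat.card_congr e]
  have h := (dotHom x).ker.card_eq_card_quotient_mul_card_addSubgroup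
  rw [Nat.card_congr (QuotientAddGroup.quotientKerEquivOfSurjective _ hsurj).toEquiv,
    Nat.card_eq_fintype_card (α := F), Nat.card_fun, Nat.card_eq_fintype_card (α := F),
    Nat.card_eq_fintype_card (α := Fin m), Fintype.card_fin] at h
  exact h.symm

theorem q_mul_hypCount (m : ℕ) (c : F) [Decidable (c = 0)] :
    (Fintype.card F : ℤ) * hypCount m c
      = (Fintype.card F : ℤ) ^ (2 * m) - (Fintype.card F : ℤ) ^ m
        + if c = 0 then (Fintype.card F : ℤ) ^ (m + 1) else 0 := by
  classical
  have h : hypCount m c = ∑ x : Fin m → F, Nat.card {y : Fin m → F // dotHom x y = c} := by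
    rw [hypCount, ← Nat.card_sigma]
    exact Nat.card_congr
      { toFun := fun v => ⟨fun i => v.1 (Sum.inl i), fun i => v.1 (Sum.inr i), v.2⟩
        invFun := fun p => ⟨Sum.elim p.1 p.2.1, by
          change ∑ i, p.1 i * p.2.1 i = c
          exact p.2.2⟩
        left_inv := fun v => by ext (i | i) <;> rfl
        right_inv := fun p => rfl }
  rw [h, ← Finset.add_sum_erase _ _ (Finset.mem_univ (0 : Fin m → F))]
  have h0 : (Nat.card {y : Fin m → F // dotHom 0 y = c} : ℤ)
      = if c = 0 then (Fintype.card F : ℤ) ^ m else 0 := by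
    have hz : ∀ y : Fin m → F, dotHom 0 y = 0 := by intro y; simp [dotHom]
    split_ifs with hc
    · rw [Nat.card_congr (Equiv.subtypeUnivEquiv fun y => by rw [hz, hc]), Nat.card_fun]
      simp
    · have : IsEmpty {y : Fin m → F // dotHom 0 y = c} := ⟨fun y => hc (by rw [← y.2, hz])⟩
      simp [Nat.card_of_isEmpty]
  rw [Nat.cast_add, mul_add, h0, Nat.cast_sum, Finset.mul_sum]
  have h1 : ∀ x ∈ (Finset.univ : Finset (Fin m → F)).erase 0,
      (Fintype.card F : ℤ) * Nat.card {y : Fin m → F // dotHom x y = c}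
        = (Fintype.card F : ℤ) ^ m := by
    intro x hx
    exact_mod_cast card_mul_fibre (Finset.ne_of_mem_erase hx) c
  rw [Finset.sum_congr rfl h1, Finset.sum_const, Finset.card_erase_of_mem (Finset.mem_univ _),
    Finset.card_univ, Fintype.card_fun, Fintype.card_fin, nsmul_eq_mul,
    Nat.cast_sub (Nat.one_le_pow _ _ Fintype.card_pos)]
  push_cast
  split_ifs <;> ring

/-- `∑ x_i y_i + B z = 0` with `B` vanishing only at one point. -/
theorem q_mul_card_sum {Z : Type*} [Fintype Z] (m : ℕ) (B : Z → F) (z₀ : Z)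
    (hB : ∀ z, B z = 0 ↔ z = z₀) :
    (Fintype.card F : ℤ) *
        Nat.card {p : Z × (Fin m ⊕ Fin m → F) // Cfsg.quadFormPlus m F p.2 + B p.1 = 0}
      = (Fintype.card Z : ℤ) * ((Fintype.card F : ℤ) ^ (2 * m) - (Fintype.card F : ℤ) ^ m)
        + (Fintype.card F : ℤ) ^ (m + 1) := by
  classical
  have h : Nat.card {p : Z × (Fin m ⊕ Fin m → F) // Cfsg.quadFormPlus m F p.2 + B p.1 = 0}
      = ∑ z : Z, hypCount m (-B z) := by
    unfold hypCount
    rw [← Nat.card_sigma]
    exact Nat.card_congr
      { toFun := fun p => ⟨p.1.1, p.1.2, eq_neg_of_add_eq_zero_left p.2⟩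
        invFun := fun p => ⟨(p.1, p.2.1), by rw [p.2.2]; exact neg_add_cancel _⟩
        left_inv := fun p => rfl
        right_inv := fun p => rfl }
  rw [h, Nat.cast_sum, Finset.mul_sum]
  simp only [q_mul_hypCount, neg_eq_zero, hB]
  rw [Finset.sum_add_distrib, Finset.sum_const, Finset.card_univ, nsmul_eq_mul,
    Finset.sum_ite_eq' Finset.univ z₀]
  simp

end Cfsg.Agent.H27.QuadCount
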