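import Cfsg.Agent.H27.KleinCorr
import Cfsg.Agent.Symplectic.Simple
import Cfsg.Agent.Symplectic.Order
import Cfsg.Agent.S0286

/-! `PΩ₅(q) ≅ PSp₄(q)` for `q` odd: the orthogonal complement of the symplectic form in the exterior
square. -/

set_option autoImplicit false

namespace Cfsg.Agent.H27.RankFive

open Matrix Cfsg.Agent.H27.LowRank Cfsg.Agent.H27.KleinCorr

variable {F : Type*} [Field F] [Fintype F]

local notation "V5" => (Unit ⊕ (Fin 2 ⊕ Fin 2) → F)
local notation "V6" => (Fin 3 ⊕ Fin 3 → F)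
local notation "Sp4" => Matrix.symplecticGroup (Fin 2) F
local notation "M4" => Matrix (Fin 4) (Fin 4) F

/-- the coordinates of the symplectic form -/
def jv : V6 := Sum.elim ![0, -1, 0] ![0, 1, 0]

/-- the embedding of `jv⊥` -/
def emb : V5 →ₗ[F] V6 where
  toFun v := Sum.elim ![v (.inr (.inl 0)), v (.inl ()), v (.inr (.inl 1))]
    ![v (.inr (.inr 0)), v (.inl ()), v (.inr (.inr 1))]
  map_add' u v := by funext k; rcases k with k | k <;> fin_cases k <;> simp
  map_smul' c v := by funext k; rcases k with k | k <;> fin_cases k <;> simp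

/-- the projection back -/
def proj : V6 →ₗ[F] V5 where
  toFun w := Sum.elim (fun _ => w (.inl 1))
    (Sum.elim ![w (.inl 0), w (.inl 2)] ![w (.inr 0), w (.inr 2)])
  map_add' u v := by funext k; rcases k with _ | k | k <;> (try fin_cases k) <;> simp
  map_smul' c v := by funext k; rcases k with _ | k | k <;> (try fin_cases k) <;> simp

omit [Fintype F] in
theorem proj_emb (v : V5) : proj (emb v) = v := by
  funext k; rcases k with _ | k | k <;> (try fin_cases k) <;> simp [proj, emb]

omit [Fintype F] in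
theorem pf_emb (v : V5) : pf (emb v) = Cfsg.quadFormOdd 2 F v := by
  simp [pf, emb, Cfsg.quadFormOdd, Fin.sum_univ_two]
  ring

/-- reindexed matrices -/
def toMat4 : Sp4 →* M4 where
  toFun A := Matrix.reindexAlgEquiv F F finSumFinEquiv (A : Matrix (Fin 2 ⊕ Fin 2) (Fin 2 ⊕ Fin 2) F)
  map_one' := by rw [Submonoid.coe_one, map_one]
  map_mul' A B := by rw [Submonoid.coe_mul, map_mul]

omit [Fintype F] in
theorem toMat4_injective : Function.Injective (toMat4 (F := F)) := fun _ _ h =>
  Subtype.ext ((Matrix.reindexAlgEquiv F F finSumFinEquiv).injective h)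

omit [Fintype F] in
theorem alt_jv : alt (jv (F := F)) =
    Matrix.reindexAlgEquiv F F finSumFinEquiv (Matrix.J (Fin 2) F) := by
  ext i j
  fin_cases i <;> fin_cases j <;>
    simp [alt, jv, Matrix.J, finSumFinEquiv, Fin.addCases, Fin.subNat]

omit [Fintype F] in
theorem klein_jv (A : Sp4) : klein (toMat4 A) (jv (F := F)) = jv := by
  rw [klein_apply, alt_jv]
  have h : (toMat4 A)ᵀ = Matrix.reindexAlgEquiv F F finSumFinEquiv
      (A : Matrix (Fin 2 ⊕ Fin 2) (Fin 2 ⊕ Fin 2) F)ᵀ := by
    simp [toMat4, Matrix.transpose_submatrix]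
  rw [h]
  change co (Matrix.reindexAlgEquiv F F finSumFinEquiv (A : Matrix (Fin 2 ⊕ Fin 2) (Fin 2 ⊕ Fin 2) F) *
    _ * _) = jv
  rw [← map_mul, ← map_mul, SymplecticGroup.mem_iff.1 A.2, ← alt_jv, co_alt]

theorem det_toMat4 (hq : 3 ≤ Fintype.card F) (A : Sp4) : (toMat4 A).det = 1 := by
  let d : Sp4 →* Fˣ := ((Matrix.detMonoidHom (n := Fin 4) (R := F)).comp toMat4).toHomUnits
  have h : A ∈ commutator Sp4 := by
    rw [Cfsg.Agent.Symplectic.perfect 2 (Or.inr (Or.inl ⟨rfl, hq⟩))]
    exact Subgroup.mem_top A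
  exact congrArg Units.val (MonoidHom.mem_ker.1 (Abelianization.commutator_subset_ker d h))

theorem emb_proj (hq : 3 ≤ Fintype.card F) (A : Sp4) (v : V5) :
    emb (proj (klein (toMat4 A) (emb v))) = klein (toMat4 A) (emb v) := by
  have h1 := pf_klein (toMat4 A) (emb v + jv)
  rw [map_add, klein_jv, det_toMat4 hq, one_mul] at h1
  have h2 := pf_klein (toMat4 A) (emb v)
  rw [det_toMat4 hq, one_mul] at h2
  have key : ∀ w : V6, pf (w + jv) = pf w + w (.inl 1) - w (.inr 1) - 1 := fun w => by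
    simp [pf, jv]; ring
  rw [key, key, h2] at h1
  have h3 : emb v (.inl 1) = emb v (.inr 1) := by simp [emb]
  have h4 : klein (toMat4 A) (emb v) (.inl 1) = klein (toMat4 A) (emb v) (.inr 1) := by
    linear_combination h1 + h3
  generalize klein (toMat4 A) (emb v) = w at h4
  funext k
  rcases k with k | k <;> fin_cases k <;> simp [emb, proj, h4]

/-- the action on `jv⊥` -/
def actEnd (hq : 3 ≤ Fintype.card F) : Sp4 →* Module.End F V5 where
  toFun A := proj.comp ((klein (toMat4 A)).comp emb)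
  map_one' := LinearMap.ext fun v => by
    rw [LinearMap.comp_apply, LinearMap.comp_apply, map_one, map_one, Module.End.one_apply,
      Module.End.one_apply, proj_emb]
  map_mul' A B := LinearMap.ext fun v => by
    rw [Module.End.mul_apply]
    simp only [LinearMap.comp_apply]
    rw [emb_proj hq, map_mul, map_mul, Module.End.mul_apply]

omit [Fintype F] in
theorem act_apply (A : Sp4) (v : V5) :
    (proj.comp ((klein (toMat4 A)).comp emb)) v = proj (klein (toMat4 A) (emb v)) := by
  simp only [LinearMap.comp_apply]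

/-- `Sp₄` to `O₅` -/
noncomputable def spFive (hq : 3 ≤ Fintype.card F) :
    Sp4 →* Cfsg.isometryGroup F (Cfsg.quadFormOdd 2 F) :=
  isoHom (actEnd hq) fun A v => by
    rw [← pf_emb, ← pf_emb]
    simp only [actEnd, MonoidHom.coe_mk, OneHom.coe_mk, LinearMap.comp_apply]
    rw [emb_proj hq, pf_klein, det_toMat4 hq, one_mul]

theorem spFive_mulVec (hq : 3 ≤ Fintype.card F) (A : Sp4) (v : V5) :
    ((spFive hq A).1 : Matrix (Unit ⊕ (Fin 2 ⊕ Fin 2)) (Unit ⊕ (Fin 2 ⊕ Fin 2)) F) *ᵥ v =
      proj (klein (toMat4 A) (emb v)) := by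
  rw [spFive, isoHom_mulVec, ← act_apply]
  rfl

theorem pomega_five (hodd : Odd (Fintype.card F)) :
    Nonempty (Cfsg.POmega F (Cfsg.quadFormOdd 2 F) ≃* Cfsg.PSp 2 F) := by
  classical
  have hq : 3 ≤ Fintype.card F := by
    have : 1 < Fintype.card F := Fintype.one_lt_card
    obtain ⟨r, hr⟩ := hodd
    omega
  have h2F : (2 : F) ≠ 0 := fun h => by
    have : CharP F 2 := CharTwo.of_one_ne_zero_of_two_eq_zero one_ne_zero h
    have := (FiniteField.even_card_iff_char_two (F := F)).1 (ringChar.eq F 2)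
    obtain ⟨r, hr⟩ := hodd
    omega
  have hker : ∀ A ∈ (spFive hq).ker, ∃ c : F, c * c = 1 ∧ toMat4 A = c • (1 : M4) := by
    intro A hA
    have h5 : ∀ v : V5, klein (toMat4 A) (emb v) = emb v := fun v => by
      rw [← emb_proj hq]
      congr 1
      have h := spFive_mulVec hq A v
      rw [MonoidHom.mem_ker.1 hA, Subgroup.coe_one, Units.val_one, Matrix.one_mulVec] at h
      exact h.symm
    refine scalar_of_klein_eq_one (A := (⟨toMat4 A, det_toMat4 hq A⟩ : SpecialLinearGroup (Fin 4) F))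
      fun w => ?_
    change klein (toMat4 A) w = w
    have hw : w = emb (Sum.elim (fun _ => (w (.inl 1) + w (.inr 1)) / 2)
        (Sum.elim ![w (.inl 0), w (.inl 2)] ![w (.inr 0), w (.inr 2)])) +
        ((w (.inr 1) - w (.inl 1)) / 2) • jv := by
      funext k
      rcases k with k | k <;> fin_cases k <;> simp [emb, jv] <;> field_simp <;> ring
    rw [hw, map_add, map_smul, klein_jv, h5]
  obtain ⟨h2, h1⟩ := card_le_of_scalar (spFive hq).ker toMat4 toMat4_injective hker
  have hO : Nat.card (Cfsg.isometryGroup F (Cfsg.quadFormOdd 2 F)) = 2 * Nat.card Sp4 := by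
    rw [Cfsg.Agent.S0286.result rfl hodd 2, Cfsg.Agent.Symplectic.card_sp]
    ring
  refine pomega_of_perfect (Q := Orthogonal.formOdd F 2) (Orthogonal.formOdd_nondeg F 2 h2F)
    (by simp) (Or.inr (by simp)) (spFive hq)
    (Cfsg.Agent.Symplectic.perfect 2 (Or.inr (Or.inl ⟨rfl, hq⟩)))
    (Cfsg.Agent.Symplectic.isSimpleGroup_psp 2 (by norm_num) (Or.inr (Or.inl ⟨rfl, hq⟩))) ?_ h2 h1 hO
  intro A hA
  obtain ⟨c, -, hc⟩ := hker A hA
  refine Subgroup.mem_center_iff.2 fun B => toMat4_injective ?_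
  rw [map_mul, map_mul, hc]
  simp

end Cfsg.Agent.H27.RankFive
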