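import Cfsg.Agent.H27.LowRank
import Cfsg.Agent.S0287

/-! `PΩ⁺₄(q) ≅ PSL₂(q) × PSL₂(q)` for `q ≥ 3`, by the action on 2 × 2 matrices. -/

set_option autoImplicit false

namespace Cfsg.Agent.H27.RankFourPlus

open Matrix Cfsg.Agent.H27.LowRank

variable {F : Type*} [Field F]

local notation "V4" => (Fin 2 ⊕ Fin 2 → F)
local notation "M2" => Matrix (Fin 2) (Fin 2) F
local notation "O4" => Cfsg.isometryGroup F (Cfsg.quadFormPlus 2 F)
local notation "MV" => Matrix (Fin 2 ⊕ Fin 2) (Fin 2 ⊕ Fin 2) F

/-- coordinates to matrices -/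
def toMat : V4 →ₗ[F] M2 where
  toFun v := !![v (.inl 0), -v (.inl 1); v (.inr 1), v (.inr 0)]
  map_add' u v := by ext i j; fin_cases i <;> fin_cases j <;> simp <;> ring
  map_smul' a v := by ext i j; fin_cases i <;> fin_cases j <;> simp

/-- matrices to coordinates -/
def ofMat : M2 →ₗ[F] V4 where
  toFun M := Sum.elim ![M 0 0, -M 0 1] ![M 1 1, M 1 0]
  map_add' u v := by
    funext k; rcases k with k | k <;> fin_cases k <;> simp <;> ring
  map_smul' a v := by
    funext k; rcases k with k | k <;> fin_cases k <;> simp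

theorem ofMat_toMat (v : V4) : ofMat (toMat v) = v := by
  funext k
  rcases k with k | k <;> fin_cases k <;> simp [ofMat, toMat]

theorem toMat_ofMat (M : M2) : toMat (ofMat M) = M := by
  ext i j
  fin_cases i <;> fin_cases j <;> simp [ofMat, toMat]

theorem quad_eq (v : V4) : Cfsg.quadFormPlus 2 F v = (toMat v).det := by
  simp [Cfsg.quadFormPlus, toMat, Matrix.det_fin_two_of, Fin.sum_univ_two]

/-- pairs with equal determinant -/
def eqDet (F : Type*) [Field F] : Subgroup (GL (Fin 2) F × GL (Fin 2) F) :=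
  MonoidHom.eqLocus (GeneralLinearGroup.det.comp (MonoidHom.fst _ _))
    (GeneralLinearGroup.det.comp (MonoidHom.snd _ _))

/-- two-sided action -/
def biEnd : eqDet F →* Module.End F V4 where
  toFun d :=
    { toFun := fun v => ofMat ((d.1.1 : M2) * toMat v * ((d.1.2⁻¹ : GL (Fin 2) F) : M2))
      map_add' := fun u v => by rw [map_add, Matrix.mul_add, Matrix.add_mul, map_add]
      map_smul' := fun a v => by
        rw [map_smul, Matrix.mul_smul, Matrix.smul_mul, map_smul, RingHom.id_apply] }
  map_one' := by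
    refine LinearMap.ext fun v => ?_
    simp [ofMat_toMat]
  map_mul' d e := by
    refine LinearMap.ext fun v => ?_
    change ofMat _ = ofMat ((d.1.1 : M2) * toMat (ofMat _) * ((d.1.2⁻¹ : GL (Fin 2) F) : M2))
    rw [toMat_ofMat, Subgroup.coe_mul, Prod.fst_mul, Prod.snd_mul, _root_.mul_inv_rev, Units.val_mul,
      Units.val_mul]
    simp only [Matrix.mul_assoc]

theorem bi_quad (d : eqDet F) (v : V4) :
    Cfsg.quadFormPlus 2 F (biEnd d v) = Cfsg.quadFormPlus 2 F v := by
  rw [quad_eq, quad_eq]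
  change (toMat (ofMat _)).det = _
  rw [toMat_ofMat, Matrix.det_mul, Matrix.det_mul]
  have h : (d.1.1 : M2).det = (d.1.2 : M2).det := congrArg Units.val d.2
  have h' : (d.1.2 : M2).det * ((d.1.2⁻¹ : GL (Fin 2) F) : M2).det = 1 := by
    rw [← Matrix.det_mul, ← Units.val_mul, mul_inv_cancel, Units.val_one, Matrix.det_one]
  rw [h, mul_right_comm, h', one_mul]

/-- the action as a map into the orthogonal group -/
noncomputable def biHom : eqDet F →* O4 := isoHom biEnd bi_quad

theorem toMat_biHom (d : eqDet F) (v : V4) :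
    toMat (((biHom d).1 : MV) *ᵥ v) * (d.1.2 : M2) = (d.1.1 : M2) * toMat v := by
  rw [biHom, isoHom_mulVec]
  change toMat (ofMat _) * _ = _
  rw [toMat_ofMat, Matrix.mul_assoc, ← Units.val_mul, inv_mul_cancel, Units.val_one, Matrix.mul_one]

theorem scalar_of_bi_eq_one {d : eqDet F} (h : biHom d = 1) :
    (d.1.1 : M2) = (d.1.2 : M2) ∧
    (d.1.1 : M2) 0 1 = 0 ∧ (d.1.1 : M2) 1 0 = 0 ∧ (d.1.1 : M2) 0 0 = (d.1.1 : M2) 1 1 := by
  have hc : ∀ M : M2, M * (d.1.2 : M2) = (d.1.1 : M2) * M := by
    intro M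
    have := toMat_biHom d (ofMat M)
    rwa [h, Subgroup.coe_one, Units.val_one, Matrix.one_mulVec, toMat_ofMat] at this
  have h12 : (d.1.1 : M2) = (d.1.2 : M2) := by
    have := hc 1
    rw [Matrix.one_mul, Matrix.mul_one] at this
    exact this.symm
  have h1 := hc !![0, 1; 0, 0]
  have h2 := hc !![0, 0; 1, 0]
  rw [← h12] at h1 h2
  have a := congrFun (congrFun h1 0) 0
  have b := congrFun (congrFun h1 0) 1
  have c := congrFun (congrFun h2 0) 0
  simp [Matrix.mul_apply, Fin.sum_univ_two, Matrix.vecMul, dotProduct] at a b c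
  exact ⟨h12, c.symm, a, b.symm⟩

/-- inclusion of `SL₂ × SL₂` -/
def slPair : SpecialLinearGroup (Fin 2) F × SpecialLinearGroup (Fin 2) F →* eqDet F :=
  (MonoidHom.prodMap SpecialLinearGroup.toGL SpecialLinearGroup.toGL).codRestrict _ fun p =>
    Units.ext (p.1.2.trans p.2.2.symm)

theorem toGL_det (s : SpecialLinearGroup (Fin 2) F) :
    GeneralLinearGroup.det (SpecialLinearGroup.toGL s) = 1 := Units.ext s.2

variable [Fintype F]

theorem pomega_four_plus (hq : 3 ≤ Fintype.card F) :
    Nonempty (Cfsg.POmega F (Cfsg.quadFormPlus 2 F) ≃*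
      ProjectiveSpecialLinearGroup (Fin 2) F × ProjectiveSpecialLinearGroup (Fin 2) F) := by
  classical
  let S := SpecialLinearGroup (Fin 2) F
  let φ : S × S →* O4 := biHom.comp slPair
  let π : S × S →* ProjectiveSpecialLinearGroup (Fin 2) F × ProjectiveSpecialLinearGroup (Fin 2) F :=
    MonoidHom.prodMap (QuotientGroup.mk' _) (QuotientGroup.mk' _)
  have hπ : Function.Surjective π := fun ⟨a, b⟩ => by
    obtain ⟨a, rfl⟩ := QuotientGroup.mk'_surjective _ a
    obtain ⟨b, rfl⟩ := QuotientGroup.mk'_surjective _ b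
    exact ⟨(a, b), rfl⟩
  have hker : ∀ p ∈ φ.ker, p.1 = p.2 ∧ p.1 ∈ Subgroup.center S := by
    intro p hp
    obtain ⟨h12, h01, h10, h00⟩ := scalar_of_bi_eq_one (MonoidHom.mem_ker.1 hp)
    refine ⟨Subtype.ext h12, ?_⟩
    change (p.1 : M2) 0 1 = 0 at h01
    change (p.1 : M2) 1 0 = 0 at h10
    change (p.1 : M2) 0 0 = (p.1 : M2) 1 1 at h00
    have hd : (p.1 : M2).det = 1 := p.1.2
    rw [Matrix.det_fin_two, h01, ← h00] at hd
    rcases mul_self_eq_one_iff.1 (show (p.1 : M2) 0 0 * (p.1 : M2) 0 0 = 1 by linear_combination hd) with h | h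
    · exact Cfsg.Agent.Linear.mem_center_SL_two.2 (Or.inl (Subtype.ext (Matrix.ext fun i j => by
        fin_cases i <;> fin_cases j <;> simp [h01, h10, ← h00, h])))
    · exact Cfsg.Agent.Linear.mem_center_SL_two.2 (Or.inr (Subtype.ext (Matrix.ext fun i j => by
        fin_cases i <;> fin_cases j <;> simp [h01, h10, ← h00, h])))
  have hkπ : φ.ker ≤ π.ker := by
    intro p hp
    obtain ⟨h12, hc⟩ := hker p hp
    exact MonoidHom.mem_ker.2 (Prod.ext ((QuotientGroup.eq_one_iff _).2 hc)
      ((QuotientGroup.eq_one_iff _).2 (show p.2 ∈ Subgroup.center S from h12 ▸ hc)))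
  have hcen : π.ker ≤ Subgroup.center (S × S) := by
    intro p hp
    have hp' := Prod.ext_iff.1 (MonoidHom.mem_ker.1 hp)
    refine Subgroup.mem_center_iff.2 fun y => Prod.ext ?_ ?_
    · exact Subgroup.mem_center_iff.1 ((QuotientGroup.eq_one_iff _).1 hp'.1) y.1
    · exact Subgroup.mem_center_iff.1 ((QuotientGroup.eq_one_iff _).1 hp'.2) y.2
  have hkc : Nat.card φ.ker ≤ Nat.gcd 2 (Fintype.card F - 1) := by
    have h1 : Nat.card φ.ker ≤ Nat.card (Subgroup.center S) :=
      Nat.card_le_card_of_injective (fun p : φ.ker => (⟨p.1.1, (hker p.1 p.2).2⟩ : Subgroup.center S))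
        (fun p p' h => by
          have h1 : p.1.1 = p'.1.1 := congrArg Subtype.val h
          refine Subtype.ext (Prod.ext h1 ?_)
          rw [← (hker p.1 p.2).1, ← (hker p'.1 p'.2).1, h1])
    rwa [Cfsg.Agent.Linear.card_center_SL, Fintype.card_fin] at h1
  have hcard : Nat.card O4 = 2 * Nat.card (S × S) := by
    rw [Cfsg.Agent.S0287.result rfl 2 (by norm_num), Nat.card_prod, Cfsg.Agent.Linear.card_SL_two]
    norm_num
    ring
  have hi : φ.range.index ≤ Nat.gcd 2 (Fintype.card F - 1) * 2 :=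
    index_range_le φ rfl Nat.card_pos (Nat.mul_le_mul_right 2 hkc) hcard
  have hg2 : Nat.gcd 2 (Fintype.card F - 1) ≤ 2 := Nat.le_of_dvd two_pos (Nat.gcd_dvd_left _ _)
  have hsub : φ.range ≤ commutator O4 := by
    let D : GL (Fin 2) F →* GL (Fin 2) F :=
      { toFun := fun A => Cfsg.Agent.Linear.diagGL ![GeneralLinearGroup.det A, 1]
        map_one' := by
          rw [map_one, show (![1, 1] : Fin 2 → Fˣ) = 1 from funext fun i => by fin_cases i <;> rfl]
          exact Cfsg.Agent.Linear.diagGL_one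
        map_mul' := fun A B => by
          rw [← Cfsg.Agent.Linear.diagGL_mul, map_mul]
          congr 1
          funext i; fin_cases i <;> simp }
    have hD : ∀ A, GeneralLinearGroup.det (D A) = GeneralLinearGroup.det A := fun A =>
      Units.ext (by simp [D, Matrix.det_fin_two])
    let L : GL (Fin 2) F →* eqDet F :=
      (MonoidHom.prod (MonoidHom.id _) D).codRestrict _ fun A => (hD A).symm
    let R : GL (Fin 2) F →* eqDet F :=
      (MonoidHom.prod D (MonoidHom.id _)).codRestrict _ fun A => hD A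
    have hD1 : ∀ s : S, D (SpecialLinearGroup.toGL s) = 1 := fun s => by
      change Cfsg.Agent.Linear.diagGL _ = 1
      rw [toGL_det, show (![1, 1] : Fin 2 → Fˣ) = 1 from funext fun i => by fin_cases i <;> rfl,
        Cfsg.Agent.Linear.diagGL_one]
    have hmap : ∀ (Φ : GL (Fin 2) F →* O4) (s : S), Φ (SpecialLinearGroup.toGL s) ∈ commutator O4 := by
      intro Φ s
      have h := Subgroup.mem_map_of_mem Φ (toGL_mem_commutator hq s)
      rw [commutator_def, Subgroup.map_commutator] at h
      exact Subgroup.commutator_mono le_top le_top h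
    rintro x ⟨⟨a, b⟩, rfl⟩
    have e : slPair (a, b) = L (SpecialLinearGroup.toGL a) * R (SpecialLinearGroup.toGL b) := by
      refine Subtype.ext (Prod.ext ?_ ?_)
      · change SpecialLinearGroup.toGL a = SpecialLinearGroup.toGL a * D (SpecialLinearGroup.toGL b)
        rw [hD1, mul_one]
      · change SpecialLinearGroup.toGL b = D (SpecialLinearGroup.toGL a) * SpecialLinearGroup.toGL b
        rw [hD1, one_mul]
    change biHom (slPair (a, b)) ∈ _
    rw [e, map_mul]
    exact mul_mem (hmap (biHom.comp L) a) (hmap (biHom.comp R) b)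
  have hcenP : Subgroup.center
      (ProjectiveSpecialLinearGroup (Fin 2) F × ProjectiveSpecialLinearGroup (Fin 2) F) = ⊥ := by
    rw [eq_bot_iff]
    intro z hz
    refine Prod.ext ?_ ?_
    · have : z.1 ∈ Subgroup.center (ProjectiveSpecialLinearGroup (Fin 2) F) :=
        Subgroup.mem_center_iff.2 fun y => congrArg Prod.fst (Subgroup.mem_center_iff.1 hz (y, 1))
      rwa [center_psl_two hq] at this
    · have : z.2 ∈ Subgroup.center (ProjectiveSpecialLinearGroup (Fin 2) F) :=
        Subgroup.mem_center_iff.2 fun y => congrArg Prod.snd (Subgroup.mem_center_iff.1 hz (1, y))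
      rwa [center_psl_two hq] at this
  have hnorm : φ.range.Normal := by
    by_cases h2 : (2 : F) = 0
    · have : CharP F 2 := CharTwo.of_one_ne_zero_of_two_eq_zero one_ne_zero h2
      have hev := (FiniteField.even_card_iff_char_two (F := F)).1 (ringChar.eq F 2)
      have hgcd : Nat.gcd 2 (Fintype.card F - 1) = 1 :=
        Nat.coprime_iff_gcd_eq_one.1 (Nat.prime_two.coprime_iff_not_dvd.2 (by omega))
      rw [hgcd] at hi
      rcases Nat.lt_or_ge φ.range.index 2 with h | h
      · have h1 : φ.range.index = 1 := by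
          have := Subgroup.index_ne_zero_of_finite (H := φ.range)
          omega
        rw [Subgroup.index_eq_one.1 h1]; infer_instance
      · exact Subgroup.normal_of_index_eq_two (by omega)
    · obtain ⟨δ, hδ⟩ := exists_nonsquare_unit h2
      let dg : eqDet F := ⟨(Cfsg.Agent.Linear.diagGL ![δ, 1], Cfsg.Agent.Linear.diagGL ![δ, 1]), rfl⟩
      let trans' : V4 →ₗ[F] V4 :=
        ofMat.comp ((Matrix.transposeLinearEquiv (Fin 2) (Fin 2) F F).toLinearMap.comp toMat)
      have htr : ∀ v, trans' v = ofMat (toMat v)ᵀ := fun v => rfl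
      let τ : O4 := isoInv trans' (fun v => by
          rw [htr, htr, toMat_ofMat, Matrix.transpose_transpose, ofMat_toMat])
        (fun v => by rw [htr, quad_eq, quad_eq, toMat_ofMat, Matrix.det_transpose])
      have hτ : ∀ v : V4, (τ.1 : MV) *ᵥ v = ofMat (toMat v)ᵀ := fun v =>
        (isoInv_mulVec trans' _ _ v).trans (htr v)
      have hτ_ne : ∀ d : eqDet F, biHom d ≠ τ := by
        intro d hd
        have hc : ∀ M : M2, Mᵀ * (d.1.2 : M2) = (d.1.1 : M2) * M := by
          intro M
          have := toMat_biHom d (ofMat M)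
          rwa [hd, hτ, toMat_ofMat, toMat_ofMat] at this
        have h12 : (d.1.1 : M2) = (d.1.2 : M2) := by
          have := hc 1
          rw [Matrix.transpose_one, Matrix.one_mul, Matrix.mul_one] at this
          exact this.symm
        have h1 := hc !![0, 1; 0, 0]
        have h3 := hc !![1, 0; 0, 0]
        rw [← h12] at h1 h3
        have a := congrFun (congrFun h1 0) 1
        have b := congrFun (congrFun h3 0) 1
        simp [Matrix.mul_apply, Fin.sum_univ_two, Matrix.vecMul, dotProduct] at a b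
        exact (d.1.1.isUnit.map Matrix.detMonoidHom).ne_zero
          (by simp [Matrix.det_fin_two, ← a, b])
      have hdg : biHom dg ∉ φ.range := by
        rintro ⟨p, hp⟩
        have h1 : biHom ((slPair p)⁻¹ * dg) = 1 := by
          rw [map_mul, map_inv, inv_mul_eq_one]; exact hp
        obtain ⟨-, h01, h10, h00⟩ := scalar_of_bi_eq_one h1
        set B := (((slPair p)⁻¹ * dg : eqDet F).1.1) with hB
        have hdet : (B : M2).det = (δ : F) := by
          have hb : GeneralLinearGroup.det B = δ := by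
            change GeneralLinearGroup.det ((SpecialLinearGroup.toGL p.1)⁻¹ * Cfsg.Agent.Linear.diagGL ![δ, 1]) = δ
            rw [map_mul, map_inv, toGL_det, inv_one, one_mul]
            exact Units.ext (by simp [Matrix.det_fin_two])
          rw [← hb]; simp
        rw [Matrix.det_fin_two, h01, ← h00] at hdet
        exact hδ ⟨(B : M2) 0 0, by linear_combination -hdet⟩
      refine normal_of_two_outside (a := τ) (b := biHom dg) (by omega) ?_ ?_ ?_ hdg ?_
      · rintro x ⟨⟨a, b⟩, rfl⟩
        refine ⟨(b.transpose⁻¹, a.transpose⁻¹), ?_⟩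
        rw [eq_mul_inv_iff_mul_eq]
        refine iso_ext fun v => ?_
        rw [iso_mul_mulVec, iso_mul_mulVec, hτ, hτ]
        change ((isoHom biEnd bi_quad (slPair (b.transpose⁻¹, a.transpose⁻¹))).1 : MV) *ᵥ _ = ofMat (toMat
          (((isoHom biEnd bi_quad (slPair (a, b))).1 : MV) *ᵥ v))ᵀ
        rw [isoHom_mulVec, isoHom_mulVec]
        change ofMat (((b.transpose⁻¹ : S) : M2) * toMat (ofMat (toMat v)ᵀ) *
            ((((SpecialLinearGroup.toGL (a.transpose⁻¹)))⁻¹ : GL (Fin 2) F) : M2)) =
          ofMat (toMat (ofMat ((a : M2) * toMat v *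
            (((SpecialLinearGroup.toGL b)⁻¹ : GL (Fin 2) F) : M2))))ᵀ
        rw [toMat_ofMat, toMat_ofMat, ← map_inv, ← map_inv, inv_inv]
        congr 1
        change ((b.transpose⁻¹ : S) : M2) * (toMat v)ᵀ * (a.transpose : M2) =
          ((a : M2) * toMat v * ((b⁻¹ : S) : M2))ᵀ
        change Matrix.adjugate (b : M2)ᵀ * (toMat v)ᵀ * (a : M2)ᵀ =
          ((a : M2) * toMat v * Matrix.adjugate (b : M2))ᵀ
        rw [Matrix.transpose_mul, Matrix.transpose_mul, Matrix.adjugate_transpose, Matrix.mul_assoc]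
      · rintro x ⟨⟨a, b⟩, rfl⟩
        let g := Cfsg.Agent.Linear.diagGL ![δ, (1 : Fˣ)]
        have hc : ∀ s : S, ((g * SpecialLinearGroup.toGL s * g⁻¹ : GL (Fin 2) F) : M2).det = 1 := by
          intro s; rw [Units.val_mul, Units.val_mul, det_units_conj]; exact s.2
        refine ⟨(⟨_, hc a⟩, ⟨_, hc b⟩), ?_⟩
        change biHom _ = biHom dg * biHom (slPair (a, b)) * (biHom dg)⁻¹
        rw [← map_inv, ← map_mul, ← map_mul]
        congr 1
        exact Subtype.ext (Prod.ext (Units.ext rfl) (Units.ext rfl))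
      · rintro ⟨p, hp⟩; exact hτ_ne _ hp
      · rintro ⟨p, hp⟩
        refine hτ_ne (dg * (slPair p)⁻¹) ?_
        rw [map_mul, map_inv]
        change biHom dg * (φ p)⁻¹ = τ
        rw [hp]; group
  exact pomega_equiv φ π (by omega) hsub hπ hkπ hcen hcenP

end Cfsg.Agent.H27.RankFourPlus
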