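import Cfsg.Agent.H27.KleinCorr
import Cfsg.Agent.Linear.Order
import Cfsg.Agent.Linear.Simple
import Cfsg.Agent.S0287

/-! `PΩ⁺₆(q) ≅ PSL₄(q)`. -/

set_option autoImplicit false

namespace Cfsg.Agent.H27.RankSixPlus

open Matrix Cfsg.Agent.H27.LowRank Cfsg.Agent.H27.KleinCorr

variable {F : Type*} [Field F] [Fintype F]

/-- `SL₄` to `O⁺₆` -/
noncomputable def slSix :
    SpecialLinearGroup (Fin 4) F →* Cfsg.isometryGroup F (Cfsg.quadFormPlus 3 F) :=
  isoHom (klein.comp ({ toFun := fun A => (A : Matrix (Fin 4) (Fin 4) F)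
                        map_one' := rfl
                        map_mul' := fun _ _ => rfl } : SpecialLinearGroup (Fin 4) F →* _))
    (fun A v => by
      rw [← pf_eq_quadFormPlus, ← pf_eq_quadFormPlus]
      change pf (klein (A : Matrix (Fin 4) (Fin 4) F) v) = pf v
      rw [pf_klein, A.2, one_mul])

omit [Fintype F] in
theorem slSix_mulVec (A : SpecialLinearGroup (Fin 4) F) (v : Fin 3 ⊕ Fin 3 → F) :
    ((slSix A).1 : Matrix (Fin 3 ⊕ Fin 3) (Fin 3 ⊕ Fin 3) F) *ᵥ v =
      klein (A : Matrix (Fin 4) (Fin 4) F) v := isoHom_mulVec _ _ A v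

theorem card_sl_four :
    Nat.card (SpecialLinearGroup (Fin 4) F) = Fintype.card F ^ 6 * (Fintype.card F ^ 3 - 1) *
      ((Fintype.card F ^ 2 - 1) * (Fintype.card F ^ 4 - 1)) := by
  have h := Cfsg.Agent.Linear.card_SL_mul (F := F) 4 (by norm_num)
  have h2 : 2 ≤ Fintype.card F := Fintype.one_lt_card
  set q := Fintype.card F with hq
  have e : ∀ i k : ℕ, q ^ (i + k) - q ^ i = q ^ i * (q ^ k - 1) := fun i k => by
    rw [pow_add, Nat.mul_sub, mul_one]
  refine Nat.eq_of_mul_eq_mul_left (n := q - 1) (by omega) ?_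
  rw [h, Fin.prod_univ_four]
  have a1 := e 1 3
  have a2 := e 2 2
  have a3 := e 3 1
  norm_num at a1 a2 a3 ⊢
  rw [a1, a2, a3]
  ring

theorem pomega_six_plus :
    Nonempty (Cfsg.POmega F (Cfsg.quadFormPlus 3 F) ≃* ProjectiveSpecialLinearGroup (Fin 4) F) := by
  classical
  have hG := Cfsg.Agent.Linear.commutator_SL_eq_top_of_card (ι := Fin 4) (F := F) (Or.inl (by simp))
  have hker : ∀ A ∈ (slSix (F := F)).ker, ∃ c : F, c * c = 1 ∧
      (A : Matrix (Fin 4) (Fin 4) F) = c • 1 := fun A hA => by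
    refine scalar_of_klein_eq_one fun v => ?_
    rw [← slSix_mulVec, MonoidHom.mem_ker.1 hA, Subgroup.coe_one, Units.val_one, Matrix.one_mulVec]
  obtain ⟨h2, h1⟩ := card_le_of_scalar (slSix (F := F)).ker
    (fun A => (A : Matrix (Fin 4) (Fin 4) F)) (fun a b h => Subtype.ext h) hker
  have hO : Nat.card (Cfsg.isometryGroup F (Cfsg.quadFormPlus 3 F)) =
      2 * Nat.card (SpecialLinearGroup (Fin 4) F) := by
    rw [Cfsg.Agent.S0287.result rfl 3 (by norm_num), card_sl_four]
    simp [Finset.prod_range_succ, mul_assoc]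
  exact pomega_of_perfect (Q := Orthogonal.formPlus F 3) (Orthogonal.formPlus_nondeg F 3)
    (by simp) (Or.inr (by simp)) slSix hG (Cfsg.Agent.Linear.isSimpleGroup_PSL (Or.inl (by simp)))
    (fun A hA => by obtain ⟨c, -, hc⟩ := hker A hA; exact scalar_mem_center hc) h2 h1 hO

end Cfsg.Agent.H27.RankSixPlus
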