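import Cfsg.Agent.H27.LowRank
import Cfsg.Agent.S0286

/-! `PΩ₃(q) ≅ PSL₂(q)` for odd `q`, by conjugation on traceless matrices. -/

set_option autoImplicit false

namespace Cfsg.Agent.H27.RankThree

open Matrix Cfsg.Agent.H27.LowRank

variable {F : Type*} [Field F]

local notation "V3" => (Unit ⊕ (Fin 1 ⊕ Fin 1) → F)
local notation "M2" => Matrix (Fin 2) (Fin 2) F
local notation "O3" => Cfsg.isometryGroup F (Cfsg.quadFormOdd 1 F)

/-- coordinates to traceless matrices -/
def toMat : V3 →ₗ[F] M2 where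
  toFun v := !![v (.inl ()), v (.inr (.inl 0)); v (.inr (.inr 0)), -v (.inl ())]
  map_add' u v := by ext i j; fin_cases i <;> fin_cases j <;> simp <;> ring
  map_smul' a v := by ext i j; fin_cases i <;> fin_cases j <;> simp

/-- matrices to coordinates -/
def ofMat : M2 →ₗ[F] V3 where
  toFun M := Sum.elim (fun _ => M 0 0) (Sum.elim (fun _ => M 0 1) (fun _ => M 1 0))
  map_add' u v := by funext k; rcases k with k | k | k <;> rfl
  map_smul' a v := by funext k; rcases k with k | k | k <;> rfl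

theorem ofMat_toMat (v : V3) : ofMat (toMat v) = v := by
  funext k
  rcases k with k | k | k <;> simp [ofMat, toMat, Subsingleton.elim k 0]

theorem toMat_ofMat {M : M2} (h : M 0 0 + M 1 1 = 0) : toMat (ofMat M) = M := by
  ext i j
  fin_cases i <;> fin_cases j <;> simp [ofMat, toMat]
  linear_combination -h

theorem quad_eq (v : V3) : Cfsg.quadFormOdd 1 F v = -(toMat v).det := by
  simp [Cfsg.quadFormOdd, toMat, Matrix.det_fin_two_of]
  ring

theorem trace_toMat (v : V3) : (toMat v) 0 0 + (toMat v) 1 1 = 0 := by simp [toMat]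

theorem conj_trace (A : GL (Fin 2) F) (v : V3) :
    ((A : M2) * toMat v * ((A⁻¹ : GL (Fin 2) F) : M2)) 0 0 +
      ((A : M2) * toMat v * ((A⁻¹ : GL (Fin 2) F) : M2)) 1 1 = 0 := by
  rw [← Matrix.trace_fin_two, Matrix.trace_units_conj, Matrix.trace_fin_two]
  exact trace_toMat v

/-- conjugation -/
def conjEnd : GL (Fin 2) F →* Module.End F V3 where
  toFun A :=
    { toFun := fun v => ofMat ((A : M2) * toMat v * ((A⁻¹ : GL (Fin 2) F) : M2))
      map_add' := fun u v => by rw [map_add, Matrix.mul_add, Matrix.add_mul, map_add]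
      map_smul' := fun a v => by
        rw [map_smul, Matrix.mul_smul, Matrix.smul_mul, map_smul, RingHom.id_apply] }
  map_one' := by
    refine LinearMap.ext fun v => ?_
    simp [ofMat_toMat]
  map_mul' A B := by
    refine LinearMap.ext fun v => ?_
    change ofMat _ = ofMat ((A : M2) * toMat (ofMat _) * ((A⁻¹ : GL (Fin 2) F) : M2))
    rw [toMat_ofMat (conj_trace B v), _root_.mul_inv_rev, Units.val_mul, Units.val_mul]
    simp only [Matrix.mul_assoc]

theorem conj_quad (A : GL (Fin 2) F) (v : V3) :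
    Cfsg.quadFormOdd 1 F (conjEnd A v) = Cfsg.quadFormOdd 1 F v := by
  rw [quad_eq, quad_eq]
  change -(toMat (ofMat _)).det = _
  rw [toMat_ofMat (conj_trace A v), det_units_conj]

/-- conjugation into the orthogonal group -/
noncomputable def conjHom : GL (Fin 2) F →* O3 := isoHom conjEnd conj_quad

theorem conjHom_mulVec (A : GL (Fin 2) F) (v : V3) :
    ((conjHom A).1 : Matrix _ _ F) *ᵥ v = ofMat ((A : M2) * toMat v * ((A⁻¹ : GL (Fin 2) F) : M2)) :=
  isoHom_mulVec _ _ A v

theorem toMat_conjHom (A : GL (Fin 2) F) (v : V3) :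
    toMat (((conjHom A).1 : Matrix _ _ F) *ᵥ v) * (A : M2) = (A : M2) * toMat v := by
  rw [conjHom_mulVec, toMat_ofMat (conj_trace A v), Matrix.mul_assoc, ← Units.val_mul,
    inv_mul_cancel, Units.val_one, Matrix.mul_one]

theorem scalar_of_conj_eq_one {A : GL (Fin 2) F} (h : conjHom A = 1) :
    (A : M2) 0 1 = 0 ∧ (A : M2) 1 0 = 0 ∧ (A : M2) 0 0 = (A : M2) 1 1 := by
  have hc : ∀ M : M2, M 0 0 + M 1 1 = 0 → M * (A : M2) = (A : M2) * M := by
    intro M hM
    have := toMat_conjHom A (ofMat M)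
    rw [h, Subgroup.coe_one, Units.val_one, Matrix.one_mulVec, toMat_ofMat hM] at this
    exact this
  have h1 := hc !![0, 1; 0, 0] (by simp)
  have h2 := hc !![0, 0; 1, 0] (by simp)
  have a := congrFun (congrFun h1 0) 0
  have b := congrFun (congrFun h1 0) 1
  have c := congrFun (congrFun h2 0) 0
  simp [Matrix.mul_apply, Fin.sum_univ_two] at a b c
  exact ⟨c.symm, a, b.symm⟩

variable [Fintype F]

theorem pomega_three (hodd : Odd (Fintype.card F)) :
    Nonempty (Cfsg.POmega F (Cfsg.quadFormOdd 1 F) ≃* ProjectiveSpecialLinearGroup (Fin 2) F) := by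
  have h2 : (2 : F) ≠ 0 := Cfsg.Agent.Linear.two_ne_zero_of_odd_card hodd
  have hq3 : 3 ≤ Fintype.card F := by
    have := Fintype.one_lt_card (α := F)
    rcases hodd with ⟨k, hk⟩
    omega
  let φ : SpecialLinearGroup (Fin 2) F →* O3 := conjHom.comp SpecialLinearGroup.toGL
  let π := QuotientGroup.mk' (Subgroup.center (SpecialLinearGroup (Fin 2) F))
  have hker : φ.ker ≤ π.ker := by
    intro g hg
    rw [QuotientGroup.ker_mk']
    obtain ⟨h01, h10, h00⟩ := scalar_of_conj_eq_one (MonoidHom.mem_ker.1 hg)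
    have hd : (g : M2).det = 1 := g.2
    change (g : M2) 0 1 = 0 at h01
    change (g : M2) 1 0 = 0 at h10
    change (g : M2) 0 0 = (g : M2) 1 1 at h00
    rw [Matrix.det_fin_two, h01, ← h00] at hd
    rcases mul_self_eq_one_iff.1 (show (g : M2) 0 0 * (g : M2) 0 0 = 1 by linear_combination hd) with h | h
    · exact Cfsg.Agent.Linear.mem_center_SL_two.2 (Or.inl (Subtype.ext (Matrix.ext fun i j => by
        fin_cases i <;> fin_cases j <;> simp [h01, h10, ← h00, h])))
    · exact Cfsg.Agent.Linear.mem_center_SL_two.2 (Or.inr (Subtype.ext (Matrix.ext fun i j => by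
        fin_cases i <;> fin_cases j <;> simp [h01, h10, ← h00, h])))
  have hcard : Nat.card O3 = 2 * Nat.card (SpecialLinearGroup (Fin 2) F) := by
    rw [Cfsg.Agent.S0286.result rfl hodd 1, Cfsg.Agent.Linear.card_SL_two]
    simp [mul_assoc]
  have hkc : Nat.card φ.ker ≤ 2 := by
    refine (Subgroup.card_le_of_le hker).trans ?_
    rw [QuotientGroup.ker_mk', Cfsg.Agent.Linear.card_center_SL, Fintype.card_fin]
    exact Nat.le_of_dvd two_pos (Nat.gcd_dvd_left _ _)
  have hi : φ.range.index ≤ 4 := index_range_le φ rfl Nat.card_pos (by omega) hcard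
  obtain ⟨δ, hδ⟩ := exists_nonsquare_unit h2
  let g0 := Cfsg.Agent.Linear.diagGL ![δ, 1]
  let negv : V3 →ₗ[F] V3 := -LinearMap.id
  let neg : O3 := isoInv negv (fun v => by simp [negv]) (fun v => by
    simp [negv, Cfsg.quadFormOdd])
  have hneg : ∀ v : V3, (neg.1 : Matrix (Unit ⊕ (Fin 1 ⊕ Fin 1)) (Unit ⊕ (Fin 1 ⊕ Fin 1)) F) *ᵥ v = -v :=
    fun v => (isoInv_mulVec negv _ _ v).trans (by simp [negv])
  have hneg_ne : ∀ A : GL (Fin 2) F, conjHom A ≠ neg := by
    intro A hA
    have hc : ∀ M : M2, M 0 0 + M 1 1 = 0 → -(M * (A : M2)) = (A : M2) * M := by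
      intro M hM
      have := toMat_conjHom A (ofMat M)
      rwa [hA, hneg, map_neg, toMat_ofMat hM, Matrix.neg_mul] at this
    have h1 := hc !![1, 0; 0, -1] (by simp)
    have h3 := hc !![0, 1; 0, 0] (by simp)
    have a := congrFun (congrFun h1 0) 0
    have d := congrFun (congrFun h1 1) 1
    have c := congrFun (congrFun h3 0) 0
    simp [Matrix.mul_apply, Fin.sum_univ_two, Matrix.vecMul, dotProduct] at a d c
    have ha : (A : M2) 0 0 = 0 :=
      (mul_eq_zero.1 (show (2 : F) * (A : M2) 0 0 = 0 by linear_combination -a)).resolve_left h2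
    exact (A.isUnit.map Matrix.detMonoidHom).ne_zero (by simp [Matrix.det_fin_two, ha, c])
  have hg0 : conjHom g0 ∉ φ.range := by
    rintro ⟨s, hs⟩
    have h1 : conjHom ((SpecialLinearGroup.toGL s)⁻¹ * g0) = 1 := by
      rw [map_mul, map_inv, inv_mul_eq_one]; exact hs
    obtain ⟨h01, h10, h00⟩ := scalar_of_conj_eq_one h1
    set B := (SpecialLinearGroup.toGL s)⁻¹ * g0 with hB
    have hdet : (B : M2).det = (δ : F) := by
      have hb : GeneralLinearGroup.det B = δ := by
        have hs1 : GeneralLinearGroup.det (SpecialLinearGroup.toGL s) = 1 := Units.ext (by simp)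
        rw [hB, map_mul, map_inv, hs1, inv_one, one_mul]
        exact Units.ext (by simp [g0, Matrix.det_fin_two])
      rw [← hb]; simp
    rw [Matrix.det_fin_two, h01, ← h00] at hdet
    exact hδ ⟨(B : M2) 0 0, by linear_combination -hdet⟩
  have hnorm : φ.range.Normal := by
    refine normal_of_two_outside hi (a := neg) (b := conjHom g0) ?_ ?_ ?_ hg0 ?_
    · rintro x ⟨s, rfl⟩
      refine ⟨s, ?_⟩
      rw [eq_mul_inv_iff_mul_eq]
      refine iso_ext fun v => ?_
      rw [iso_mul_mulVec, iso_mul_mulVec, hneg, hneg, Matrix.mulVec_neg]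
    · rintro x ⟨s, rfl⟩
      refine ⟨⟨_, (show ((g0 * SpecialLinearGroup.toGL s * g0⁻¹ : GL (Fin 2) F) : M2).det = 1 by
        rw [Units.val_mul, Units.val_mul, det_units_conj]; exact s.2)⟩, ?_⟩
      change conjHom _ = conjHom g0 * conjHom (SpecialLinearGroup.toGL s) * (conjHom g0)⁻¹
      rw [← map_inv, ← map_mul, ← map_mul]
      congr 1
      exact Units.ext rfl
    · rintro ⟨s, hs⟩; exact hneg_ne _ hs
    · rintro ⟨s, hs⟩
      refine hneg_ne (g0 * (SpecialLinearGroup.toGL s)⁻¹) ?_
      rw [map_mul, map_inv]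
      change conjHom g0 * (φ s)⁻¹ = neg
      rw [hs]; group
  have hsub : φ.range ≤ commutator O3 := by
    rintro x ⟨s, rfl⟩
    have h := Subgroup.mem_map_of_mem conjHom (toGL_mem_commutator hq3 s)
    rw [commutator_def, Subgroup.map_commutator] at h
    exact Subgroup.commutator_mono le_top le_top h
  exact pomega_equiv φ π hi hsub (QuotientGroup.mk'_surjective _) hker
    (by rw [QuotientGroup.ker_mk']) (center_psl_two hq3)

end Cfsg.Agent.H27.RankThree
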