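import Mathlib

/-! Elements inverted by others, and pairs of involutions with a given product. -/

set_option autoImplicit false

namespace Cfsg.Agent.H27.RealElements

variable {G : Type*} [Group G]

/-- The elements inverting `x` form a coset of its centraliser. -/
theorem card_inverting (x g : G) (hg : g * x * g⁻¹ = x⁻¹) :
    Nat.card {h : G // h * x * h⁻¹ = x⁻¹} = Nat.card (Subgroup.centralizer ({x} : Set G)) := by
  refine Nat.card_congr
    { toFun := fun h => ⟨g⁻¹ * h.1, ?_⟩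
      invFun := fun c => ⟨g * c.1, ?_⟩
      left_inv := fun h => by ext; simp
      right_inv := fun c => by ext; simp }
  · rw [Subgroup.mem_centralizer_singleton_iff]
    have : g⁻¹ * (h.1 * x * h.1⁻¹) * g = x := by
      rw [h.2, ← hg]; group
    calc g⁻¹ * h.1 * x = (g⁻¹ * (h.1 * x * h.1⁻¹) * g) * (g⁻¹ * h.1) := by group
      _ = x * (g⁻¹ * h.1) := by rw [this]
  · have hc := Subgroup.mem_centralizer_singleton_iff.1 c.2
    calc g * c.1 * x * (g * c.1)⁻¹ = g * (c.1 * x) * c.1⁻¹ * g⁻¹ := by group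
      _ = g * x * g⁻¹ := by rw [hc]; group
      _ = x⁻¹ := hg

theorem exists_inverter {x : G} (hreal : IsConj x x⁻¹) : ∃ g : G, g * x * g⁻¹ = x⁻¹ :=
  isConj_iff.1 hreal

theorem sq_commute {x g : G} (hg : g * x * g⁻¹ = x⁻¹) : Commute (g * g) x := by
  have h2 : g * x⁻¹ * g⁻¹ = x := by
    have := congrArg (·⁻¹) hg
    simpa [mul_assoc] using this
  have : g * g * x * (g * g)⁻¹ = x := by
    calc g * g * x * (g * g)⁻¹ = g * (g * x * g⁻¹) * g⁻¹ := by group
      _ = x := by rw [hg]; exact h2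
  calc g * g * x = (g * g * x * (g * g)⁻¹) * (g * g) := by group
    _ = x * (g * g) := by rw [this]

theorem pow_inverts {x g : G} (hg : g * x * g⁻¹ = x⁻¹) {m : ℕ} (hm : Odd m) :
    g ^ m * x * (g ^ m)⁻¹ = x⁻¹ := by
  obtain ⟨k, rfl⟩ := hm
  have hc : Commute ((g * g) ^ k) x⁻¹ := ((sq_commute hg).pow_left k).inv_right
  calc g ^ (2 * k + 1) * x * (g ^ (2 * k + 1))⁻¹
      = (g * g) ^ k * (g * x * g⁻¹) * ((g * g) ^ k)⁻¹ := by
        rw [pow_succ, pow_mul, pow_two, mul_inv_rev]; group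
    _ = x⁻¹ := by rw [hg, hc.eq]; group

theorem sq_eq_one_of_orderOf {u : G} (hu : orderOf u = 2) : u * u = 1 := by
  rw [← pow_two, ← hu]; exact pow_orderOf_eq_one u

theorem inv_of_orderOf {u : G} (hu : orderOf u = 2) : u⁻¹ = u :=
  inv_eq_of_mul_eq_one_right (sq_eq_one_of_orderOf hu)

theorem pair_inverts {x u v : G} (hu : orderOf u = 2) (hv : orderOf v = 2) (h : u * v = x) :
    u * x * u⁻¹ = x⁻¹ := by
  subst h
  rw [mul_inv_rev, inv_of_orderOf hv, inv_of_orderOf hu, ← mul_assoc, sq_eq_one_of_orderOf hu,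
    one_mul]

theorem ne_one_of_orderOf {u : G} (hu : orderOf u = 2) : u ≠ 1 := by
  rintro rfl; simp at hu

end Cfsg.Agent.H27.RealElements
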