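import Cfsg.Agent.H27.PermFamily
import Cfsg.Agent.Linear.Simple
import Cfsg.Agent.Linear.TwoSL

/-! `PSL₂(7) ≅ PSL₃(2)` via the extended Hamming code on the projective line over `𝔽₇`. -/

set_option autoImplicit false

namespace Cfsg.Agent.H27.SevenPoints

instance : Fact (Nat.Prime 7) := ⟨by norm_num⟩

open Matrix

/-- the three basic code words as masks on vectors of `𝔽₇²` -/
def masks : Fin 3 → ℕ := ![196556699900542, 390409399405950, 347058175981824]

/-- bit of the `i`-th code word at a vector -/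
def bit (i : Fin 3) (a b : ZMod 7) : ZMod 2 :=
  if (masks i).testBit (7 * a.val + b.val) then 1 else 0

/-- the code word of `v` -/
def word (v : Fin 3 → ZMod 2) (a b : ZMod 7) : ZMod 2 :=
  v 0 * bit 0 a b + v 1 * bit 1 a b + v 2 * bit 2 a b

theorem word_add (v w : Fin 3 → ZMod 2) (a b : ZMod 7) :
    word (v + w) a b = word v a b + word w a b := by
  simp only [word, Pi.add_apply]; ring

theorem word_const : ∀ x y z : ZMod 2, (∀ a b : ZMod 7, ¬(a = 0 ∧ b = 0) → word ![x, y, z] a b = word ![x, y, z] 0 1) →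
    x = 0 ∧ y = 0 ∧ z = 0 := by
  decide +kernel

theorem stable_transvection : ∀ (c : ZMod 7) (x y z : ZMod 2),
    (∃ x' y' z' e : ZMod 2, ∀ a b : ZMod 7, ¬(a = 0 ∧ b = 0) →
      word ![x', y', z'] (a + c * b) b = word ![x, y, z] a b + e) ∧
    (∃ x' y' z' e : ZMod 2, ∀ a b : ZMod 7, ¬(a = 0 ∧ b = 0) →
      word ![x', y', z'] a (c * a + b) = word ![x, y, z] a b + e) := by
  decide +kernel

theorem neg_invariant : ∀ (i : Fin 3) (a b : ZMod 7), bit i (-a) (-b) = bit i a b := by
  decide +kernel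

theorem moved : ∀ e : ZMod 2, ∃ a b : ZMod 7, ¬(a = 0 ∧ b = 0) ∧
    word ![1, 0, 0] (a + b) b ≠ word ![1, 0, 0] a b + e := by
  decide +kernel

theorem vec3 (v : Fin 3 → ZMod 2) : v = ![v 0, v 1, v 2] := by
  funext k; fin_cases k <;> rfl

theorem ne_zero_iff (x : Fin 2 → ZMod 7) : x ≠ 0 ↔ ¬(x 0 = 0 ∧ x 1 = 0) := by
  simp [funext_iff, Fin.forall_fin_two]

/-- `g` maps the word of `v` to the word of `w`, up to a constant. -/
def Rel (g : SpecialLinearGroup (Fin 2) (ZMod 7)) (v w : Fin 3 → ZMod 2) : Prop :=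
  ∃ e : ZMod 2, ∀ x : Fin 2 → ZMod 7, x ≠ 0 →
    word w ((g • x) 0) ((g • x) 1) = word v (x 0) (x 1) + e

theorem rel_unique {g : SpecialLinearGroup (Fin 2) (ZMod 7)} {v w w' : Fin 3 → ZMod 2}
    (h : Rel g v w) (h' : Rel g v w') : w = w' := by
  obtain ⟨e, he⟩ := h
  obtain ⟨e', he'⟩ := h'
  have key : ∀ y : Fin 2 → ZMod 7, y ≠ 0 → word (w + w') (y 0) (y 1) = e + e' := by
    intro y hy
    have hx : g⁻¹ • y ≠ 0 := (smul_ne_zero_iff_ne g⁻¹).2 hy
    have h1 := he _ hx
    have h2 := he' _ hx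
    rw [smul_inv_smul] at h1 h2
    rw [word_add, h1, h2]
    linear_combination CharTwo.two_eq_zero (R := ZMod 2) * word v ((g⁻¹ • y) 0) ((g⁻¹ • y) 1)
  have h0 : ∀ a b : ZMod 7, ¬(a = 0 ∧ b = 0) → word (w + w') a b = e + e' := fun a b hab =>
    key ![a, b] ((ne_zero_iff _).2 hab)
  obtain ⟨hx, hy, hz⟩ := word_const ((w + w') 0) ((w + w') 1) ((w + w') 2) (fun a b hab => by
    rw [← vec3 (w + w'), h0 a b hab, h0 0 1 (by decide)])
  have hsum : w + w' = 0 := by
    rw [vec3 (w + w'), hx, hy, hz]; funext k; fin_cases k <;> rfl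
  funext k
  have := congrFun hsum k
  simp only [Pi.add_apply, Pi.zero_apply] at this
  exact (CharTwo.add_eq_zero).1 this

theorem rel_add {g : SpecialLinearGroup (Fin 2) (ZMod 7)} {v v' w w' : Fin 3 → ZMod 2}
    (h : Rel g v w) (h' : Rel g v' w') : Rel g (v + v') (w + w') := by
  obtain ⟨e, he⟩ := h
  obtain ⟨e', he'⟩ := h'
  exact ⟨e + e', fun x hx => by rw [word_add, word_add, he x hx, he' x hx]; ring⟩

theorem rel_mul {g k : SpecialLinearGroup (Fin 2) (ZMod 7)} {u v w : Fin 3 → ZMod 2}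
    (hk : Rel k u v) (hg : Rel g v w) : Rel (g * k) u w := by
  obtain ⟨e, he⟩ := hk
  obtain ⟨e', he'⟩ := hg
  refine ⟨e + e', fun x hx => ?_⟩
  rw [mul_smul, he' _ ((smul_ne_zero_iff_ne k).2 hx), he x hx, add_assoc]

theorem rel_one (v : Fin 3 → ZMod 2) : Rel 1 v v :=
  ⟨0, fun x _ => by rw [one_smul, add_zero]⟩

theorem exists_rel : ∀ (g : SpecialLinearGroup (Fin 2) (ZMod 7)) (v : Fin 3 → ZMod 2),
    ∃ w, Rel g v w := by
  intro g
  induction g using Cfsg.Agent.Linear.transvection_induction with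
  | one => exact fun v => ⟨v, rel_one v⟩
  | htr i j hij c =>
    intro v
    fin_cases i <;> fin_cases j <;> try exact absurd rfl hij
    · obtain ⟨x', y', z', e, he⟩ := (stable_transvection c (v 0) (v 1) (v 2)).1
      refine ⟨![x', y', z'], e, fun x hx => ?_⟩
      conv_rhs => rw [vec3 v, ← he _ _ ((ne_zero_iff x).1 hx)]
      congr 1 <;> rw [Cfsg.Agent.Linear.transvection_smul_apply] <;> simp
    · obtain ⟨x', y', z', e, he⟩ := (stable_transvection c (v 0) (v 1) (v 2)).2
      refine ⟨![x', y', z'], e, fun x hx => ?_⟩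
      conv_rhs => rw [vec3 v, ← he _ _ ((ne_zero_iff x).1 hx)]
      congr 1 <;> rw [Cfsg.Agent.Linear.transvection_smul_apply] <;> simp [add_comm]
  | hmul a b ha hb =>
    intro v
    obtain ⟨w, hw⟩ := hb v
    obtain ⟨u, hu⟩ := ha w
    exact ⟨u, rel_mul hw hu⟩

/-- the action on code words modulo constants, additive -/
noncomputable def lin (g : SpecialLinearGroup (Fin 2) (ZMod 7)) :
    (Fin 3 → ZMod 2) →ₗ[ZMod 2] (Fin 3 → ZMod 2) :=
  AddMonoidHom.toZModLinearMap 2
    (AddMonoidHom.mk' (fun v => (exists_rel g v).choose) fun v w =>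
      rel_unique (exists_rel g (v + w)).choose_spec
        (rel_add (exists_rel g v).choose_spec (exists_rel g w).choose_spec))

theorem lin_rel (g : SpecialLinearGroup (Fin 2) (ZMod 7)) (v : Fin 3 → ZMod 2) :
    Rel g v (lin g v) :=
  (exists_rel g v).choose_spec

theorem lin_eq {g : SpecialLinearGroup (Fin 2) (ZMod 7)} {v w : Fin 3 → ZMod 2} (h : Rel g v w) :
    lin g v = w :=
  rel_unique (lin_rel g v) h

/-- the representation in degree three over `𝔽₂` -/
noncomputable def rep : SpecialLinearGroup (Fin 2) (ZMod 7) →* GL (Fin 3) (ZMod 2) :=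
  MonoidHom.toHomUnits
    { toFun := fun g => LinearMap.toMatrix' (lin g)
      map_one' := by
        rw [← LinearMap.toMatrix'_id]
        congr 1
        exact LinearMap.ext fun v => lin_eq (rel_one v)
      map_mul' := fun g k => by
        rw [← LinearMap.toMatrix'_comp]
        congr 1
        exact LinearMap.ext fun v => lin_eq (rel_mul (lin_rel k v) (lin_rel g _)) }

theorem rep_eq_one_iff (g : SpecialLinearGroup (Fin 2) (ZMod 7)) :
    rep g = 1 ↔ ∀ v, Rel g v v := by
  rw [← Units.val_inj]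
  change LinearMap.toMatrix' (lin g) = 1 ↔ _
  rw [← LinearMap.toMatrix'_id, (LinearMap.toMatrix').injective.eq_iff]
  constructor
  · intro h v
    have := lin_rel g v
    rwa [h] at this
  · intro h
    exact LinearMap.ext fun v => lin_eq (h v)

theorem center_le : Subgroup.center (SpecialLinearGroup (Fin 2) (ZMod 7)) ≤ rep.ker := by
  intro z hz
  rw [MonoidHom.mem_ker, rep_eq_one_iff]
  intro v
  rcases Cfsg.Agent.Linear.mem_center_SL_two.1 hz with rfl | rfl
  · exact rel_one v
  · refine ⟨0, fun x _ => ?_⟩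
    have : (-1 : SpecialLinearGroup (Fin 2) (ZMod 7)) • x = -x := by
      change ((-1 : SpecialLinearGroup (Fin 2) (ZMod 7)) : Matrix (Fin 2) (Fin 2) (ZMod 7)) *ᵥ x = _
      rw [SpecialLinearGroup.coe_neg]
      change (-(1 : Matrix (Fin 2) (Fin 2) (ZMod 7))) *ᵥ x = _
      rw [Matrix.neg_mulVec, Matrix.one_mulVec]
    rw [this, add_zero, Pi.neg_apply, Pi.neg_apply, word, word, neg_invariant, neg_invariant,
      neg_invariant]

theorem card_GL_three_two : Nat.card (GL (Fin 3) (ZMod 2)) = 168 := by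
  rw [Matrix.card_GL_field, ZMod.card, Fin.prod_univ_three]
  rfl

theorem psl_two_seven :
    Nonempty (ProjectiveSpecialLinearGroup (Fin 2) (ZMod 7) ≃* GL (Fin 3) (ZMod 2)) := by
  have : Fact (Nat.Prime 7) := ⟨by norm_num⟩
  have : IsSimpleGroup (ProjectiveSpecialLinearGroup (Fin 2) (ZMod 7)) :=
    Matrix.ProjectiveSpecialLinearGroup.rank_two_simple
      (by rw [Nat.card_eq_fintype_card, ZMod.card]; norm_num)
  let g : ProjectiveSpecialLinearGroup (Fin 2) (ZMod 7) →* GL (Fin 3) (ZMod 2) :=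
    QuotientGroup.lift _ rep center_le
  have hg : Function.Injective g := by
    rcases Subgroup.Normal.eq_bot_or_eq_top (MonoidHom.normal_ker g) with h0 | h0
    · exact (MonoidHom.ker_eq_bot_iff g).1 h0
    · exfalso
      let t : SpecialLinearGroup (Fin 2) (ZMod 7) :=
        SpecialLinearGroup.transvection (zero_ne_one (α := Fin 2)) 1
      have ht : rep t = 1 := MonoidHom.mem_ker.1
        (h0 ▸ Subgroup.mem_top (QuotientGroup.mk t : ProjectiveSpecialLinearGroup (Fin 2) (ZMod 7)) :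
          (QuotientGroup.mk t : ProjectiveSpecialLinearGroup (Fin 2) (ZMod 7)) ∈ g.ker)
      obtain ⟨e, he⟩ := (rep_eq_one_iff t).1 ht ![1, 0, 0]
      obtain ⟨a, b, hab, hne⟩ := moved e
      apply hne
      have := he ![a, b] ((ne_zero_iff _).2 hab)
      simp only [t, Cfsg.Agent.Linear.transvection_smul_apply] at this
      simpa using this
  have hb : Function.Bijective g := (Nat.bijective_iff_injective_and_card g).2 ⟨hg, by
    have := Cfsg.Agent.Linear.card_PSL_two_mul (F := ZMod 7)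
    rw [ZMod.card, show Nat.gcd 2 (7 - 1) = 2 from rfl] at this
    rw [card_GL_three_two]
    omega⟩
  exact ⟨MulEquiv.ofBijective g hb⟩

theorem psl_three_two_equiv {K : Type*} [Field K] [Fintype K] (hK : Fintype.card K = 2) :
    Nonempty (ProjectiveSpecialLinearGroup (Fin 3) K ≃* GL (Fin 3) (ZMod 2)) := by
  let e := Cfsg.Agent.H27.PermFamily.pslCongr (ι := Fin 3)
    (FiniteField.ringEquivOfCardEq (K := K) (K' := ZMod 2) (by rw [hK, ZMod.card]))
  let g : ProjectiveSpecialLinearGroup (Fin 3) (ZMod 2) →* GL (Fin 3) (ZMod 2) :=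
    QuotientGroup.lift _ SpecialLinearGroup.toGL (fun z hz => by
      have h1 : Nat.card (Subgroup.center (SpecialLinearGroup (Fin 3) (ZMod 2))) = 1 := by
        rw [Cfsg.Agent.Linear.card_center_SL, ZMod.card]; rfl
      rw [Subgroup.card_eq_one] at h1
      rw [h1, Subgroup.mem_bot] at hz
      rw [hz]; exact one_mem _)
  have hsurj : Function.Surjective g := by
    intro A
    have hd : (A : Matrix (Fin 3) (Fin 3) (ZMod 2)).det = 1 :=
      (show ∀ u : ZMod 2, u ≠ 0 → u = 1 by decide) _ (A.isUnit.map Matrix.detMonoidHom).ne_zero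
    exact ⟨QuotientGroup.mk (⟨A.1, hd⟩ : SpecialLinearGroup (Fin 3) (ZMod 2)), Units.ext rfl⟩
  have hcard : Nat.card (ProjectiveSpecialLinearGroup (Fin 3) (ZMod 2)) = 168 := by
    have := Cfsg.Agent.Linear.card_PSL_mul (F := ZMod 2) 3 (by norm_num)
    rw [ZMod.card, Fin.prod_univ_three, show Nat.gcd 3 (2 - 1) = 1 from rfl] at this
    rw [one_mul, show (2 - 1 : ℕ) = 1 from rfl, one_mul] at this
    rw [this]; rfl
  have hb : Function.Bijective g := (Nat.bijective_iff_surjective_and_card g).2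
    ⟨hsurj, by rw [hcard, card_GL_three_two]⟩
  exact ⟨e.trans (MulEquiv.ofBijective g hb)⟩

theorem psl_two_seven_equiv {F K : Type*} [Field F] [Fintype F] [Field K] [Fintype K]
    (hF : Fintype.card F = 7) (hK : Fintype.card K = 2) :
    Nonempty (ProjectiveSpecialLinearGroup (Fin 2) F ≃* ProjectiveSpecialLinearGroup (Fin 3) K) := by
  have : Fact (Nat.Prime 7) := ⟨by norm_num⟩
  obtain ⟨a⟩ := psl_two_seven
  obtain ⟨b⟩ := psl_three_two_equiv hK
  exact ⟨((Cfsg.Agent.H27.PermFamily.pslCongr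
    (FiniteField.ringEquivOfCardEq (K := F) (K' := ZMod 7) (by rw [hF, ZMod.card]))).trans a).trans
    b.symm⟩

end Cfsg.Agent.H27.SevenPoints
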