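import Cfsg.Agent.H27.LowRank

/-! The elementary subgroup of the split orthogonal group `O⁺_{2n}(F)` over any field. -/

set_option autoImplicit false

namespace Cfsg.Agent.H27.SplitOrtho

open Matrix Cfsg.Agent.H27.LowRank

variable {n : ℕ} {F : Type*} [Field F]

local notation "I2" => (Fin n ⊕ Fin n)
local notation "V" => (Fin n ⊕ Fin n → F)
local notation "MV" => Matrix (Fin n ⊕ Fin n) (Fin n ⊕ Fin n) F
local notation "O" => Cfsg.isometryGroup F (Cfsg.quadFormPlus n F)

/-- the partner index -/
abbrev op {n : ℕ} (a : Fin n ⊕ Fin n) : Fin n ⊕ Fin n := a.swap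

/-- the pair of an index -/
abbrev pr {n : ℕ} (a : Fin n ⊕ Fin n) : Fin n := Sum.elim id id a

theorem op_op (a : I2) : op (op a) = a := Sum.swap_swap a

theorem op_ne (a : I2) : op a ≠ a := by rcases a with i | i <;> simp [op]

theorem pr_op (a : I2) : pr (op a) = pr a := by rcases a with i | i <;> rfl

theorem pr_eq_iff (a b : I2) : pr a = pr b ↔ a = b ∨ a = op b := by
  rcases a with i | i <;> rcases b with j | j <;> simp [pr, op]

theorem ne_of_pr {a b : I2} (h : pr a ≠ pr b) :
    a ≠ b ∧ a ≠ op b ∧ op a ≠ b ∧ op a ≠ op b ∧ b ≠ a ∧ op b ≠ a ∧ b ≠ op a ∧ op b ≠ op a := by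
  rcases a with i | i <;> rcases b with j | j <;> simp_all [pr, op, eq_comm]

theorem quad_add_single (v : V) (a : I2) (c : F) :
    Cfsg.quadFormPlus n F (v + Pi.single a c) = Cfsg.quadFormPlus n F v + c * v (op a) := by
  simp only [Cfsg.quadFormPlus]
  rcases a with i | i
  · rw [show c * v (op (.inl i)) = ∑ j, (if j = i then c * v (.inr j) else 0) by simp [op],
      ← Finset.sum_add_distrib]
    refine Finset.sum_congr rfl fun j _ => ?_
    by_cases h : j = i <;> simp [h]
    ring
  · rw [show c * v (op (.inr i)) = ∑ j, (if j = i then c * v (.inl j) else 0) by simp [op],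
      ← Finset.sum_add_distrib]
    refine Finset.sum_congr rfl fun j _ => ?_
    by_cases h : j = i <;> simp [h]
    ring

theorem quad_single (a : I2) (c : F) : Cfsg.quadFormPlus n F (Pi.single a c) = 0 := by
  have := quad_add_single (0 : V) a c
  simpa [Cfsg.quadFormPlus] using this

/-- polar form against a basis vector -/
theorem coord_eq (v : V) (a : I2) :
    v (op a) = Cfsg.quadFormPlus n F (v + Pi.single a 1) - Cfsg.quadFormPlus n F v := by
  rw [quad_add_single]; ring

/-- the matrix of an elementary transformation -/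
def elMat (a b : I2) (t : F) : MV :=
  1 + Matrix.single a (op b) t - Matrix.single b (op a) t

theorem elMat_mulVec (a b : I2) (t : F) (v : V) :
    elMat a b t *ᵥ v = v + Pi.single a (t * v (op b)) - Pi.single b (t * v (op a)) := by
  funext k
  simp [elMat, Matrix.add_mulVec, Matrix.sub_mulVec, Matrix.single_mulVec, Function.update_apply,
    Pi.single_apply]

theorem elMat_add {a b : I2} (h : pr a ≠ pr b) (t u : F) :
    elMat a b t * elMat a b u = elMat a b (t + u) := by
  obtain ⟨h1, h2, h3, h4, h5, h6, h7, h8⟩ := ne_of_pr h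
  refine Matrix.ext_iff_mulVec.2 fun v => ?_
  rw [← Matrix.mulVec_mulVec, elMat_mulVec, elMat_mulVec, elMat_mulVec]
  simp only [Pi.add_apply, Pi.sub_apply, Pi.single_eq_of_ne h4, Pi.single_eq_of_ne h6,
    Pi.single_eq_of_ne (op_ne a), Pi.single_eq_of_ne h3, Pi.single_eq_of_ne (op_ne b),
    add_zero, sub_zero, add_mul, Pi.single_add]
  abel

theorem elMat_zero (a b : I2) : elMat a b (0 : F) = 1 := by simp [elMat]

theorem elMat_quad {a b : I2} (h : pr a ≠ pr b) (t : F) (v : V) :
    Cfsg.quadFormPlus n F (elMat a b t *ᵥ v) = Cfsg.quadFormPlus n F v := by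
  obtain ⟨h1, h2, h3, h4, h5, h6, h7, h8⟩ := ne_of_pr h
  rw [elMat_mulVec, sub_eq_add_neg, ← Pi.single_neg, quad_add_single, quad_add_single]
  simp only [Pi.add_apply, Pi.single_eq_of_ne h6]
  ring

/-- an elementary transformation as an isometry -/
def el (a b : I2) (h : pr a ≠ pr b) (t : F) : O :=
  ⟨⟨elMat a b t, elMat a b (-t), by rw [elMat_add h, add_neg_cancel, elMat_zero],
    by rw [elMat_add h, neg_add_cancel, elMat_zero]⟩, fun v _ => elMat_quad h t v⟩

theorem el_mulVec {a b : I2} (h : pr a ≠ pr b) (t : F) (v : V) :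
    ((el a b h t).1 : MV) *ᵥ v = v + Pi.single a (t * v (op b)) - Pi.single b (t * v (op a)) :=
  elMat_mulVec a b t v

theorem el_val {a b : I2} (h : pr a ≠ pr b) (t : F) : ((el a b h t).1 : MV) = elMat a b t := rfl

theorem el_inv_val {a b : I2} (h : pr a ≠ pr b) (t : F) : (el a b h t)⁻¹ = el a b h (-t) :=
  Subtype.ext (Units.ext rfl)

theorem el_mul {a b : I2} (h : pr a ≠ pr b) (t u : F) : el a b h t * el a b h u = el a b h (t + u) :=
  Subtype.ext (Units.ext (elMat_add h t u))

theorem el_swap {a b : I2} (h : pr a ≠ pr b) (t : F) : el b a h.symm t = el a b h (-t) := by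
  refine iso_ext fun v => ?_
  rw [el_mulVec, el_mulVec, neg_mul, neg_mul, Pi.single_neg, Pi.single_neg]
  abel

/-- the elementary subgroup -/
def elGroup (n : ℕ) (F : Type*) [Field F] : Subgroup (Cfsg.isometryGroup F (Cfsg.quadFormPlus n F)) :=
  Subgroup.closure {g | ∃ a b h t, g = el a b h t}

theorem el_mem {a b : I2} (h : pr a ≠ pr b) (t : F) : el a b h t ∈ elGroup n F :=
  Subgroup.subset_closure ⟨a, b, h, t, rfl⟩

theorem el_fix {a b c : I2} (h : pr a ≠ pr b) (t s : F) (ha : c ≠ op a) (hb : c ≠ op b) :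
    ((el a b h t).1 : MV) *ᵥ Pi.single c s = Pi.single c s := by
  rw [el_mulVec]
  simp [Pi.single_eq_of_ne ha.symm, Pi.single_eq_of_ne hb.symm]

set_option maxHeartbeats 1000000 in
theorem commutator_el {a b c : I2} (hab : pr a ≠ pr b) (hbc : pr b ≠ pr c) (hac : pr a ≠ pr c)
    (hbc' : pr (op b) ≠ pr c) (t u : F) :
    el a b hab t * el (op b) c hbc' u * (el a b hab t)⁻¹ * (el (op b) c hbc' u)⁻¹ =
      el a c hac (t * u) := by
  obtain ⟨a1, a2, a3, a4, a5, a6, a7, a8⟩ := ne_of_pr hab
  obtain ⟨b1, b2, b3, b4, b5, b6, b7, b8⟩ := ne_of_pr hbc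
  obtain ⟨c1, c2, c3, c4, c5, c6, c7, c8⟩ := ne_of_pr hac
  refine iso_ext fun v => ?_
  rw [iso_mul_mulVec, iso_mul_mulVec, iso_mul_mulVec, el_inv_val, el_inv_val, el_mulVec, el_mulVec,
    el_mulVec, el_mulVec, el_mulVec]
  simp only [op_op, Pi.add_apply, Pi.sub_apply, Pi.single_apply, a1, a2, a3, a4, a5, a6, a7, a8, b1, b2, b3, b4,
    b5, b6, b7, b8, c1, c2, c3, c4, c5, c6, c7, c8, op_ne, Ne.symm (op_ne b), Ne.symm (op_ne a),
    Ne.symm (op_ne c), if_false, if_true]
  funext k
  simp only [Pi.add_apply, Pi.sub_apply, Pi.single_apply]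
  by_cases ka : k = a <;> by_cases kb : k = b <;> by_cases kb' : k = op b <;> by_cases kc : k = c <;>
    simp_all <;> ring

theorem exists_third (hn : 3 ≤ n) (i j : Fin n) : ∃ k : Fin n, k ≠ i ∧ k ≠ j := by
  classical
  obtain ⟨k, -, hk⟩ := Finset.exists_mem_notMem_of_card_lt_card (t := (Finset.univ : Finset (Fin n)))
    (s := {i, j}) (lt_of_le_of_lt (Finset.card_insert_le _ _) (by
      rw [Finset.card_singleton, Finset.card_univ, Fintype.card_fin]; omega))
  simp at hk
  exact ⟨k, hk.1, hk.2⟩

theorem elGroup_le_commutator (hn : 3 ≤ n) : elGroup n F ≤ commutator O := by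
  rw [elGroup, Subgroup.closure_le]
  rintro x ⟨a, c, hac, t, rfl⟩
  obtain ⟨k, hka, hkc⟩ := exists_third hn (pr a) (pr c)
  have hab : pr a ≠ pr (Sum.inl k : I2) := Ne.symm hka
  have hbc : pr (Sum.inl k : I2) ≠ pr c := hkc
  have hbc' : pr (op (Sum.inl k : I2)) ≠ pr c := hkc
  have h := commutator_el hab hbc hac hbc' t 1
  rw [mul_one] at h
  rw [SetLike.mem_coe, ← h, commutator_def, ← commutatorElement_def]
  exact Subgroup.commutator_mem_commutator (Subgroup.mem_top _) (Subgroup.mem_top _)

/-- isometries with the basis vectors as eigenvectors -/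
def IsDiagO (g : O) : Prop := ∃ d : I2 → F, ∀ a, (g.1 : MV) *ᵥ Pi.single a 1 = Pi.single a (d a)

theorem iso_ext_single {g h : O}
    (e : ∀ a, (g.1 : MV) *ᵥ Pi.single a 1 = (h.1 : MV) *ᵥ Pi.single a 1) : g = h :=
  Subtype.ext (Units.ext (Matrix.ext_of_mulVec_single e))

theorem single_mulVec (g : O) {a : I2} {w : V} (h : (g.1 : MV) *ᵥ Pi.single a 1 = w) (c : F) :
    (g.1 : MV) *ᵥ Pi.single a c = c • w := by
  rw [← h, ← Matrix.mulVec_smul, ← Pi.single_smul, smul_eq_mul, mul_one]

theorem iso_quad (g : O) (v : V) : Cfsg.quadFormPlus n F ((g.1 : MV) *ᵥ v) = Cfsg.quadFormPlus n F v :=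
  g.2 v 0

theorem iso_coord (g : O) {a : I2} {d : F} (h : (g.1 : MV) *ᵥ Pi.single a 1 = Pi.single a d) (v : V) :
    d * ((g.1 : MV) *ᵥ v) (op a) = v (op a) := by
  have e := quad_add_single ((g.1 : MV) *ᵥ v) a d
  rw [← h, ← Matrix.mulVec_add, iso_quad, iso_quad, quad_add_single] at e
  linear_combination -e

theorem diag_mul_pair {g : O} {d : I2 → F} (h : ∀ a, (g.1 : MV) *ᵥ Pi.single a 1 = Pi.single a (d a))
    (a : I2) : d a * d (op a) = 1 := by
  have := iso_coord g (h a) (Pi.single (op a) 1)
  rwa [h, Pi.single_eq_same, Pi.single_eq_same] at this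

theorem diag_mulVec {g : O} {d : I2 → F} (h : ∀ a, (g.1 : MV) *ᵥ Pi.single a 1 = Pi.single a (d a))
    (v : V) : (g.1 : MV) *ᵥ v = fun a => d a * v a := by
  funext a
  have h1 := iso_coord g (h (op a)) v
  rw [op_op] at h1
  have h2 := diag_mul_pair h a
  linear_combination d a * h1 - ((g.1 : MV) *ᵥ v) a * h2

theorem diag_commute {g h : O} (hg : IsDiagO g) (hh : IsDiagO h) : g * h = h * g := by
  obtain ⟨d, hd⟩ := hg
  obtain ⟨d', hd'⟩ := hh
  refine iso_ext fun v => ?_
  rw [iso_mul_mulVec, iso_mul_mulVec, diag_mulVec hd, diag_mulVec hd', diag_mulVec hd', diag_mulVec hd]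
  funext a; ring

theorem conj_mem_of_gen {g : O} (h : ∀ a b hab (t : F), g * el a b hab t * g⁻¹ ∈ elGroup n F) {x : O}
    (hx : x ∈ elGroup n F) : g * x * g⁻¹ ∈ elGroup n F := by
  refine (Subgroup.closure_le ((elGroup n F).comap (MulAut.conj g).toMonoidHom)).2 ?_ hx
  rintro x ⟨a, b, hab, t, rfl⟩
  simpa using h a b hab t

theorem diag_normalises {g : O} (hg : IsDiagO g) {x : O} (hx : x ∈ elGroup n F) :
    g * x * g⁻¹ ∈ elGroup n F := by
  obtain ⟨d, hd⟩ := hg
  refine conj_mem_of_gen (fun a b hab t => ?_) hx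
  have : g * el a b hab t * g⁻¹ = el a b hab (d a * d b * t) := by
    rw [mul_inv_eq_iff_eq_mul]
    refine iso_ext fun v => ?_
    rw [iso_mul_mulVec, iso_mul_mulVec, el_mulVec, el_mulVec, diag_mulVec hd, diag_mulVec hd]
    funext k
    have e1 := diag_mul_pair hd a
    have e2 := diag_mul_pair hd b
    simp only [Pi.add_apply, Pi.sub_apply, Pi.single_apply]
    by_cases ka : k = a <;> by_cases kb : k = b <;> simp_all <;> grind
  rw [this]; exact el_mem hab _

/-- exchanging the vectors of one pair -/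
def flipPerm (i : Fin n) : Equiv.Perm I2 := Equiv.swap (.inl i) (.inr i)

theorem flipPerm_op (i : Fin n) (a : I2) : flipPerm i (op a) = op (flipPerm i a) := by
  rcases a with j | j <;> by_cases h : j = i <;> simp [flipPerm, op, h, Equiv.swap_apply_def]

/-- exchanging the two vectors of one pair -/
noncomputable def flip (i : Fin n) : O :=
  isoInv (LinearMap.funLeft F F (flipPerm i))
    (fun v => by funext k; simp [LinearMap.funLeft_apply, flipPerm, Equiv.swap_apply_self])
    (fun v => by
      simp only [Cfsg.quadFormPlus, LinearMap.funLeft_apply]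
      refine Finset.sum_congr rfl fun j _ => ?_
      by_cases h : j = i <;> simp [flipPerm, h, Equiv.swap_apply_def, mul_comm])

theorem flip_mulVec (i : Fin n) (v : V) : (((flip i : O)).1 : MV) *ᵥ v = fun a => v (flipPerm i a) := by
  rw [flip, isoInv_mulVec]
  rfl

theorem flip_inv (i : Fin n) : (flip i : O)⁻¹ = flip i := Subtype.ext (Units.ext rfl)

theorem flip_single (i : Fin n) (a : I2) (c : F) :
    (((flip i : O)).1 : MV) *ᵥ Pi.single a c = Pi.single (flipPerm i a) c := by
  rw [flip_mulVec]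
  funext k
  have h2 : ∀ k, flipPerm i (flipPerm i k) = k := Equiv.swap_apply_self _ _
  by_cases hk : k = flipPerm i a
  · rw [hk, h2, Pi.single_eq_same, Pi.single_eq_same]
  · rw [Pi.single_eq_of_ne hk, Pi.single_eq_of_ne fun e => hk (by rw [← e, h2])]

theorem flip_normalises (i : Fin n) {x : O} (hx : x ∈ elGroup n F) :
    flip i * x * (flip i)⁻¹ ∈ elGroup n F := by
  refine conj_mem_of_gen (fun a b hab t => ?_) hx
  have hpr : ∀ a : I2, pr (flipPerm i a) = pr a := fun a => by
    rcases a with j | j <;> by_cases h : j = i <;> simp [flipPerm, h, Equiv.swap_apply_def]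
  have hab' : pr (flipPerm i a) ≠ pr (flipPerm i b) := by rwa [hpr, hpr]
  have : flip i * el a b hab t * (flip i)⁻¹ = el (flipPerm i a) (flipPerm i b) hab' t := by
    rw [mul_inv_eq_iff_eq_mul]
    refine iso_ext fun v => ?_
    have h2 : ∀ k, flipPerm i (flipPerm i k) = k := Equiv.swap_apply_self _ _
    rw [iso_mul_mulVec, iso_mul_mulVec, el_mulVec, el_mulVec, flip_mulVec, flip_mulVec]
    funext k
    simp only [Pi.add_apply, Pi.sub_apply, ← flipPerm_op, h2, Pi.single_apply, Equiv.apply_eq_iff_eq_symm_apply]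
    rfl
  rw [this]; exact el_mem hab' _

/-- elementary transformations inside the pairs from `k` on -/
def lower (k : ℕ) : Subgroup O :=
  Subgroup.closure {g | ∃ a b h t, k ≤ (pr a).val ∧ k ≤ (pr b).val ∧ g = el a b h t}

theorem lower_mem {k : ℕ} {a b : I2} (h : pr a ≠ pr b) (t : F) (ha : k ≤ (pr a).val) (hb : k ≤ (pr b).val) :
    el a b h t ∈ lower (n := n) (F := F) k := Subgroup.subset_closure ⟨a, b, h, t, ha, hb, rfl⟩

theorem lower_le (k : ℕ) : lower (n := n) (F := F) k ≤ elGroup n F :=
  (Subgroup.closure_le _).2 fun _ ⟨a, b, h, t, _, _, e⟩ => e ▸ el_mem h t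

theorem lower_fix {k : ℕ} {g : O} (hg : g ∈ lower (n := n) (F := F) k) {c : I2} (hc : (pr c).val < k)
    (s : F) : (g.1 : MV) *ᵥ Pi.single c s = Pi.single c s := by
  induction hg using Subgroup.closure_induction with
  | mem x hx =>
    obtain ⟨a, b, h, t, ha, hb, rfl⟩ := hx
    refine el_fix h t s (fun e => ?_) (fun e => ?_) <;> (rw [e, pr_op] at hc; omega)
  | one => rw [Subgroup.coe_one, Units.val_one, Matrix.one_mulVec]
  | mul x y _ _ hx hy => rw [iso_mul_mulVec, hy, hx]
  | inv x _ hx =>
    conv_lhs => rw [← hx]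
    rw [← iso_mul_mulVec, inv_mul_cancel, Subgroup.coe_one, Units.val_one, Matrix.one_mulVec]

/-- clearing a vector with non-zero coordinate at `p` -/
theorem clear_vec {p : I2} (v : V) (hp : v p ≠ 0) (hsupp : ∀ a, (pr a).val < (pr p).val → v a = 0)
    (hsing : Cfsg.quadFormPlus n F v = 0) :
    ∃ g ∈ lower (n := n) (F := F) (pr p).val,
      (g.1 : MV) *ᵥ v = Pi.single p (v p) ∧ ∀ s : F, (g.1 : MV) *ᵥ Pi.single (op p) s = Pi.single (op p) s := by
  classical
  have main : ∀ S : Finset I2, (∀ a ∈ S, (pr p).val < (pr a).val) →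
      ∃ g ∈ lower (n := n) (F := F) (pr p).val,
        ((g.1 : MV) *ᵥ v) p = v p ∧ (∀ a ∈ S, ((g.1 : MV) *ᵥ v) a = 0) ∧
        (∀ a, a ∉ S → a ≠ op p → ((g.1 : MV) *ᵥ v) a = v a) ∧
        ∀ s : F, (g.1 : MV) *ᵥ Pi.single (op p) s = Pi.single (op p) s := by
    intro S
    induction S using Finset.induction_on with
    | empty =>
      intro _
      exact ⟨1, one_mem _, by simp, by simp, by simp, fun s => by
        rw [Subgroup.coe_one, Units.val_one, Matrix.one_mulVec]⟩
    | @insert a S ha ih =>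
      intro hS
      obtain ⟨g, hg, gp, gS, gout, gfix⟩ := ih fun b hb => hS b (Finset.mem_insert_of_mem hb)
      have hap : (pr p).val < (pr a).val := hS a (Finset.mem_insert_self _ _)
      have hne : pr a ≠ pr (op p) := by rw [pr_op]; exact fun e => by omega
      obtain ⟨h1, h2, h3, h4, h5, h6, h7, h8⟩ := ne_of_pr hne
      rw [op_op] at h2 h4 h6 h8
      refine ⟨el a (op p) hne (-(((g.1 : MV) *ᵥ v) a / v p)) * g,
        mul_mem (lower_mem hne _ (le_of_lt hap) (by rw [pr_op])) hg, ?_, ?_, ?_, ?_⟩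
      · rw [iso_mul_mulVec, el_mulVec]
        simp [op_op, gp, Pi.single_eq_of_ne (Ne.symm h2), Pi.single_eq_of_ne (op_ne p).symm]
      · intro b hb
        rw [iso_mul_mulVec, el_mulVec]
        rcases Finset.mem_insert.1 hb with rfl | hb
        · simp [op_op, gp, Pi.single_eq_of_ne h1, div_mul_cancel₀ _ hp]
        · have hba : b ≠ a := fun e => ha (e ▸ hb)
          have hbp : b ≠ op p := fun e => by
            have := hS b (Finset.mem_insert_of_mem hb)
            rw [e, pr_op] at this; omega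
          simp [Pi.single_eq_of_ne hba, Pi.single_eq_of_ne hbp, gS b hb]
      · intro b hb hbp
        rw [iso_mul_mulVec, el_mulVec]
        simp [Pi.single_eq_of_ne fun e : b = a => hb (e ▸ Finset.mem_insert_self _ _),
          Pi.single_eq_of_ne hbp, gout b (fun e => hb (Finset.mem_insert_of_mem e)) hbp]
      · intro s
        rw [iso_mul_mulVec, gfix, el_fix hne _ _ h7 (Ne.symm (op_ne (op p)))]
  obtain ⟨g, hg, gp, gS, gout, gfix⟩ := main (Finset.univ.filter fun a => (pr p).val < (pr a).val)
    fun a ha => (Finset.mem_filter.1 ha).2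
  refine ⟨g, hg, ?_, gfix⟩
  have hother : ∀ a, a ≠ p → a ≠ op p → ((g.1 : MV) *ᵥ v) a = 0 := by
    intro a h1 h2
    by_cases hlt : (pr p).val < (pr a).val
    · exact gS a (Finset.mem_filter.2 ⟨Finset.mem_univ _, hlt⟩)
    · rw [gout a (fun e => hlt (Finset.mem_filter.1 e).2) h2]
      refine hsupp a (lt_of_le_of_ne (not_lt.1 hlt) fun e => ?_)
      rcases (pr_eq_iff a p).1 (Fin.ext e) with r | r
      · exact h1 r
      · exact h2 r
  have hw : (g.1 : MV) *ᵥ v = Pi.single p (v p) + Pi.single (op p) (((g.1 : MV) *ᵥ v) (op p)) := by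
    funext a
    by_cases h1 : a = p
    · subst h1; simp [gp, Pi.single_eq_of_ne (op_ne a).symm]
    · by_cases h2 : a = op p
      · subst h2; simp [Pi.single_eq_of_ne h1]
      · simp [hother a h1 h2, Pi.single_eq_of_ne h1, Pi.single_eq_of_ne h2]
  have hq := iso_quad g v
  rw [hsing, hw, quad_add_single, quad_single, zero_add, op_op, Pi.single_eq_same] at hq
  rw [hw, (mul_eq_zero.1 hq).resolve_right hp, Pi.single_zero, add_zero]

theorem single_ne_zero (g : O) (a : I2) : (g.1 : MV) *ᵥ Pi.single a 1 ≠ 0 := by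
  intro h
  have h1 := congrArg (fun w => ((g.1⁻¹ : GL I2 F) : MV) *ᵥ w) h
  simp only [Matrix.mulVec_mulVec, ← Units.val_mul, inv_mul_cancel, Units.val_one, Matrix.one_mulVec,
    Matrix.mulVec_zero] at h1
  simpa using congrFun h1 a

/-- reduction to diagonal form -/
theorem exists_decomp (hn : 1 ≤ n) (g : O) : ∃ x ∈ elGroup n F, ∃ s : O,
    (s = 1 ∨ s = flip ⟨n - 1, by omega⟩) ∧ IsDiagO (s * (x * g)) := by
  classical
  have main : ∀ k : ℕ, k ≤ n - 1 → ∃ x ∈ elGroup n F, ∀ a : I2, (pr a).val < k →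
      ∃ d : F, ((x * g).1 : MV) *ᵥ Pi.single a 1 = Pi.single a d := by
    intro k
    induction k with
    | zero => exact fun _ => ⟨1, one_mem _, fun a h => absurd h (by omega)⟩
    | succ k ih =>
      intro hk
      obtain ⟨x, hx, hfix⟩ := ih (by omega)
      set h := x * g with hh
      let p : I2 := .inl ⟨k, by omega⟩
      have hsupp : ∀ (c : I2), k ≤ (pr c).val → ∀ a, (pr a).val < k →
          ((h.1 : MV) *ᵥ Pi.single c 1) a = 0 := by
        intro c hc a ha
        obtain ⟨d, hd⟩ := hfix (op a) (by rw [pr_op]; exact ha)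
        have h1 := iso_coord h hd (Pi.single c 1)
        rw [op_op] at h1
        have h2 := iso_coord h hd (Pi.single a 1)
        rw [op_op, Pi.single_eq_same] at h2
        have hac : a ≠ c := fun e => by rw [e] at ha; omega
        rw [Pi.single_eq_of_ne hac] at h1
        exact (mul_eq_zero.1 h1).resolve_left (left_ne_zero_of_mul_eq_one h2)
      obtain ⟨y, hy, hyp⟩ : ∃ y ∈ lower (n := n) (F := F) k, ((y.1 : MV) *ᵥ ((h.1 : MV) *ᵥ Pi.single p 1)) p ≠ 0 := by
        have hv := hsupp p le_rfl
        have hv0 := single_ne_zero h p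
        generalize (h.1 : MV) *ᵥ Pi.single p 1 = v at hv hv0
        by_cases h0 : v p = 0
        · by_cases h1 : ∃ a, v a ≠ 0 ∧ k < (pr a).val
          · obtain ⟨a, ha, hka⟩ := h1
            have hne : pr p ≠ pr (op a) := by rw [pr_op]; exact fun e => by simp [p, ← e] at hka
            refine ⟨el p (op a) hne 1, lower_mem hne 1 le_rfl (by rw [pr_op]; omega), ?_⟩
            rw [el_mulVec]
            simpa [op_op, h0, Pi.single_eq_of_ne (ne_of_pr hne).1] using ha
          · push Not at h1
            have hq : v (op p) ≠ 0 := by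
              intro hq
              refine hv0 (funext fun a => ?_)
              by_cases hak : (pr a).val < k
              · exact hv a hak
              · by_cases hak' : k < (pr a).val
                · by_contra e
                  exact absurd (h1 a e) (by omega)
                · have : pr a = pr p := Fin.ext (by simp only [p, pr, Sum.elim_inl, id_eq]; simp only [pr] at hak hak'; omega)
                  rcases (pr_eq_iff a p).1 this with r | r <;> simp [r, h0, hq]
            let c : I2 := .inl ⟨k + 1, by omega⟩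
            have hcp : pr c ≠ pr p := fun e => by simpa [c, p] using congrArg Fin.val e
            have hpc : pr p ≠ pr (op (c : I2)) := by rw [pr_op]; exact hcp.symm
            refine ⟨el p (op c) hpc 1 * el c p hcp 1, mul_mem (lower_mem hpc 1 le_rfl (by
              rw [pr_op]; simp [c])) (lower_mem hcp 1 (by simp [c]) le_rfl), ?_⟩
            have hc0 : v c = 0 := by
              by_contra e
              exact absurd (h1 c e) (by simp [c])
            have hc1 : v (op c) = 0 := by
              by_contra e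
              exact absurd (h1 (op c) e) (by rw [pr_op]; simp [c])
            rw [iso_mul_mulVec, el_mulVec, el_mulVec]
            obtain ⟨e1, e2, e3, e4, e5, e6, e7, e8⟩ := ne_of_pr hcp
            simpa [op_op, h0, hc0, hc1, Pi.single_eq_of_ne e5, Pi.single_eq_of_ne (ne_of_pr hpc).1,
              Pi.single_eq_of_ne e1] using hq
        · exact ⟨1, one_mem _, by simpa using h0⟩
      have yfix : ∀ a : I2, (pr a).val < k → ∃ d : F, ((y * h).1 : MV) *ᵥ Pi.single a 1 = Pi.single a d := by
        intro a ha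
        obtain ⟨d, hd⟩ := hfix a ha
        exact ⟨d, by rw [iso_mul_mulVec, hd, lower_fix hy ha]⟩
      have hs1 : ∀ a, (pr a).val < (pr p).val → (((y * h).1 : MV) *ᵥ Pi.single p 1) a = 0 := by
        intro a ha
        obtain ⟨d, hd⟩ := yfix (op a) (by rw [pr_op]; exact ha)
        have h1 := iso_coord _ hd (Pi.single p 1)
        rw [op_op] at h1
        have h2 := iso_coord _ hd (Pi.single a 1)
        rw [op_op, Pi.single_eq_same] at h2
        rw [Pi.single_eq_of_ne (fun e => by rw [e] at ha; omega)] at h1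
        exact (mul_eq_zero.1 h1).resolve_left (left_ne_zero_of_mul_eq_one h2)
      obtain ⟨z, hz, hzp, -⟩ := clear_vec (p := p) (((y * h).1 : MV) *ᵥ Pi.single p 1)
        (by rw [iso_mul_mulVec]; exact hyp) hs1 (by rw [iso_quad, quad_single])
      set h' := z * (y * h) with hh'
      set l := (((y * h).1 : MV) *ᵥ Pi.single p 1) p
      have hp' : (h'.1 : MV) *ᵥ Pi.single p 1 = Pi.single p l := by rw [hh', iso_mul_mulVec, hzp]
      have zfix : ∀ a : I2, (pr a).val < k → ∃ d : F, (h'.1 : MV) *ᵥ Pi.single a 1 = Pi.single a d := by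
        intro a ha
        obtain ⟨d, hd⟩ := yfix a ha
        exact ⟨d, by rw [hh', iso_mul_mulVec, hd, lower_fix hz ha]⟩
      have hq0 : l * ((h'.1 : MV) *ᵥ Pi.single (op p) 1) (op p) = 1 := by
        have := iso_coord h' hp' (Pi.single (op p) 1)
        rwa [Pi.single_eq_same] at this
      have hs2 : ∀ a, (pr a).val < (pr (op p)).val → ((h'.1 : MV) *ᵥ Pi.single (op p) 1) a = 0 := by
        intro a ha
        rw [pr_op] at ha
        obtain ⟨d, hd⟩ := zfix (op a) (by rw [pr_op]; exact ha)
        have h1 := iso_coord _ hd (Pi.single (op p) 1)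
        rw [op_op] at h1
        have h2 := iso_coord _ hd (Pi.single a 1)
        rw [op_op, Pi.single_eq_same] at h2
        rw [Pi.single_eq_of_ne (fun e => by rw [e, pr_op] at ha; omega)] at h1
        exact (mul_eq_zero.1 h1).resolve_left (left_ne_zero_of_mul_eq_one h2)
      obtain ⟨w, hw, hwq, hwp⟩ := clear_vec (p := op p) ((h'.1 : MV) *ᵥ Pi.single (op p) 1)
        (right_ne_zero_of_mul_eq_one hq0) hs2 (by rw [iso_quad, quad_single])
      rw [op_op] at hwp
      rw [pr_op] at hw
      refine ⟨w * (z * (y * x)), mul_mem (lower_le _ hw) (mul_mem (lower_le _ hz) (mul_mem (lower_le _ hy) hx)),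
        fun a ha => ?_⟩
      have e : w * (z * (y * x)) * g = w * h' := by simp only [hh', hh, mul_assoc]
      rw [e]
      by_cases hak : (pr a).val < k
      · obtain ⟨d, hd⟩ := zfix a hak
        exact ⟨d, by rw [iso_mul_mulVec, hd, lower_fix hw hak]⟩
      · have : pr a = pr p := Fin.ext (by simp only [p, pr, Sum.elim_inl, id_eq]; simp only [pr] at hak ha; omega)
        rcases (pr_eq_iff a p).1 this with r | r <;> subst r
        · exact ⟨l, by rw [iso_mul_mulVec, hp', hwp]⟩
        · exact ⟨_, by rw [iso_mul_mulVec, hwq]⟩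
  obtain ⟨x, hx, hfix⟩ := main (n - 1) le_rfl
  refine ⟨x, hx, ?_⟩
  set h := x * g
  let i : Fin n := ⟨n - 1, by omega⟩
  have hsupp : ∀ (c : I2), pr c = i → ∀ a, pr a ≠ i → ((h.1 : MV) *ᵥ Pi.single c 1) a = 0 := by
    intro c hc a ha
    have hlt : (pr a).val < n - 1 := by
      have h1 := (pr a).isLt
      have h2 : (pr a).val ≠ n - 1 := fun e => ha (Fin.ext e)
      omega
    obtain ⟨d, hd⟩ := hfix (op a) (by rw [pr_op]; exact hlt)
    have h1 := iso_coord h hd (Pi.single c 1)
    rw [op_op] at h1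
    have h2 := iso_coord h hd (Pi.single a 1)
    rw [op_op, Pi.single_eq_same] at h2
    rw [Pi.single_eq_of_ne (fun e : a = c => ha (by rw [e]; exact hc))] at h1
    exact (mul_eq_zero.1 h1).resolve_left (left_ne_zero_of_mul_eq_one h2)
  have hform : ∀ (c : I2), pr c = i → (h.1 : MV) *ᵥ Pi.single c 1 =
      Pi.single (.inl i) (((h.1 : MV) *ᵥ Pi.single c 1) (.inl i)) +
      Pi.single (.inr i) (((h.1 : MV) *ᵥ Pi.single c 1) (.inr i)) := by
    intro c hc
    funext a
    by_cases ha : pr a = i
    · rcases a with j | j <;> (simp only [pr, Sum.elim_inl, Sum.elim_inr, id_eq] at ha; subst ha; simp)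
    · rw [hsupp c hc a ha]
      simp [Pi.single_eq_of_ne (fun e : a = .inl i => ha (by rw [e]; rfl)),
        Pi.single_eq_of_ne (fun e : a = .inr i => ha (by rw [e]; rfl))]
  have hprod : ∀ (c : I2), pr c = i →
      ((h.1 : MV) *ᵥ Pi.single c 1) (.inl i) * ((h.1 : MV) *ᵥ Pi.single c 1) (.inr i) = 0 := by
    intro c hc
    have hq := iso_quad h (Pi.single c 1)
    rw [quad_single, hform c hc, quad_add_single, quad_single, zero_add] at hq
    simp [op] at hq
    rcases hq with e | e <;> simp [e]
  have hpair := quad_add_single ((h.1 : MV) *ᵥ Pi.single (.inl i) 1) (.inl i) 0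
  clear hpair
  -- the two images in the last pair
  set a1 := ((h.1 : MV) *ᵥ Pi.single (.inl i) 1) (.inl i) with ha1
  set b1 := ((h.1 : MV) *ᵥ Pi.single (.inl i) 1) (.inr i) with hb1
  set a2 := ((h.1 : MV) *ᵥ Pi.single (.inr i) 1) (.inl i) with ha2
  set b2 := ((h.1 : MV) *ᵥ Pi.single (.inr i) 1) (.inr i) with hb2
  have hB : a1 * b2 + b1 * a2 = 1 := by
    have e := iso_quad h (Pi.single (.inl i) 1 + Pi.single (.inr i) 1)
    have u1 := hform (.inl i) rfl
    have u2 := hform (.inr i) rfl
    rw [← ha1, ← hb1] at u1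
    rw [← ha2, ← hb2] at u2
    rw [Matrix.mulVec_add, u1, u2, quad_add_single, quad_single, zero_add] at e
    have hs : (Pi.single (Sum.inl i) a1 : V) + (Pi.single (Sum.inr i) b1 : V) +
        ((Pi.single (Sum.inl i) a2 : V) + (Pi.single (Sum.inr i) b2 : V)) =
        (Pi.single (Sum.inl i) (a1 + a2) : V) + (Pi.single (Sum.inr i) (b1 + b2) : V) := by
      rw [Pi.single_add, Pi.single_add]; abel
    rw [hs, quad_add_single, quad_single, zero_add] at e
    simp [op] at e
    linear_combination e - hprod (.inl i) rfl - hprod (.inr i) rfl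
  by_cases hb : b1 = 0
  · have ha2' : a2 = 0 := by
      have hb2' : b2 ≠ 0 := fun e => by simp [hb, e] at hB
      exact (mul_eq_zero.1 (hprod (.inr i) rfl)).resolve_right hb2'
    refine ⟨1, Or.inl rfl, ⟨fun a => ((h.1 : MV) *ᵥ Pi.single a 1) a, fun a => ?_⟩⟩
    rw [one_mul]
    by_cases ha : pr a = i
    · rcases a with j | j <;> simp only [pr, Sum.elim_inl, Sum.elim_inr, id_eq] at ha <;> subst ha
      · conv_lhs => rw [hform _ rfl, ← hb1, hb, Pi.single_zero, add_zero]
      · conv_lhs => rw [hform _ rfl, ← ha2, ha2', Pi.single_zero, zero_add]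
    · obtain ⟨d, hd⟩ := hfix a (by
        have h1 := (pr a).isLt
        have h2 : (pr a).val ≠ n - 1 := fun e => ha (Fin.ext e)
        omega)
      simp [hd]
  · have ha1' : a1 = 0 := (mul_eq_zero.1 (hprod (.inl i) rfl)).resolve_right hb
    have hb2' : b2 = 0 := by
      have ha2' : a2 ≠ 0 := fun e => by simp [ha1', e] at hB
      exact (mul_eq_zero.1 (hprod (.inr i) rfl)).resolve_left ha2'
    have hex : ∀ a : I2, ∃ d : F, ((flip i * h).1 : MV) *ᵥ Pi.single a 1 = Pi.single a d := by
      intro a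
      by_cases ha : pr a = i
      · rcases a with j | j <;> simp only [pr, Sum.elim_inl, Sum.elim_inr, id_eq] at ha <;> subst ha
        · refine ⟨b1, ?_⟩
          rw [iso_mul_mulVec, hform _ rfl, ← ha1, ← hb1, ha1', Pi.single_zero, zero_add, flip_single]
          simp [flipPerm]
        · refine ⟨a2, ?_⟩
          rw [iso_mul_mulVec, hform _ rfl, ← ha2, ← hb2, hb2', Pi.single_zero, add_zero, flip_single]
          simp [flipPerm]
      · obtain ⟨d, hd⟩ := hfix a (by
          have h1 := (pr a).isLt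
          have h2 : (pr a).val ≠ n - 1 := fun e => ha (Fin.ext e)
          omega)
        have hfl : flipPerm i a = a := Equiv.swap_apply_of_ne_of_ne
          (fun e => ha (by rw [e]; rfl)) (fun e => ha (by rw [e]; rfl))
        exact ⟨d, by rw [iso_mul_mulVec, hd, flip_single, hfl]⟩
    choose d hd using hex
    exact ⟨flip i, Or.inr rfl, d, hd⟩

/-- the torus element of a pair -/
noncomputable def tor (a b : I2) (h : pr a ≠ pr b) (h' : pr (op a) ≠ pr (op b)) (c : F) : O :=
  el a b h c * el (op a) (op b) h' c⁻¹ * el a b h c *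
    (el a b h (-1) * el (op a) (op b) h' (-1) * el a b h (-1))

theorem tor_mem {a b : I2} (h : pr a ≠ pr b) (h' : pr (op a) ≠ pr (op b)) (c : F) :
    tor a b h h' c ∈ elGroup n F :=
  mul_mem (mul_mem (mul_mem (el_mem h _) (el_mem h' _)) (el_mem h _))
    (mul_mem (mul_mem (el_mem h _) (el_mem h' _)) (el_mem h _))

set_option maxHeartbeats 2000000 in
theorem tor_mulVec {a b : I2} (h : pr a ≠ pr b) (h' : pr (op a) ≠ pr (op b)) {c : F} (hc : c ≠ 0) (v : V) :
    ((tor a b h h' c).1 : MV) *ᵥ v = fun k =>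
      (if k = a ∨ k = b then c else if k = op a ∨ k = op b then c⁻¹ else 1) * v k := by
  obtain ⟨a1, a2, a3, a4, a5, a6, a7, a8⟩ := ne_of_pr h
  simp only [tor, iso_mul_mulVec, el_mulVec]
  funext k
  simp only [op_op, Pi.add_apply, Pi.sub_apply, Pi.single_apply, a1, a2, a3, a4, a5, a6, a7, a8, op_ne,
    Ne.symm (op_ne a), Ne.symm (op_ne b), if_false, if_true]
  by_cases ka : k = a
  · subst ka; simp_all [op_ne, Ne.symm (op_ne k)] <;> field_simp <;> ring
  by_cases kb : k = b
  · subst kb; simp_all [op_ne, Ne.symm (op_ne k)] <;> field_simp <;> ring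
  by_cases ka' : k = op a
  · subst ka'; simp_all [op_ne, Ne.symm (op_ne a)] <;> field_simp <;> ring
  by_cases kb' : k = op b
  · subst kb'; simp_all [op_ne, Ne.symm (op_ne b)] <;> field_simp <;> ring
  simp_all

theorem flip_commutes (hn : 2 ≤ n) (i : Fin n) {d : O} (hd : IsDiagO d) :
    flip i * d * (flip i)⁻¹ * d⁻¹ ∈ elGroup n F := by
  obtain ⟨e, he⟩ := hd
  have hi := diag_mul_pair he (.inl i)
  change e (.inl i) * e (.inr i) = 1 at hi
  have hc : e (.inr i) ≠ 0 := right_ne_zero_of_mul_eq_one hi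
  obtain ⟨j, hj⟩ : ∃ j : Fin n, j ≠ i := Fintype.exists_ne_of_one_lt_card (by simpa using by omega) i
  have h1 : pr (.inl i : I2) ≠ pr (.inl j) := Ne.symm hj
  have h2 : pr (.inl i : I2) ≠ pr (.inr j) := Ne.symm hj
  have key : flip i * d * (flip i)⁻¹ * d⁻¹ =
      tor (.inl i) (.inl j) h1 (by simpa [op, pr] using h1) (e (.inr i)) *
        tor (.inl i) (.inr j) h2 (by simpa [op, pr] using h1) (e (.inr i)) := by
    rw [mul_inv_eq_iff_eq_mul]
    refine iso_ext fun v => ?_
    rw [iso_mul_mulVec, iso_mul_mulVec, iso_mul_mulVec, iso_mul_mulVec, flip_inv, flip_mulVec, flip_mulVec,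
      diag_mulVec he, diag_mulVec he, tor_mulVec _ _ hc, tor_mulVec _ _ hc]
    funext k
    have hk := diag_mul_pair he k
    rcases k with k | k <;> by_cases hki : k = i <;> by_cases hkj : k = j <;>
      simp_all [flipPerm, op, Equiv.swap_apply_def] <;> grind
  rw [key]
  exact mul_mem (tor_mem _ _ _) (tor_mem _ _ _)

/-- `Ω⁺_{2n}` is the elementary subgroup. -/
theorem omega_eq (hn : 3 ≤ n) : Cfsg.Omega F (Cfsg.quadFormPlus n F) = elGroup n F := by
  refine le_antisymm ?_ (elGroup_le_commutator hn)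
  let i : Fin n := ⟨n - 1, by omega⟩
  have hnorm : (elGroup n F).Normal := by
    refine ⟨fun x hx g => ?_⟩
    obtain ⟨y, hy, s, hs, hd⟩ := exists_decomp (F := F) (by omega) g
    have h1 := diag_normalises hd hx
    have h2 : s⁻¹ * (s * (y * g) * x * (s * (y * g))⁻¹) * s ∈ elGroup n F := by
      rcases hs with rfl | rfl
      · simpa using h1
      · have := flip_normalises i h1
        rw [flip_inv] at this ⊢
        exact this
    have h3 := mul_mem (mul_mem (inv_mem hy) h2) hy
    convert h3 using 1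
    group
  have ha : ∀ y ∈ elGroup n F, QuotientGroup.mk' (elGroup n F) y = 1 := fun y hy =>
    (QuotientGroup.eq_one_iff _).2 hy
  have hgen : ∀ g : O, ∃ (s d : O), (s = 1 ∨ s = flip i) ∧ IsDiagO d ∧
      QuotientGroup.mk' (elGroup n F) g = QuotientGroup.mk' _ s * QuotientGroup.mk' _ d := by
    intro g
    obtain ⟨y, hy, s, hs, hd⟩ := exists_decomp (F := F) (by omega) g
    refine ⟨s, s * (y * g), hs, hd, ?_⟩
    have hs2 : s * s = 1 := by
      rcases hs with rfl | rfl
      · simp
      · exact mul_eq_one_iff_eq_inv.2 (flip_inv i).symm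
    rw [← map_mul, ← mul_assoc, hs2, one_mul, map_mul, ha y hy, one_mul]
  have hsd : ∀ s d : O, (s = 1 ∨ s = flip i) → IsDiagO d →
      Commute (QuotientGroup.mk' (elGroup n F) s) (QuotientGroup.mk' _ d) := by
    intro s d hs hd
    rcases hs with rfl | rfl
    · rw [map_one]; exact Commute.one_left _
    · have := ha _ (flip_commutes (by omega) i hd)
      rw [map_mul, map_mul, map_mul, map_inv, map_inv, mul_inv_eq_one, mul_inv_eq_iff_eq_mul] at this
      exact this
  have hc : ∀ x y : O, QuotientGroup.mk' (elGroup n F) x * QuotientGroup.mk' _ y =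
      QuotientGroup.mk' _ y * QuotientGroup.mk' _ x := by
    intro x y
    obtain ⟨s, d, hs, hd, ex⟩ := hgen x
    obtain ⟨s', d', hs', hd', ey⟩ := hgen y
    have hdd : Commute (QuotientGroup.mk' (elGroup n F) d) (QuotientGroup.mk' _ d') := by
      show _ * _ = _ * _
      rw [← map_mul, ← map_mul, diag_commute hd hd']
    have hss : Commute (QuotientGroup.mk' (elGroup n F) s) (QuotientGroup.mk' _ s') := by
      rcases hs with rfl | rfl <;> rcases hs' with rfl | rfl <;>
        first
          | exact Commute.refl _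
          | (rw [map_one]; first | exact Commute.one_left _ | exact Commute.one_right _)
    rw [ex, ey]
    exact (((hss.mul_right (hsd s d' hs hd'))).mul_left
      ((hsd s' d hs' hd).symm.mul_right hdd))
  change commutator O ≤ _
  rw [← QuotientGroup.ker_mk' (elGroup n F), commutator_def, Subgroup.commutator_le]
  intro x _ y _
  rw [MonoidHom.mem_ker, map_commutatorElement, commutatorElement_def, hc]
  group

/-- isometries commuting with all elementary transformations are scalars -/
theorem scalar_of_commute (hn : 3 ≤ n) {g : O}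
    (h : ∀ a b hab, g * el a b hab 1 = el a b hab 1 * g) : ∃ c : F, (g.1 : MV) = c • (1 : MV) := by
  have key : ∀ a b : I2, ∀ hab : pr a ≠ pr b, ∀ k : I2,
      (g.1 : MV) k a = (if k = a then (g.1 : MV) (op b) (op b) else 0) -
        (if k = b then (g.1 : MV) (op a) (op b) else 0) := by
    intro a b hab k
    have e := congrArg (fun x : O => (x.1 : MV)) (h a b hab)
    simp only [Subgroup.coe_mul, Units.val_mul, el_val, elMat, Matrix.mul_add, Matrix.add_mul,
      Matrix.mul_sub, Matrix.sub_mul, Matrix.mul_one, Matrix.one_mul] at e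
    have e' := congrFun (congrFun e k) (op b)
    clear h e
    obtain ⟨a1, a2, a3, a4, a5, a6, a7, a8⟩ := ne_of_pr hab
    simp [Matrix.sub_apply, Matrix.add_apply, Matrix.single_mul_apply_same, a4, a8] at e'
    by_cases ka : k = a <;> by_cases kb : k = b <;> simp_all <;> grind
  obtain ⟨i0⟩ : Nonempty (Fin n) := ⟨⟨0, by omega⟩⟩
  refine ⟨(g.1 : MV) (.inl i0) (.inl i0), ?_⟩
  have hoff : ∀ k a : I2, k ≠ a → (g.1 : MV) k a = 0 := by
    intro k a hka
    obtain ⟨l, hla, hlk⟩ := exists_third hn (pr a) (pr k)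
    have hab : pr a ≠ pr (.inl l : I2) := Ne.symm hla
    rw [key a (.inl l) hab k, if_neg hka, if_neg (fun e => hlk (by rw [e]; rfl)), sub_zero]
  have hdiag : ∀ a b : I2, pr a ≠ pr b → (g.1 : MV) a a = (g.1 : MV) b b := by
    intro a b hab
    have hab' : pr a ≠ pr (op b) := by rwa [pr_op]
    rw [key a (op b) hab' a, if_pos rfl, op_op, if_neg (ne_of_pr hab').1, sub_zero]
  have hall : ∀ a b : I2, (g.1 : MV) a a = (g.1 : MV) b b := by
    intro a b
    obtain ⟨l, hla, hlb⟩ := exists_third hn (pr a) (pr b)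
    rw [hdiag a (.inl l) (Ne.symm hla), hdiag (.inl l) b hlb]
  ext a b
  by_cases hab : a = b
  · subst hab; simp [hall a (.inl i0)]
  · simp [hoff a b hab, hab]

end Cfsg.Agent.H27.SplitOrtho
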