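import Cfsg.Agent.H27.SylowData

/-! A common finite table defines a subgroup and a homomorphism out of it. -/

set_option autoImplicit false

namespace Cfsg.Agent.H27.SylowModel

/-- decode -/
def dig (w : ℕ) (x i : ℕ) : ℕ := (x >>> (w * i)) % 2 ^ w

variable {G H : Type*} [Group G] [Finite G] [Monoid H] {N r : ℕ}
  {T : Fin N → G} {U : Fin N → H} {z : Fin N} {g : Fin r → Fin N} {tbl : Fin N → Fin r → Fin N}

omit [Finite G] in
theorem closed (hz : T z = 1) (hz' : U z = 1) (hT : ∀ i s, T i * T (g s) = T (tbl i s))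
    (hU : ∀ i s, U i * U (g s) = U (tbl i s))
    (hreach : ∀ i, i = z ∨ ∃ j s, j < i ∧ tbl j s = i) :
    ∀ i j, ∃ k, T j * T i = T k ∧ U j * U i = U k := by
  intro i
  induction i using WellFoundedLT.induction with
  | ind i ih =>
    intro j
    rcases hreach i with rfl | ⟨j', s, hlt, rfl⟩
    · exact ⟨j, by rw [hz, mul_one], by rw [hz', mul_one]⟩
    · obtain ⟨k, h1, h2⟩ := ih j' hlt j
      exact ⟨tbl k s, by rw [← hT, ← hT, ← mul_assoc, h1], by rw [← hU, ← hU, ← mul_assoc, h2]⟩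

omit [Finite G] [Group G] in
theorem pred_of_gens {P : H → Prop} (h1 : P 1) (hmul : ∀ a b, P a → P b → P (a * b))
    (hg : ∀ s, P (U (g s))) (hz' : U z = 1) (hU : ∀ i s, U i * U (g s) = U (tbl i s))
    (hreach : ∀ i, i = z ∨ ∃ j s, j < i ∧ tbl j s = i) : ∀ i, P (U i) := by
  intro i
  induction i using WellFoundedLT.induction with
  | ind i ih =>
    rcases hreach i with rfl | ⟨j', s, hlt, rfl⟩
    · rw [hz']; exact h1
    · rw [← hU]; exact hmul _ _ (ih j' hlt) (hg s)

theorem exists_model (hinj : Function.Injective T) (hz : T z = 1) (hz' : U z = 1)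
    (hT : ∀ i s, T i * T (g s) = T (tbl i s)) (hU : ∀ i s, U i * U (g s) = U (tbl i s))
    (hreach : ∀ i, i = z ∨ ∃ j s, j < i ∧ tbl j s = i) :
    ∃ (P : Subgroup G) (f : P →* H), Nat.card P = N ∧ ∀ x : P, ∃ i, (x : G) = T i ∧ f x = U i := by
  classical
  have hc := closed hz hz' hT hU hreach
  let S : Submonoid G :=
    { carrier := Set.range T
      one_mem' := ⟨z, hz⟩
      mul_mem' := by
        rintro _ _ ⟨i, rfl⟩ ⟨j, rfl⟩
        obtain ⟨k, hk, -⟩ := hc j i
        exact ⟨k, hk.symm⟩ }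
  let P : Subgroup G :=
    { S with
      inv_mem' := by
        intro x hx
        have e : x⁻¹ = x ^ (orderOf x - 1) := by
          refine inv_eq_of_mul_eq_one_right ?_
          rw [← pow_succ', Nat.sub_add_cancel (orderOf_pos x), pow_orderOf_eq_one]
        change x⁻¹ ∈ S
        rw [e]
        exact S.pow_mem hx _ }
  have hmem : ∀ x : P, ∃ i, (x : G) = T i := fun x => by
    obtain ⟨i, hi⟩ := x.2
    exact ⟨i, hi.symm⟩
  choose idx hidx using hmem
  have hval : ∀ x : P, ∀ i, (x : G) = T i → idx x = i := fun x i h =>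
    hinj ((hidx x).symm.trans h)
  refine ⟨P, { toFun := fun x => U (idx x)
               map_one' := by rw [hval 1 z (by rw [hz]; rfl), hz']
               map_mul' := fun x y => ?_ }, ?_, fun x => ⟨idx x, hidx x, rfl⟩⟩
  · obtain ⟨k, h1, h2⟩ := hc (idx y) (idx x)
    rw [hval (x * y) k (by rw [Subgroup.coe_mul, hidx x, hidx y, h1]), h2]
  · change Nat.card (Set.range T) = N
    rw [Nat.card_range_of_injective hinj, Nat.card_fin]

theorem sylow_key {L : Type*} [Group L] [Finite L] {k c : ℕ} (hc : Odd c) (hL : Nat.card L = 2 ^ k * c)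
    (X : Subgroup L) (hX : Nat.card X = 2 ^ k) (Y : Sylow 2 L) :
    Nonempty (X ≃* (Y : Subgroup L)) := by
  have : Fact (Nat.Prime 2) := ⟨Nat.prime_two⟩
  obtain ⟨Z, hZ⟩ := (IsPGroup.of_card hX : IsPGroup 2 X).exists_le_sylow
  have h2 : Nat.card (Z : Subgroup L) ∣ 2 ^ k * c := hL ▸ Subgroup.card_subgroup_dvd_card _
  obtain ⟨n, hn⟩ := IsPGroup.iff_card.1 Z.isPGroup'
  rw [hn] at h2
  have hco : Nat.Coprime (2 ^ n) c := Nat.Coprime.pow_left _ (Nat.coprime_two_left.2 hc)
  have hle : 2 ^ n ≤ 2 ^ k := Nat.le_of_dvd (Nat.two_pow_pos k) (hco.dvd_of_dvd_mul_right h2)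
  have e : X = (Z : Subgroup L) := Subgroup.eq_of_le_of_card_ge hZ (by rw [hX, hn]; exact hle)
  rw [e]
  exact ⟨Sylow.equiv Z Y⟩

theorem sylow_equiv {K : Type*} [Group K] [Finite K] {k a b : ℕ} (ha : Odd a) (hb : Odd b)
    (hG : Nat.card G = 2 ^ k * a) (hK : Nat.card K = 2 ^ k * b) (P : Subgroup G)
    (hP : Nat.card P = 2 ^ k) (f : P →* K) (hf : Function.Injective f) (S : Sylow 2 G)
    (R : Sylow 2 K) : Nonempty ((S : Subgroup G) ≃* (R : Subgroup K)) := by
  obtain ⟨e1⟩ := sylow_key ha hG P hP S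
  have hr : Nat.card f.range = 2 ^ k := by
    rw [← hP]; exact (Nat.card_congr (MonoidHom.ofInjective hf).toEquiv).symm
  obtain ⟨e2⟩ := sylow_key hb hK f.range hr R
  exact ⟨e1.symm.trans ((MonoidHom.ofInjective hf).trans e2)⟩

end Cfsg.Agent.H27.SylowModel
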