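import Cfsg.Agent.H27.SylowModel

/-!
Tabulated 2-group inside `Sp(4,3)` and its permutations.
-/
set_option autoImplicit false
set_option Elab.async false

namespace Cfsg.Agent.S2931

open Matrix Cfsg.Agent.H27.SylowModel Cfsg.Agent.H27.SylowData

def pf {N : ℕ} (w : ℕ) (i : Fin N) (k : Fin 8) : Fin 8 := ⟨dig 3 w (8 * i.1 + k.1) % 8, Nat.mod_lt _ (by norm_num)⟩

def idx {N : ℕ} (hN : 0 < N) (w x : ℕ) : Fin N := ⟨dig 7 w x % N, Nat.mod_lt _ hN⟩

def idE {ι : Type} [DecidableEq ι] {R : Type} [Zero R] [One R] (r c : ι) : R := if r = c then 1 else 0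

abbrev I4 : Type := Fin 2 ⊕ Fin 2

def i4 : I4 → ℕ := Sum.elim (fun k => k.1) (fun k => 2 + k.1)

def spE (i : Fin 64) (r c : I4) : ZMod 3 := (dig 2 spMats (16 * i.1 + 4 * i4 r + i4 c) : ℕ)

def spM (i : Fin 64) : Matrix I4 I4 (ZMod 3) := Matrix.of (spE i)

def jE (r c : I4) : ZMod 3 := Matrix.J (Fin 2) (ZMod 3) r c

theorem spInv_spec : ∀ (i : Fin 64) (k : Fin 8),
    pf spPerms (idx (by norm_num : 0 < 64) spInv i) (pf spPerms i k) = k ∧
      pf spPerms i (pf spPerms (idx (by norm_num : 0 < 64) spInv i) k) = k := by decide +kernel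

def spP (i : Fin 64) : Equiv.Perm (Fin 8) :=
  ⟨pf spPerms i, pf spPerms (idx (by norm_num) spInv i), fun k => (spInv_spec i k).1, fun k => (spInv_spec i k).2⟩

def spT (i : Fin 64) (s : Fin 3) : Fin 64 := idx (by norm_num) spTbl (3 * i.1 + s.1)

theorem spP_mul : ∀ i s, spP i * spP (spGens s) = spP (spT i s) := by
  have h : ∀ i s k, pf spPerms i (pf spPerms (spGens s) k) = pf spPerms (spT i s) k := by decide +kernel
  exact fun i s => Equiv.ext fun k => h i s k

theorem spP_one : spP 0 = 1 := by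
  have h : ∀ k, pf spPerms (0 : Fin 64) k = k := by decide +kernel
  exact Equiv.ext h

theorem spP_inj : Function.Injective spP := by
  have h : ∀ i j : Fin 64, (∀ k, pf spPerms i k = pf spPerms j k) → i = j := by decide +kernel
  exact fun i j e => h i j fun k => Equiv.congr_fun e k

theorem sp_reach : ∀ i : Fin 64, i = 0 ∨ ∃ j s, j < i ∧ spT j s = i := by decide +kernel

theorem sp_sign : ∀ s, Equiv.Perm.sign (spP (spGens s)) = 1 := by decide +kernel

theorem spE_form : ∀ i r c, (∑ x, (∑ y, spE i r y * jE y x) * spE i c x) = jE r c := by decide +kernel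

theorem spE_mul : ∀ i s, (∀ r c, (∑ x, spE i r x * spE (spGens s) x c) = spE (spT i s) r c) ∨
    ∀ r c, (∑ x, spE i r x * spE (spGens s) x c) = - spE (spT i s) r c := by decide +kernel

theorem spE_zero : (∀ r c, spE 0 r c = idE r c) ∨ ∀ r c, spE 0 r c = - idE r c := by decide +kernel

theorem spE_scalar : ∀ i : Fin 64, i ≠ 0 → ∀ c : ZMod 3, ¬ ∀ r k, spE i r k = if r = k then c else 0 := by
  decide +kernel

end Cfsg.Agent.S2931
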