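import Cfsg.Agent.H27.SylowModel
import Cfsg.Agent.H27.SylowSp

/-!
Tabulated 2-group inside an orthogonal group on six points and its permutations.
-/
set_option autoImplicit false
set_option Elab.async false

namespace Cfsg.Agent.S2931

open Matrix Cfsg.Agent.H27.SylowModel Cfsg.Agent.H27.SylowData

abbrev I6 : Type := (Fin 2 ⊕ Fin 2) ⊕ Fin 2

def i6 : I6 → ℕ := Sum.elim i4 (fun k => 4 + k.1)

def oE (i : Fin 128) (r c : I6) : ZMod 2 := (dig 2 oMats (36 * i.1 + 6 * i6 r + i6 c) : ℕ)

def oM (i : Fin 128) : Matrix I6 I6 (ZMod 2) := Matrix.of (oE i)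

theorem oInv_spec : ∀ (i : Fin 128) (k : Fin 8),
    pf oPerms (idx (by norm_num : 0 < 128) oInv i) (pf oPerms i k) = k ∧
      pf oPerms i (pf oPerms (idx (by norm_num : 0 < 128) oInv i) k) = k := by decide +kernel

def oP (i : Fin 128) : Equiv.Perm (Fin 8) :=
  ⟨pf oPerms i, pf oPerms (idx (by norm_num) oInv i), fun k => (oInv_spec i k).1, fun k => (oInv_spec i k).2⟩

def oT (i : Fin 128) (s : Fin 3) : Fin 128 := idx (by norm_num) oTbl (3 * i.1 + s.1)

theorem oP_mul : ∀ i s, oP i * oP (oGens s) = oP (oT i s) := by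
  have h : ∀ i s k, pf oPerms i (pf oPerms (oGens s) k) = pf oPerms (oT i s) k := by decide +kernel
  exact fun i s => Equiv.ext fun k => h i s k

theorem oP_one : oP 0 = 1 := by
  have h : ∀ k, pf oPerms (0 : Fin 128) k = k := by decide +kernel
  exact Equiv.ext h

theorem oP_inj : Function.Injective oP := by
  have h : ∀ i j : Fin 128, (∀ k, pf oPerms i k = pf oPerms j k) → i = j := by decide +kernel
  exact fun i j e => h i j fun k => Equiv.congr_fun e k

theorem o_reach : ∀ i : Fin 128, i = 0 ∨ ∃ j s, j < i ∧ oT j s = i := by decide +kernel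

theorem oE_one : ∀ r c, oE 0 r c = idE r c := by decide +kernel

theorem oE_ne : ∀ i : Fin 128, i ≠ 0 → ¬ ∀ r c, oE i r c = idE r c := by decide +kernel

end Cfsg.Agent.S2931
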