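import Cfsg.Agent.H27.SylowO

/-!
Products of the tabulated matrices of degree six.
-/
set_option autoImplicit false
set_option Elab.async false

namespace Cfsg.Agent.S2931

open Matrix Cfsg.Agent.H27.SylowModel Cfsg.Agent.H27.SylowData

theorem oE_mul_0 : ∀ i r c,
    (∑ x, oE i r x * oE (oGens 0) x c) = oE (oT i 0) r c := by decide +kernel

theorem oE_mul_1 : ∀ i r c,
    (∑ x, oE i r x * oE (oGens 1) x c) = oE (oT i 1) r c := by decide +kernel

theorem oE_mul_2 : ∀ i r c,
    (∑ x, oE i r x * oE (oGens 2) x c) = oE (oT i 2) r c := by decide +kernel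

theorem oE_mul (i : Fin 128) (s : Fin 3) :
    ∀ r c, (∑ x, oE i r x * oE (oGens s) x c) = oE (oT i s) r c := by
  fin_cases s
  · exact oE_mul_0 i
  · exact oE_mul_1 i
  · exact oE_mul_2 i

end Cfsg.Agent.S2931
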